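import Cfsg.Agent.Mrg.Omega.S5.Syl_m3
import Cfsg.Agent.Mrg.Omega.VP
import Cfsg.Agent.Mrg.Omega.NO3b.Closed.Base_m3
import Cfsg.Agent.Mrg.Omega.TTn.DiCoreAbs
import Cfsg.Agent.Mrg.Omega.FrameI
import Cfsg.Agent.Mrg.Omega.ML.MinIrr
import Cfsg.Agent.MinSimple.VModule
import Cfsg.Agent.Lib.SylowNormalInf
import Cfsg.Agent.Mrg.Omega.OM.PG.NoRad_m3
import Cfsg.Agent.Lib.GoldschmidtFusion
import Cfsg.Agent.Involutions.NormalFour
import Cfsg.Agent.Omega.NO3S.PointTI_m3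
import Mathlib
import Cfsg.Agent.Omega.NoFF.Basic
import Cfsg.Agent.FastGrp
import Cfsg.Agent.Prune
set_option linter.all false

section
prune_inst 0x7f00000000000000000000000000000000000000000000000000000000000000000000000000000000000000000000000000000000000000000000000000000000000000000000000000000000000000003fffffffffffffffffffffffffffbeffbdffffffff

-- part: Mrg/Omega/F4/Split
section
set_option linter.all false
open scoped Cfsg.Agent.FastGrp

section


/-!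
# LeafF4 (#15257): `V = C_V(O²(P)) × A`, `A` the even-subset module

`h : SymK T H V D 1 m` (one factor `S_{2^m+1}`, `V = zl T H`, `D = C_V(O²(H))`): the module splits.
Output: `EvenSet (2^m+1) A H ε`, `V = D ⊔ A`, `D ⊓ A = ⊥`, `H` centralises `D`.
-/

set_option autoImplicit false
set_option linter.unusedSectionVars false

namespace Cfsg.Agent.Omega.F4.Split

open Subgroup Pointwise Cfsg Cfsg.Agent.ZN Cfsg.Agent.Omega.FFThm Cfsg.Agent.Omega.S5.Def Cfsg.Agent.Omega.S5.Of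
open Cfsg.Agent.Omega.S5.Syl (Fix0 three_le)
open Cfsg.Agent.ZN.ChoiceSit (Syl syl_not_dvd)
open Cfsg.Agent.Omega.FrameFF (cv)
open Cfsg.Agent.MinSimple.VModule

universe u

/-- A Sylow 2-subgroup fixing the point 0 is transitive on the others. -/
theorem trans_of_surj {L : Type*} [Group L] [Finite L] {m : ℕ} (π : L →* Equiv.Perm (Fin (2 ^ m + 1)))
    (hπ : Function.Surjective π) {S' : Subgroup L} (hS2 : ¬ 2 ∣ S'.index) (h0 : ∀ s ∈ S', π s 0 = 0)
    {i j : Fin (2 ^ m + 1)} (hi : i ≠ 0) (hj : j ≠ 0) : ∃ s ∈ S', π s i = j := by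
  have h2 : Fact (Nat.Prime 2) := ⟨Nat.prime_two⟩
  let actL : MulAction L (Fin (2 ^ m + 1)) := MulAction.compHom _ π
  have hact : ∀ (g : L) (k : Fin (2 ^ m + 1)), g • k = π g k := fun g k => rfl
  let H : Subgroup L := MulAction.stabilizer L (0 : Fin (2 ^ m + 1))
  have hS'H : S' ≤ H := by
    intro s hs
    rw [MulAction.mem_stabilizer_iff, hact]
    exact h0 s hs
  let Hi : Subgroup L := H ⊓ MulAction.stabilizer L i
  let Si : Subgroup L := S' ⊓ MulAction.stabilizer L i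
  have e1 : Si.relIndex S' * S'.relIndex H = Si.relIndex H :=
    relIndex_mul_relIndex _ _ _ inf_le_left hS'H
  have e2 : Si.relIndex Hi * Hi.relIndex H = Si.relIndex H :=
    relIndex_mul_relIndex _ _ _ (inf_le_inf_right _ hS'H) inf_le_left
  have horb : ∀ (K : Subgroup L), (K ⊓ MulAction.stabilizer L i).relIndex K =
      (MulAction.orbit K i).ncard := by
    intro K
    rw [inf_relIndex_left, ← MulAction.index_stabilizer (G := K) (x := i), relIndex]
    rfl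
  have hH : Hi.relIndex H = 2 ^ m := by
    rw [horb H]
    have h1 : MulAction.orbit H i = {0}ᶜ := by
      ext k
      rw [Set.mem_compl_iff, Set.mem_singleton_iff]
      constructor
      · rintro ⟨⟨g, hg⟩, rfl⟩ hk
        have h3 : π g 0 = 0 := hg
        have h4 : π g i = 0 := hk
        exact hi ((π g).injective (h4.trans h3.symm))
      · intro hk
        obtain ⟨g, hg⟩ := hπ (Equiv.swap i k)
        refine ⟨⟨g, ?_⟩, ?_⟩
        · rw [MulAction.mem_stabilizer_iff, hact]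
          rw [hg, Equiv.swap_apply_of_ne_of_ne (Ne.symm hi) (Ne.symm hk)]
        · change π g i = k
          rw [hg, Equiv.swap_apply_left]
    rw [h1, Set.ncard_compl, Set.ncard_singleton, Nat.card_fin]
    simp
  have hodd : ¬ 2 ∣ S'.relIndex H := by
    intro h3
    apply hS2
    have h4 : S'.relIndex H * H.relIndex ⊤ = S'.relIndex ⊤ := relIndex_mul_relIndex _ _ _ hS'H le_top
    rw [relIndex_top_right (H := S')] at h4
    rw [← h4]
    exact dvd_mul_of_dvd_left h3 _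
  have hdvd : 2 ^ m ∣ Si.relIndex S' := by
    have h3 : 2 ^ m ∣ Si.relIndex S' * S'.relIndex H := by
      rw [e1, ← e2, hH]
      exact dvd_mul_left _ _
    have h4 : (2 ^ m).Coprime (S'.relIndex H) :=
      Nat.Coprime.pow_left m ((Nat.Prime.coprime_iff_not_dvd Nat.prime_two).mpr hodd)
    exact h4.dvd_of_dvd_mul_right h3
  have hle : 2 ^ m ≤ (MulAction.orbit S' i).ncard := by
    rw [← horb S']
    refine Nat.le_of_dvd (Nat.pos_of_ne_zero ?_) hdvd
    exact FiniteIndex.index_ne_zero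
  have hsub : MulAction.orbit S' i ⊆ {0}ᶜ := by
    rintro k ⟨⟨g, hg⟩, rfl⟩ hk
    have h3 : π g 0 = 0 := hS'H hg
    have h4 : π g i = 0 := hk
    exact hi ((π g).injective (h4.trans h3.symm))
  have heq : MulAction.orbit S' i = {0}ᶜ := by
    refine Set.eq_of_subset_of_ncard_le hsub ?_ (Set.toFinite _)
    rw [Set.ncard_compl, Set.ncard_singleton, Nat.card_fin]
    simpa only [_root_.add_tsub_cancel_right] using hle
  have hj' : j ∈ MulAction.orbit S' i := by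
    rw [heq]
    exact hj
  obtain ⟨⟨g, hg⟩, hgj⟩ := hj'
  exact ⟨g, hg, hgj⟩

variable {G : Type u} [Group G] {T H V D : Subgroup G} {m : ℕ}

/-- `g` acts on the coordinates as `τ` -/
def Ac (h : SymK T H V D 1 m) (g : G) (τ : Equiv.Perm (Fin (2 ^ m + 1))) : Prop :=
  ∀ v ∈ V, ∀ x, h.e (g * v * g⁻¹) 0 (τ x) = h.e v 0 x

section basic

variable (h : SymK T H V D 1 m)

theorem ac_iff {g : G} {σ : Equiv.Perm (Fin 1)} {τ : Fin 1 → Equiv.Perm (Fin (2 ^ m + 1))} :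
    ActsSym h.e V g σ τ ↔ Ac h g (τ 0) := by
  constructor
  · intro h1 v hv x
    have h2 := h1 v hv 0 x
    rwa [Subsingleton.elim (σ 0) 0] at h2
  · intro h1 v hv i x
    rw [Subsingleton.elim (σ i) 0, Subsingleton.elim i 0]
    exact h1 v hv x

theorem exists_ac {g : G} (hg : g ∈ H) : ∃ τ, Ac h g τ := by
  obtain ⟨σ, τ, h1⟩ := h.perm g hg
  exact ⟨_, (ac_iff h).1 h1⟩

theorem exists_of_perm (τ : Equiv.Perm (Fin (2 ^ m + 1))) : ∃ g ∈ H, Ac h g τ := by
  obtain ⟨g, hg, h1, -⟩ := h.lift fun _ => τ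
  exact ⟨g, hg, (ac_iff h).1 h1⟩

/-- an element of `V` with a given even vector -/
theorem exists_e {y : Fin (2 ^ m + 1) → ZMod 2} (hy : ∑ x, y x = 0) : ∃ v ∈ V, h.e v 0 = y := by
  obtain ⟨v, hv, e⟩ := h.surj (fun _ => y) fun _ => hy
  exact ⟨v, hv, by rw [e]⟩

theorem e_eq_zero {v : G} (hv : v ∈ V) : h.e v 0 = 0 ↔ v ∈ D := by
  rw [← h.ker v hv]
  constructor
  · intro h1
    funext i
    rw [Subsingleton.elim i 0, h1]
    rfl
  · intro h1
    rw [h1]
    rfl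

theorem e_mul {v w : G} (hv : v ∈ V) (hw : w ∈ V) : h.e (v * w) 0 = h.e v 0 + h.e w 0 := by
  rw [h.mul v hv w hw]
  rfl

/-- even vectors separate points -/
theorem exists_sep (hm : 1 ≤ m) {i j : Fin (2 ^ m + 1)} (hij : i ≠ j) :
    ∃ y : Fin (2 ^ m + 1) → ZMod 2, ∑ x, y x = 0 ∧ y i = 1 ∧ y j = 0 := by
  have hcard : ({i, j} : Finset (Fin (2 ^ m + 1))).card < (Finset.univ : Finset (Fin (2 ^ m + 1))).card := by
    rw [Finset.card_univ, Fintype.card_fin]
    have : 2 ^ 1 ≤ 2 ^ m := Nat.pow_le_pow_right (by norm_num) hm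
    exact lt_of_le_of_lt Finset.card_le_two (by omega)
  obtain ⟨l, -, hl⟩ := Finset.exists_mem_notMem_of_card_lt_card hcard
  simp only [Finset.mem_insert, Finset.mem_singleton, not_or] at hl
  refine ⟨Pi.single i 1 + Pi.single l 1, ?_, ?_, ?_⟩
  · simp only [Pi.add_apply, Finset.sum_add_distrib, Finset.sum_pi_single', Finset.mem_univ, if_true]
    exact CharTwo.add_self_eq_zero _
  · rw [Pi.add_apply, Pi.single_eq_same, Pi.single_eq_of_ne (Ne.symm hl.1), add_zero]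
  · rw [Pi.add_apply, Pi.single_eq_of_ne (Ne.symm hij), Pi.single_eq_of_ne (Ne.symm hl.2), add_zero]

theorem ac_unique (hm : 1 ≤ m) {g : G} {τ τ' : Equiv.Perm (Fin (2 ^ m + 1))} (h1 : Ac h g τ) (h2 : Ac h g τ') :
    τ = τ' := by
  ext1 x
  by_contra hne
  obtain ⟨y, hy, -, -⟩ := exists_sep hm hne
  -- compare the two descriptions on a vector which separates `x` and `τ⁻¹ τ' x`
  have hx : x ≠ τ.symm (τ' x) := fun h3 => hne (by nth_rewrite 1 [h3]; rw [Equiv.apply_symm_apply])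
  obtain ⟨z, hz, hz1, hz0⟩ := exists_sep hm hx
  obtain ⟨v, hv, hev⟩ := exists_e h hz
  have h3 := h1 v hv (τ.symm (τ' x))
  rw [Equiv.apply_symm_apply, h2 v hv x, hev, hz1, hz0] at h3
  exact one_ne_zero h3

variable (hH : H ≤ normalizer (V : Set G))
include hH

theorem ac_mul {g g' : G} (hg' : g' ∈ H) {τ τ' : Equiv.Perm (Fin (2 ^ m + 1))} (h1 : Ac h g τ)
    (h2 : Ac h g' τ') : Ac h (g * g') (τ * τ') := by
  intro v hv x
  have hv' : g' * v * g'⁻¹ ∈ V := (mem_normalizer_iff.1 (hH hg') _).1 hv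
  have e : g * g' * v * (g * g')⁻¹ = g * (g' * v * g'⁻¹) * g⁻¹ := by group
  rw [e, Equiv.Perm.mul_apply, h1 _ hv', h2 v hv]

theorem ac_one : Ac h 1 1 := by
  intro v hv x
  have _ := hH
  have e : (1 : G) * v * 1⁻¹ = v := by group
  rw [e]
  rfl

/-- the permutation representation -/
noncomputable def hom (hm : 1 ≤ m) : H →* Equiv.Perm (Fin (2 ^ m + 1)) where
  toFun g := (exists_ac h g.2).choose
  map_one' := ac_unique h hm (exists_ac h (1 : H).2).choose_spec (ac_one h hH)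
  map_mul' g g' := ac_unique h hm (exists_ac h (g * g').2).choose_spec
    (ac_mul h hH g'.2 (exists_ac h g.2).choose_spec (exists_ac h g'.2).choose_spec)

theorem ac_hom (hm : 1 ≤ m) (g : H) : Ac h (g : G) (hom h hH hm g) := (exists_ac h g.2).choose_spec

theorem hom_eq (hm : 1 ≤ m) (g : H) {τ : Equiv.Perm (Fin (2 ^ m + 1))} (h1 : Ac h (g : G) τ) :
    hom h hH hm g = τ := ac_unique h hm (ac_hom h hH hm g) h1

theorem hom_surjective (hm : 1 ≤ m) : Function.Surjective (hom h hH hm) := by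
  intro τ
  obtain ⟨g, hg, h1⟩ := exists_of_perm h τ
  exact ⟨⟨g, hg⟩, hom_eq h hH hm ⟨g, hg⟩ h1⟩

theorem hom_T (hTH : T ≤ H) (hm : 1 ≤ m) {t : G} (ht : t ∈ T) : hom h hH hm ⟨t, hTH ht⟩ 0 = 0 :=
  h.fix0 t ht 1 (fun _ => hom h hH hm ⟨t, hTH ht⟩) ((ac_iff h).2 (ac_hom h hH hm ⟨t, hTH ht⟩)) 0

end basic

/-! ### The abstract splitting -/

section abstract

variable {X : Type*} [AddCommGroup X] [Finite X] {K : Type*} [Group K] [Finite K] [DistribMulAction K X]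

/-- odd averaging over an orbit -/
theorem exists_inv {M S : Subgroup K} (hodd : ¬ 2 ∣ S.relIndex M) (hSM : S ≤ M) {z : X}
    (hz : ∀ t ∈ S, t • z = z) {Y : Type*} [AddCommGroup Y] (e : X →+ Y) (h2 : ∀ y : Y, y + y = 0)
    (he : ∀ g ∈ M, e (g • z) = e z) : ∃ z' : X, (∀ g ∈ M, g • z' = z') ∧ e z' = e z := by
  classical
  let s : Finset X := (Set.toFinite (MulAction.orbit M z)).toFinset
  have hs : ∀ v, v ∈ s ↔ v ∈ MulAction.orbit M z := fun v => Set.Finite.mem_toFinset _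
  refine ⟨∑ v ∈ s, v, fun g hg => ?_, ?_⟩
  · rw [Finset.smul_sum]
    refine Finset.sum_nbij' (fun v => g • v) (fun v => g⁻¹ • v) ?_ ?_ ?_ ?_ ?_
    · intro v hv
      rw [hs] at hv ⊢
      obtain ⟨k, rfl⟩ := hv
      exact ⟨⟨g, hg⟩ * k, mul_smul (g : K) (k : K) z⟩
    · intro v hv
      rw [hs] at hv ⊢
      obtain ⟨k, rfl⟩ := hv
      exact ⟨⟨g, hg⟩⁻¹ * k, mul_smul (g⁻¹ : K) (k : K) z⟩
    · intro v _
      exact inv_smul_smul g v
    · intro v _
      exact smul_inv_smul g v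
    · intro v _
      rfl
  · have h1 : ∀ v ∈ s, e v = e z := by
      intro v hv
      rw [hs] at hv
      obtain ⟨k, rfl⟩ := hv
      exact he k k.2
    rw [map_sum, Finset.sum_congr rfl h1, Finset.sum_const]
    have h3 : s.card = (MulAction.stabilizer M z).index := by
      rw [MulAction.index_stabilizer]
      exact (Set.ncard_eq_toFinset_card _ _).symm
    have h4 : Odd s.card := by
      rw [h3, ← Nat.not_even_iff_odd]
      intro h5
      apply hodd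
      have h6 : S.subgroupOf M ≤ MulAction.stabilizer M z := fun t ht => hz t ht
      exact h5.two_dvd.trans (index_dvd_of_le h6)
    obtain ⟨k, hk⟩ := h4
    rw [hk, add_smul, one_smul, mul_comm, mul_smul, two_smul, h2, smul_zero, zero_add]

/-- scalar multiplication by `F₂` -/
def sc (a : ZMod 2) (v : X) : X := if a = 0 then 0 else v

omit [Finite X] in
theorem sc_add {v : X} (hv : v + v = 0) (a b : ZMod 2) : sc (a + b) v = sc a v + sc b v := by
  have h01 : ∀ a : ZMod 2, a = 0 ∨ a = 1 := by decide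
  rcases h01 a with rfl | rfl <;> rcases h01 b with rfl | rfl
  · simp [sc]
  · simp only [sc, _root_.zero_add, _root_.one_ne_zero, ↓ _root_.reduceIte]
  · simp only [sc, _root_.add_zero, _root_.one_ne_zero, ↓ _root_.reduceIte]
  · rw [CharTwo.add_self_eq_zero]
    simp [sc, hv]

omit [Finite X] in
theorem map_sc {n : ℕ} (e : X →+ (Fin n → ZMod 2)) (a : ZMod 2) (v : X) : e (sc a v) = a • e v := by
  have h01 : ∀ a : ZMod 2, a = 0 ∨ a = 1 := by decide
  rcases h01 a with rfl | rfl <;> simp only [sc, ↓ _root_.reduceIte, _root_.map_zero, _root_.zero_smul, _root_.one_ne_zero, _root_.one_smul]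

omit [Finite X] [Finite K] in
theorem smul_sc (g : K) (a : ZMod 2) (v : X) : g • (sc a v) = sc a (g • v) := by
  have h01 : ∀ a : ZMod 2, a = 0 ∨ a = 1 := by decide
  rcases h01 a with rfl | rfl <;> simp only [sc, ↓ _root_.reduceIte, _root_.smul_zero, _root_.one_ne_zero]

theorem hat_single {m : ℕ} (i y : Fin (2 ^ m + 1)) : hat (Pi.single i 1) y = (if y = i then 1 else 0) + 1 := by
  unfold hat
  rw [Finset.sum_pi_single']
  simp [Pi.single_apply]

/-- **The splitting, abstract form.** -/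
theorem exists_eps {m : ℕ} (hm : 1 ≤ m) (π : K →* Equiv.Perm (Fin (2 ^ m + 1))) (hπ : Function.Surjective π)
    {S : Subgroup K} (hS : ¬ 2 ∣ S.index) (h0 : ∀ s ∈ S, π s 0 = 0) (e : X →+ (Fin (2 ^ m + 1) → ZMod 2))
    (he : ∀ g v x, e (g • v) (π g x) = e v x) {z : X} (hz : ∀ t ∈ S, t • z = z)
    (hez : e z = hat (Pi.single 0 1)) (hX : ∀ v : X, v + v = 0) :
    ∃ ε : (Fin (2 ^ m + 1) → ZMod 2) → X, (∀ x y, ε (x + y) = ε x + ε y) ∧ (∀ x, e (ε x) = hat x) ∧
      ε 1 = 0 ∧ ∀ g x, g • ε x = ε (x ∘ (π g).symm) := by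
  classical
  let M : Subgroup K := (MulAction.stabilizer (Equiv.Perm (Fin (2 ^ m + 1))) (0 : Fin (2 ^ m + 1))).comap π
  have hM : ∀ g, g ∈ M ↔ π g 0 = 0 := fun g => Iff.rfl
  have hSM : S ≤ M := fun s hs => (hM s).2 (h0 s hs)
  have hodd : ¬ 2 ∣ S.relIndex M := by
    intro h1
    apply hS
    rw [← relIndex_mul_index hSM]
    exact dvd_mul_of_dvd_left h1 _
  have hsing : ∀ (g : K) (v : X), e v = hat (Pi.single 0 1) → e (g • v) = hat (Pi.single (π g 0) 1) := by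
    intro g v hv
    funext y
    obtain ⟨x, rfl⟩ := (π g).surjective y
    rw [he, hv, hat_single, hat_single]
    simp only [(π g).injective.eq_iff]
  obtain ⟨z', hz', hez'⟩ := exists_inv hodd hSM hz e
    (fun y => funext fun i => CharTwo.add_self_eq_zero (y i))
    (fun g hg => by rw [hsing g z hez, (hM g).1 hg, hez])
  rw [hez] at hez'
  choose r hr using fun i => hπ (Equiv.swap 0 i)
  have hr0 : ∀ i, π (r i) 0 = i := fun i => by rw [hr, Equiv.swap_apply_left]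
  have key : ∀ g, g • z' = r (π g 0) • z' := by
    intro g
    have h1 : (r (π g 0))⁻¹ * g ∈ M := by
      rw [hM, map_mul, map_inv, Equiv.Perm.mul_apply, Equiv.Perm.inv_eq_iff_eq]
      exact (hr0 _).symm
    have h2 := hz' _ h1
    rw [mul_smul, inv_smul_eq_iff] at h2
    exact h2
  have key2 : ∀ g i, g • r i • z' = r (π g i) • z' := by
    intro g i
    rw [← mul_smul, key, map_mul, Equiv.Perm.mul_apply, hr0]
  have hd : ∀ g : K, g • (∑ i, r i • z') = ∑ i, r i • z' := by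
    intro g
    rw [Finset.smul_sum]
    simp_rw [key2]
    exact Equiv.sum_comp (π g) fun i => r i • z'
  have hei : ∀ i, e (r i • z') = hat (Pi.single i 1) := fun i => by rw [hsing _ _ hez', hr0]
  have hcard : ((2 ^ m + 1 : ℕ) : ZMod 2) = 1 := cast_odd hm
  have hed : e (∑ i, r i • z') = 0 := by
    rw [map_sum]
    simp_rw [hei]
    funext y
    rw [Finset.sum_apply]
    simp_rw [hat_single]
    rw [Finset.sum_add_distrib]
    simp only [Finset.sum_ite_eq, Finset.mem_univ, if_true, Finset.sum_const, Finset.card_univ, Fintype.card_fin,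
      nsmul_eq_mul, mul_one, Pi.zero_apply]
    rw [hcard, CharTwo.add_self_eq_zero]
  have hw : ∑ i : Fin (2 ^ m + 1), (r i • z' + ∑ j, r j • z') = 0 := by
    have h5 : ∀ v : X, (2 ^ m : ℕ) • v = 0 := by
      intro v
      obtain ⟨k, hk⟩ : 2 ∣ 2 ^ m := dvd_pow_self 2 (by omega)
      rw [hk, mul_comm, mul_smul, two_smul, hX, smul_zero]
    rw [Finset.sum_add_distrib, Finset.sum_const, Finset.card_univ, Fintype.card_fin, add_smul, one_smul, h5,
      zero_add, hX]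
  refine ⟨fun x => ∑ i, sc (x i) (r i • z' + ∑ j, r j • z'), ?_, ?_, ?_, ?_⟩
  · intro x y
    simp only [Pi.add_apply]
    rw [← Finset.sum_add_distrib]
    exact Finset.sum_congr rfl fun i _ => sc_add (hX _) _ _
  · intro x
    rw [map_sum]
    simp_rw [map_sc, map_add, hed, add_zero, hei]
    funext y
    rw [Finset.sum_apply]
    simp only [Pi.smul_apply, smul_eq_mul]
    simp_rw [hat_single, mul_add, mul_one]
    rw [Finset.sum_add_distrib]
    simp [hat]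
  · simp only [Pi.one_apply]
    rw [← hw]
    exact Finset.sum_congr rfl fun i _ => by simp only [sc, _root_.one_ne_zero, ↓ _root_.reduceIte]
  · intro g x
    rw [Finset.smul_sum]
    simp_rw [smul_sc, smul_add, hd, key2]
    rw [← Equiv.sum_comp (π g) fun i => sc ((x ∘ (π g).symm) i) (r i • z' + ∑ j, r j • z')]
    simp

end abstract

/-! ### The splitting in the group -/

section group

variable [Finite G]

/-- conjugation as an action on `Additive V` -/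
@[reducible] def cact (hV : ∀ x ∈ V, ∀ y ∈ V, x * y = y * x) : AddCommGroup (Additive V) :=
  { (inferInstance : AddGroup (Additive V)) with
    add_comm := fun a b => congrArg Additive.ofMul (Subtype.ext (hV _ a.toMul.2 _ b.toMul.2)) }

/-- conjugation as an action on `Additive V` -/
@[reducible] def dact (hV : ∀ x ∈ V, ∀ y ∈ V, x * y = y * x) (hH : H ≤ normalizer (V : Set G)) :
    letI := cact hV
    DistribMulAction H (Additive V) :=
  letI := cact hV
  { smul := fun g v => Additive.ofMul ⟨(g : G) * (v.toMul : G) * (g : G)⁻¹, (mem_normalizer_iff.1 (hH g.2) _).1 v.toMul.2⟩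
    one_smul := fun v => by
      refine congrArg Additive.ofMul (Subtype.ext ?_)
      change (1 : G) * (v.toMul : G) * (1 : G)⁻¹ = v.toMul
      group
    mul_smul := fun g g' v => by
      refine congrArg Additive.ofMul (Subtype.ext ?_)
      change (g * g' : G) * (v.toMul : G) * (g * g' : G)⁻¹ = g * (g' * (v.toMul : G) * (g' : G)⁻¹) * (g : G)⁻¹
      group
    smul_zero := fun g => by
      refine congrArg Additive.ofMul (Subtype.ext ?_)
      change (g : G) * 1 * (g : G)⁻¹ = 1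
      group
    smul_add := fun g v w => by
      refine congrArg Additive.ofMul (Subtype.ext ?_)
      change (g : G) * ((v.toMul : G) * (w.toMul : G)) * (g : G)⁻¹ =
        (g : G) * (v.toMul : G) * (g : G)⁻¹ * ((g : G) * (w.toMul : G) * (g : G)⁻¹)
      group }

/-- **The splitting from a fixed vector `z`.** -/
theorem exists_eps' (h : SymK T H V D 1 m) (hm : 1 ≤ m) (hH : H ≤ normalizer (V : Set G)) (hTH : T ≤ H)
    (hT2 : ¬ 2 ∣ T.relIndex H) (hVc : ∀ x ∈ V, ∀ y ∈ V, x * y = y * x) (hV2 : ∀ x ∈ V, x ^ 2 = 1)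
    {z : G} (hz : z ∈ V) (hzT : ∀ t ∈ T, t * z = z * t) (hez : h.e z 0 = hat (Pi.single 0 1)) :
    ∃ ε : (Fin (2 ^ m + 1) → ZMod 2) → G, (∀ x, ε x ∈ V) ∧ (∀ x y, ε (x + y) = ε x * ε y) ∧
      (∀ x, h.e (ε x) 0 = hat x) ∧ ε 1 = 1 ∧ ∀ g ∈ H, ∀ τ, Ac h g τ → Acts ε g τ := by
  let _ := cact hVc
  let _ := dact hVc hH
  let e : Additive V →+ (Fin (2 ^ m + 1) → ZMod 2) :=
    { toFun := fun v => h.e (v.toMul : G) 0
      map_zero' := by
        change h.e (1 : G) 0 = 0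
        rw [e_one]
        rfl
      map_add' := fun v w => e_mul h v.toMul.2 w.toMul.2 }
  obtain ⟨ε, h1, h2, h3, h4⟩ := exists_eps (X := Additive V) (K := H) hm (hom h hH hm) (hom_surjective h hH hm)
    (S := T.subgroupOf H) hT2 (fun s hs => hom_T h hH hTH hm (mem_subgroupOf.1 hs)) e
    (fun g v x => ac_hom h hH hm g _ v.toMul.2 x) (z := Additive.ofMul ⟨z, hz⟩)
    (fun t ht => by
      refine congrArg Additive.ofMul (Subtype.ext ?_)
      change (t : G) * z * (t : G)⁻¹ = z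
      rw [hzT _ (mem_subgroupOf.1 ht), mul_inv_cancel_right])
    hez
    (fun v => by
      refine congrArg Additive.ofMul (Subtype.ext ?_)
      change (v.toMul : G) * (v.toMul : G) = 1
      rw [← pow_two]
      exact hV2 _ v.toMul.2)
  refine ⟨fun x => ((ε x).toMul : G), fun x => (ε x).toMul.2, fun x y => ?_, h2, ?_, ?_⟩
  · exact congrArg (fun v : Additive V => (v.toMul : G)) (h1 x y)
  · change ((ε 1).toMul : G) = 1
    rw [h3]
    rfl
  · intro g hg τ hτ x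
    have h5 := h4 ⟨g, hg⟩ x
    rw [hom_eq h hH hm ⟨g, hg⟩ hτ] at h5
    exact congrArg (fun v : Additive V => (v.toMul : G)) h5

/-- a fixed vector of `T` is in `D` or has `e z 0 = Ω - {0}` -/
theorem fixed_cases (h : SymK T H V D 1 m) (hm : 1 ≤ m) (hH : H ≤ normalizer (V : Set G)) (hTH : T ≤ H)
    (hT2 : ¬ 2 ∣ T.relIndex H) {z : G} (hz : z ∈ V) (hzT : ∀ t ∈ T, t * z = z * t) :
    z ∈ D ∨ h.e z 0 = hat (Pi.single 0 1) := by
  classical
  have hconst : ∀ i j : Fin (2 ^ m + 1), i ≠ 0 → j ≠ 0 → h.e z 0 i = h.e z 0 j := by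
    intro i j hi hj
    obtain ⟨t, ht, htij⟩ := trans_of_surj (hom h hH hm) (hom_surjective h hH hm) (S' := T.subgroupOf H) hT2
      (fun s hs => hom_T h hH hTH hm (mem_subgroupOf.1 hs)) hi hj
    have h1 := ac_hom h hH hm t z hz i
    rw [htij, hzT _ (mem_subgroupOf.1 ht), mul_inv_cancel_right] at h1
    exact h1.symm
  have h1 : (1 : Fin (2 ^ m + 1)) ≠ 0 := by
    intro h3
    have h4 := congrArg Fin.val h3
    have h5 : 2 ^ 1 ≤ 2 ^ m := Nat.pow_le_pow_right (by norm_num) hm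
    rw [Fin.val_one', Fin.val_zero, Nat.mod_eq_of_lt (by omega)] at h4
    exact one_ne_zero h4
  have hsum := h.even z hz 0
  rw [← Finset.add_sum_erase _ _ (Finset.mem_univ 0)] at hsum
  have hsum2 : ∑ x ∈ Finset.univ.erase (0 : Fin (2 ^ m + 1)), h.e z 0 x = 0 := by
    rw [Finset.sum_congr rfl fun x hx => hconst x 1 (Finset.ne_of_mem_erase hx) h1, Finset.sum_const,
      Finset.card_erase_of_mem (Finset.mem_univ _), Finset.card_univ, Fintype.card_fin, Nat.add_sub_cancel,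
      nsmul_eq_mul]
    have h6 : ((2 ^ m : ℕ) : ZMod 2) = 0 := by
      rw [ZMod.natCast_eq_zero_iff]
      exact dvd_pow_self 2 (by omega)
    rw [h6, zero_mul]
  rw [hsum2, add_zero] at hsum
  have h01 : ∀ a : ZMod 2, a = 0 ∨ a = 1 := by decide
  rcases h01 (h.e z 0 1) with h2 | h2
  · left
    rw [← e_eq_zero h hz]
    funext x
    by_cases hx : x = 0
    · subst hx
      exact hsum
    · rw [hconst x 1 hx h1, h2]
      rfl
  · right
    funext x
    rw [hat_single]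
    by_cases hx : x = 0
    · subst hx
      rw [hsum, if_pos rfl, CharTwo.add_self_eq_zero]
    · rw [hconst x 1 hx h1, h2, if_neg hx, zero_add]

/-- the coordinates of `z` for `z ∈ Z - D` -/
theorem exists_z {T H D : Subgroup G} (h : SymK T H (zl T H) D 1 m) (hm : 1 ≤ m) (hTH : T ≤ H)
    (hT2 : ¬ 2 ∣ T.relIndex H) (hD : H ≤ normalizer (D : Set G)) :
    ∃ z ∈ zc T, h.e z 0 = hat (Pi.single 0 1) := by
  classical
  have hH := le_normalizer_zl T H
  by_contra hcon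
  push Not at hcon
  have h1 : zc T ≤ D := fun z hz =>
    (fixed_cases h hm hH hTH hT2 (zc_le_zl T H hz) fun t ht => (mem_zc.1 hz).2.1 t ht).resolve_right (hcon z hz)
  have h2 : zl T H ≤ D := zl_le h1 hD
  obtain ⟨v, hv, hev⟩ := exists_e h (sum_hat hm (Pi.single 0 1))
  have h3 := (e_eq_zero h hv).2 (h2 hv)
  rw [hev] at h3
  have h4 := (hat_eq_zero_iff hm _).1 h3
  rcases h4 with h4 | h4
  · have h5 := congrFun h4 0
    simp only [_root_.Pi.single_eq_same, _root_.Pi.zero_apply, _root_.one_ne_zero] at h5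
  · obtain ⟨j, hj⟩ : ∃ j : Fin (2 ^ m + 1), j ≠ 0 := by
      have h5 : 2 ^ 1 ≤ 2 ^ m := Nat.pow_le_pow_right (by norm_num) hm
      exact ⟨⟨1, by omega⟩, fun h6 => by simpa using congrArg Fin.val h6⟩
    have h5 := congrFun h4 j
    rw [Pi.single_eq_of_ne hj, Pi.one_apply] at h5
    exact zero_ne_one h5

/-- **The module of a member of type `S_{2^m+1}`**: `V = D × A`, `D` is centralised by `H` and `A` is the even-subset
module. -/
structure Spl (T H V D A : Subgroup G) (m : ℕ) (ε : (Fin (2 ^ m + 1) → ZMod 2) → G) : Prop where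
  even : EvenSet (2 ^ m + 1) A H ε
  fix0 : Fix0 ε T
  sup : A ⊔ D = V
  inf : A ⊓ D = ⊥
  cent : H ≤ centralizer (D : Set G)

omit [Finite G] in
theorem mem_sup_comm {X Y : Subgroup G} (hc : ∀ x ∈ X, ∀ y ∈ Y, x * y = y * x) {u : G} (hu : u ∈ X ⊔ Y) :
    ∃ x ∈ X, ∃ y ∈ Y, u = x * y := by
  rw [sup_eq_closure] at hu
  refine closure_induction (p := fun u _ => ∃ x ∈ X, ∃ y ∈ Y, u = x * y) ?_ ?_ ?_ ?_ hu
  · rintro x (hx | hx)
    · exact ⟨x, hx, 1, Y.one_mem, (mul_one _).symm⟩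
    · exact ⟨1, X.one_mem, x, hx, (one_mul _).symm⟩
  · exact ⟨1, X.one_mem, 1, Y.one_mem, (one_mul _).symm⟩
  · rintro _ _ _ _ ⟨x, hx, y, hy, rfl⟩ ⟨x', hx', y', hy', rfl⟩
    refine ⟨x * x', X.mul_mem hx hx', y * y', Y.mul_mem hy hy', ?_⟩
    rw [mul_assoc, ← mul_assoc y, ← hc x' hx' y hy, mul_assoc, mul_assoc]
  · rintro _ _ ⟨x, hx, y, hy, rfl⟩
    refine ⟨x⁻¹, X.inv_mem hx, y⁻¹, Y.inv_mem hy, ?_⟩
    rw [mul_inv_rev, hc _ (X.inv_mem hx) _ (Y.inv_mem hy)]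

theorem exists_spl (h : SymK T H (zl T H) (cv T H) 1 m) (hm : 1 ≤ m) (hT : Syl T H)
    (hc : H ⊓ centralizer (o2 H : Set G) ≤ o2 H) :
    ∃ A ε, Spl T H (zl T H) (cv T H) A m ε ∧ (∀ x, h.e (ε x) 0 = hat x) ∧
      ∀ g ∈ H, ∀ τ, Ac h g τ ↔ Acts ε g τ := by
  have hm2 := three_le hm
  have hTH := hT.1
  have hT2 := syl_not_dvd hT
  have hH := le_normalizer_zl T H
  have hVc := zl_comm hTH hT.2.1 hT2 hc
  have hV2 := zl_sq hTH hT.2.1 hT2 hc
  have hDV : cv T H ≤ zl T H := inf_le_left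
  have hO : H ≤ normalizer (oddGen H : Set G) := le_normalizer_oddGen H
  have hDn : ∀ g ∈ H, ∀ d ∈ cv T H, g * d * g⁻¹ ∈ cv T H := by
    intro g hg d hd
    refine ⟨(mem_normalizer_iff.1 (hH hg) _).1 hd.1, mem_centralizer_iff.2 fun o ho => ?_⟩
    have h1 : g⁻¹ * o * g ∈ oddGen H := by
      have := (mem_normalizer_iff.1 (hO (inv_mem hg)) o).1 ho
      rwa [inv_inv] at this
    have h2 := mem_centralizer_iff.1 hd.2 _ h1
    calc o * (g * d * g⁻¹) = g * ((g⁻¹ * o * g) * d) * g⁻¹ := by group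
      _ = g * (d * (g⁻¹ * o * g)) * g⁻¹ := by rw [h2]
      _ = g * d * g⁻¹ * o := by group
  have hDN : H ≤ normalizer (cv T H : Set G) := by
    intro g hg
    rw [mem_normalizer_iff]
    refine fun d => ⟨hDn g hg d, fun hd => ?_⟩
    have h1 := hDn g⁻¹ (inv_mem hg) _ hd
    have e : g⁻¹ * (g * d * g⁻¹) * g⁻¹⁻¹ = d := by group
    rwa [e] at h1
  obtain ⟨z, hz, hez⟩ := exists_z h hm hTH hT2 hDN
  obtain ⟨ε, he1, he2, he3, he4, he5⟩ := exists_eps' h hm hH hTH hT2 hVc hV2 (zc_le_zl T H hz)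
    (fun t ht => (mem_zc.1 hz).2.1 t ht) hez
  have h0 : ε 0 = 1 := by
    have h1 := he2 0 0
    rw [add_zero] at h1
    exact (left_eq_mul.1 h1)
  have hinv : ∀ x, (ε x)⁻¹ = ε x := fun x => by
    rw [inv_eq_iff_mul_eq_one, ← he2, add_self, h0]
  let A : Subgroup G :=
    { carrier := Set.range ε
      one_mem' := ⟨0, h0⟩
      mul_mem' := by
        rintro _ _ ⟨x, rfl⟩ ⟨y, rfl⟩
        exact ⟨x + y, he2 x y⟩
      inv_mem' := by
        rintro _ ⟨x, rfl⟩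
        exact ⟨x, (hinv x).symm⟩ }
  have hA : ∀ x, ε x ∈ A := fun x => ⟨x, rfl⟩
  have hker : ∀ x, ε x = 1 ↔ x = 0 ∨ x = 1 := by
    intro x
    constructor
    · intro h1
      rw [← hat_eq_zero_iff hm, ← he3, h1, e_one]
      rfl
    · rintro (rfl | rfl)
      · exact h0
      · exact he4
  have hES : EvenSet (2 ^ m + 1) A H ε :=
    { add := he2
      mem := hA
      surj := fun v hv => hv
      ker := hker
      perm := fun g hg => by
        obtain ⟨τ, hτ⟩ := exists_ac h hg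
        exact ⟨τ, he5 g hg τ hτ⟩
      full := fun τ => by
        obtain ⟨g, hg, hτ⟩ := exists_of_perm h τ
        exact ⟨g, hg, he5 g hg τ hτ⟩ }
  have hac : ∀ g ∈ H, ∀ τ, Ac h g τ ↔ Acts ε g τ := by
    intro g hg τ
    refine ⟨he5 g hg τ, fun h1 => ?_⟩
    obtain ⟨τ', hτ'⟩ := exists_ac h hg
    rw [hES.acts_unique hm2 h1 (he5 g hg τ' hτ')]
    exact hτ'
  have hinf : A ⊓ cv T H = ⊥ := by
    rw [eq_bot_iff]
    rintro _ ⟨⟨x, rfl⟩, hx⟩
    rw [mem_bot, hker, ← hat_eq_zero_iff hm, ← he3]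
    exact (e_eq_zero h (he1 x)).2 hx
  have hAV : A ≤ zl T H := by
    rintro _ ⟨x, rfl⟩
    exact he1 x
  have hsup : A ⊔ cv T H = zl T H := by
    refine le_antisymm (sup_le hAV hDV) fun v hv => ?_
    have h1 : (ε (h.e v 0))⁻¹ * v ∈ cv T H := by
      rw [hinv, ← e_eq_zero h (mul_mem (he1 _) hv), e_mul h (he1 _) hv, he3]
      funext x
      have h2 : hat (h.e v 0) x = h.e v 0 x := by
        unfold hat
        rw [h.even v hv 0, add_zero]
      rw [Pi.add_apply, h2]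
      exact CharTwo.add_self_eq_zero _
    have e : v = ε (h.e v 0) * ((ε (h.e v 0))⁻¹ * v) := by group
    rw [e]
    exact mul_mem_sup (hA _) h1
  have hcomm : ∀ x ∈ A, ∀ y ∈ cv T H, x * y = y * x := fun x hx y hy => hVc x (hAV hx) y (hDV hy)
  have hAN := hES.le_normalizer
  -- `D` is centralised by `H`
  have hC : zc T ≤ A ⊔ (cv T H ⊓ centralizer (H : Set G)) := by
    intro v hv
    have hvV := zc_le_zl T H hv
    rw [← hsup] at hvV
    obtain ⟨a, ha, d, hd, rfl⟩ := mem_sup_comm hcomm hvV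
    refine mul_mem_sup ha ⟨hd, ?_⟩
    have h1 : T ≤ centralizer ({d} : Set G) := by
      intro t ht
      rw [mem_centralizer_singleton_iff]
      have h2 : t * (a * d) = a * d * t := (mem_zc.1 hv).2.1 t ht
      have h3 : t * a * t⁻¹ ∈ A := (mem_normalizer_iff.1 (hAN (hTH ht)) _).1 ha
      have h4 : t * d * t⁻¹ ∈ cv T H := hDn t (hTH ht) d hd
      have h5 : a⁻¹ * (t * a * t⁻¹) = d * (t * d * t⁻¹)⁻¹ := by
        have h6 : a * d = t * a * t⁻¹ * (t * d * t⁻¹) := by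
          calc a * d = t * (a * d) * t⁻¹ := by rw [h2, mul_inv_cancel_right]
            _ = _ := by group
        rw [inv_mul_eq_iff_eq_mul, ← mul_assoc, eq_mul_inv_iff_mul_eq]
        exact h6.symm
      have h6 : d * (t * d * t⁻¹)⁻¹ ∈ A ⊓ cv T H := by
        refine ⟨?_, (cv T H).mul_mem hd ((cv T H).inv_mem h4)⟩
        rw [← h5]
        exact A.mul_mem (A.inv_mem ha) h3
      rw [hinf, mem_bot, mul_inv_eq_one] at h6
      calc t * d = t * d * t⁻¹ * t := by group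
        _ = d * t := by rw [← h6]
    have h2 : oddGen H ≤ centralizer ({d} : Set G) := by
      intro o ho
      rw [mem_centralizer_singleton_iff]
      exact mem_centralizer_iff.1 hd.2 o ho
    have h3 : H ≤ centralizer ({d} : Set G) := by
      rw [← Cfsg.Agent.Omega.NO3b.EZero.oddGen_sup_syl hT]
      exact sup_le h2 h1
    exact mem_centralizer_iff.2 fun g hg => mem_centralizer_singleton_iff.1 (h3 hg)
  have hC2 : zl T H ≤ A ⊔ (cv T H ⊓ centralizer (H : Set G)) := by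
    refine zl_le hC ?_
    intro g hg
    rw [mem_normalizer_iff_map_conj_eq, Subgroup.map_sup]
    congr 1
    · exact mem_normalizer_iff_map_conj_eq.1 (hAN hg)
    · refine mem_normalizer_iff_map_conj_eq.1 ?_
      refine (centralizer_le_normalizer _) (mem_centralizer_iff.2 fun d hd => ?_)
      exact (mem_centralizer_iff.1 hd.2 g hg).symm
  refine ⟨A, ε, ⟨hES, ?_, hsup, hinf, ?_⟩, he3, hac⟩
  · intro s hs σ hσ
    rw [hES.acts_unique hm2 hσ ((hac s (hTH hs) _).1 (ac_hom h hH hm ⟨s, hTH hs⟩))]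
    exact hom_T h hH hTH hm hs
  · intro g hg
    refine mem_centralizer_iff.2 fun d hd => ?_
    obtain ⟨a, ha, d', hd', rfl⟩ := mem_sup_comm
      (fun x hx y (hy : y ∈ cv T H ⊓ centralizer (H : Set G)) => hcomm x hx y (mem_inf.1 hy).1) (hC2 (hDV hd))
    have h1 : a ∈ A ⊓ cv T H := by
      refine ⟨ha, ?_⟩
      have := mul_mem hd (inv_mem hd'.1)
      rwa [mul_inv_cancel_right] at this
    rw [hinf, mem_bot] at h1
    rw [h1, one_mul]
    exact (mem_centralizer_iff.1 hd'.2 g hg).symm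

end group

end Cfsg.Agent.Omega.F4.Split

end

section


/-!
# II.d, `SwCv`: the module of a member with `k` factors `S_{2^m+1}` splits (helper123, for helper971 #18015)

`M : SymK T H V D k m`, `V = zl T H`, `D = cv T H = C_V(O²(H))`: there are labels `ε i x` of the `k` even-subset
modules which are permuted by `H`, and `H` centralises `D` (`exists_spl`).
-/

set_option autoImplicit false
set_option linter.unusedSectionVars false

namespace Cfsg.Agent.Omega.IId.SwCv.Spl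

open Subgroup Pointwise Cfsg Cfsg.Agent.ZN Cfsg.Agent.Omega.FFThm Cfsg.Agent.Omega.S5.Def Cfsg.Agent.Omega.S5.Of
open Cfsg.Agent.ZN.ChoiceSit (Syl syl_not_dvd)
open Cfsg.Agent.Omega.FrameFF (cv)
open Cfsg.Agent.MinSimple.VModule
open Cfsg.Agent.Omega.F4.Split (exists_inv sc sc_add smul_sc hat_single exists_sep cact dact trans_of_surj
  mem_sup_comm)

universe u

/-! ### The abstract splitting -/

section abstract

variable {X : Type*} [AddCommGroup X] [Finite X] {K : Type*} [Group K] [Finite K] [DistribMulAction K X] {k m : ℕ}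

theorem map_sc' {ι : Type*} (e : X →+ (ι → ZMod 2)) (a : ZMod 2) (v : X) : e (sc a v) = a • e v := by
  have h01 : ∀ a : ZMod 2, a = 0 ∨ a = 1 := by decide
  rcases h01 a with rfl | rfl <;> simp only [sc, ↓ _root_.reduceIte, _root_.map_zero, _root_.zero_smul, _root_.one_ne_zero, _root_.one_smul]

/-- **The splitting, abstract form.** -/
theorem exists_E (hm : 1 ≤ m) (p : K →* Equiv.Perm (Fin k × Fin (2 ^ m + 1)))
    (hblk : ∀ g, ∃ (σ : Equiv.Perm (Fin k)) (τ : Fin k → Equiv.Perm (Fin (2 ^ m + 1))),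
      ∀ i x, p g (i, x) = (σ i, τ i x))
    (hlift : ∀ τ : Fin k → Equiv.Perm (Fin (2 ^ m + 1)), ∃ g, ∀ i x, p g (i, x) = (i, τ i x))
    {i₀ : Fin k} (htr : ∀ j, ∃ g, (p g (i₀, 0)).1 = j) {S M : Subgroup K} (hS : ¬ 2 ∣ S.relIndex M)
    (hM : ∀ g, g ∈ M ↔ p g (i₀, 0) = (i₀, 0)) (h0 : ∀ s ∈ S, p s (i₀, 0) = (i₀, 0)) (e : X →+ (Fin k × Fin (2 ^ m + 1) → ZMod 2))
    (he : ∀ g v w, e (g • v) (p g w) = e v w) (heven : ∀ v i, ∑ x, e v (i, x) = 0) {z : X}
    (hz : ∀ s ∈ S, s • z = z) (hez : ∀ x, e z (i₀, x) = hat (Pi.single 0 1) x) (hX : ∀ v : X, v + v = 0) :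
    ∃ E : (Fin k × Fin (2 ^ m + 1) → ZMod 2) → X, (∀ x y, E (x + y) = E x + E y) ∧
      (∀ y w, e (E y) w = y w + ∑ x, y (w.1, x)) ∧ (∀ y, (∀ i x x', y (i, x) = y (i, x')) → E y = 0) ∧
      ∀ g y, g • E y = E (y ∘ (p g).symm) := by
  classical
  have hSM : S ≤ M := fun s hs => (hM s).2 (h0 s hs)
  have hcard : ((2 ^ m + 1 : ℕ) : ZMod 2) = 1 := cast_odd hm
  -- the fixed vector
  let e0 : X →+ (Fin (2 ^ m + 1) → ZMod 2) :=
    { toFun := fun v x => e v (i₀, x)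
      map_zero' := by funext x; rw [map_zero]; rfl
      map_add' := fun v w => by funext x; rw [map_add]; rfl }
  have he0 : ∀ v x, e0 v x = e v (i₀, x) := fun v x => rfl
  obtain ⟨z', hz', hez'⟩ := exists_inv hS hSM hz e0
    (fun y => funext fun i => CharTwo.add_self_eq_zero (y i))
    (fun g hg => by
      funext y
      obtain ⟨σ, τ, hg1⟩ := hblk g
      have h1 : σ i₀ = i₀ ∧ τ i₀ 0 = 0 := by
        have := (hM g).1 hg
        rw [hg1] at this
        exact Prod.ext_iff.1 this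
      obtain ⟨x, rfl⟩ := (τ i₀).surjective y
      have h2 : p g (i₀, x) = (i₀, τ i₀ x) := by rw [hg1, h1.1]
      have h3 := he g z (i₀, x)
      rw [h2] at h3
      rw [he0, he0, h3, hez, hez, hat_single, hat_single]
      congr 1
      exact if_congr ⟨fun h => by rw [h, h1.2], fun h => (τ i₀).injective (h.trans h1.2.symm)⟩ rfl rfl)
  have hez1 : ∀ x, e z' (i₀, x) = (if x = 0 then 1 else 0) + 1 := by
    intro x
    rw [← hat_single, ← hez, ← he0, ← he0, hez']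
  have hez2 : ∀ j x, j ≠ i₀ → e z' (j, x) = 0 := by
    intro j x hj
    have h1 : ∀ y, e z' (j, y) = e z' (j, x) := by
      intro y
      obtain ⟨g, hg⟩ := hlift (Function.update 1 j (Equiv.swap x y))
      have h2 : g ∈ M := by
        rw [hM, hg, Function.update_of_ne (Ne.symm hj)]
        rfl
      have h3 := he g z' (j, x)
      rw [hz' g h2, hg, Function.update_self, Equiv.swap_apply_left] at h3
      exact h3
    have h2 := heven z' j
    rw [Finset.sum_congr rfl fun y _ => h1 y, Finset.sum_const, Finset.card_univ, Fintype.card_fin, nsmul_eq_mul,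
      hcard, one_mul] at h2
    exact h2
  -- transitivity
  have htr' : ∀ w, ∃ g, p g (i₀, 0) = w := by
    rintro ⟨j, y⟩
    obtain ⟨g, hg⟩ := htr j
    obtain ⟨l, hl⟩ := hlift (Function.update 1 j (Equiv.swap (p g (i₀, 0)).2 y))
    refine ⟨l * g, ?_⟩
    have h1 : p g (i₀, 0) = (j, (p g (i₀, 0)).2) := Prod.ext hg rfl
    rw [map_mul, Equiv.Perm.mul_apply, h1, hl, Function.update_self, Equiv.swap_apply_left]
  choose r hr using htr'
  have key : ∀ g, g • z' = r (p g (i₀, 0)) • z' := by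
    intro g
    have h1 : (r (p g (i₀, 0)))⁻¹ * g ∈ M := by
      rw [hM, map_mul, map_inv, Equiv.Perm.mul_apply, Equiv.Perm.inv_eq_iff_eq]
      exact (hr _).symm
    have h2 := hz' _ h1
    rw [mul_smul, inv_smul_eq_iff] at h2
    exact h2
  have key2 : ∀ g w, g • r w • z' = r (p g w) • z' := by
    intro g w
    rw [← mul_smul, key, map_mul, Equiv.Perm.mul_apply, hr]
  -- coordinates
  have hez3 : ∀ w u, e (r w • z') u = if u.1 = w.1 then (if u.2 = w.2 then 1 else 0) + 1 else 0 := by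
    intro w u
    obtain ⟨u', rfl⟩ := (p (r w)).surjective u
    obtain ⟨σ, τ, h1⟩ := hblk (r w)
    have h2 : w = (σ i₀, τ i₀ 0) := by rw [← h1, hr]
    obtain ⟨j, y⟩ := u'
    rw [he, h1]
    have h3 : w.1 = σ i₀ := by rw [h2]
    have h4 : w.2 = τ i₀ 0 := by rw [h2]
    rw [h3, h4]
    simp only
    by_cases hj : j = i₀
    · subst hj
      rw [if_pos rfl, hez1]
      congr 1
      exact if_congr ⟨fun h => by rw [h], fun h => (τ j).injective h⟩ rfl rfl
    · rw [if_neg fun h => hj (σ.injective h), hez2 _ _ hj]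
  have hd : ∀ (g : K) i, g • (∑ x, r (i, x) • z') = ∑ x, r ((p g (i, 0)).1, x) • z' := by
    intro g i
    obtain ⟨σ, τ, h1⟩ := hblk g
    rw [Finset.smul_sum]
    simp_rw [key2, h1]
    exact Equiv.sum_comp (τ i) fun x => r (σ i, x) • z'
  have hd' : ∀ (g : K) (w : Fin k × Fin (2 ^ m + 1)), g • (∑ x, r (w.1, x) • z') = ∑ x, r ((p g w).1, x) • z' := by
    intro g w
    obtain ⟨σ, τ, h1⟩ := hblk g
    rw [hd, h1]
    have : (p g w).1 = σ w.1 := by
      rw [show w = (w.1, w.2) from rfl, h1]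
    rw [this]
  have hed : ∀ i, e (∑ x, r (i, x) • z') = 0 := by
    intro i
    rw [map_sum]
    funext u
    rw [Finset.sum_apply]
    simp_rw [hez3]
    rw [Pi.zero_apply]
    by_cases hu : u.1 = i
    · simp only [hu, if_true]
      rw [Finset.sum_add_distrib]
      simp only [Finset.sum_ite_eq, Finset.mem_univ, if_true, Finset.sum_const, Finset.card_univ, Fintype.card_fin,
        nsmul_eq_mul, mul_one]
      rw [hcard, CharTwo.add_self_eq_zero]
    · simp [hu]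
  have h5 : ∀ v : X, (2 ^ m : ℕ) • v = 0 := by
    intro v
    obtain ⟨l, hl⟩ : 2 ∣ 2 ^ m := dvd_pow_self 2 (by omega)
    rw [hl, mul_comm, mul_smul, two_smul, hX, smul_zero]
  have hw : ∀ i, ∑ x : Fin (2 ^ m + 1), (r (i, x) • z' + ∑ y, r (i, y) • z') = 0 := by
    intro i
    rw [Finset.sum_add_distrib, Finset.sum_const, Finset.card_univ, Fintype.card_fin, add_smul, one_smul, h5,
      zero_add, hX]
  refine ⟨fun y => ∑ w : Fin k × Fin (2 ^ m + 1), sc (y w) (r w • z' + ∑ x, r (w.1, x) • z'), ?_, ?_, ?_, ?_⟩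
  · intro x y
    simp only [Pi.add_apply]
    rw [← Finset.sum_add_distrib]
    exact Finset.sum_congr rfl fun i _ => sc_add (hX _) _ _
  · intro y u
    rw [map_sum]
    simp_rw [map_sc', map_add, hed, add_zero]
    rw [Finset.sum_apply]
    simp only [Pi.smul_apply, smul_eq_mul]
    simp_rw [hez3]
    rw [Fintype.sum_prod_type]
    rw [Finset.sum_eq_single u.1]
    · simp only [if_true]
      simp_rw [mul_add, mul_one]
      rw [Finset.sum_add_distrib]
      congr 1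
      simp
    · intro j _ hj
      refine Finset.sum_eq_zero fun x _ => ?_
      rw [if_neg (Ne.symm hj), mul_zero]
    · intro h
      exact absurd (Finset.mem_univ _) h
  · intro y hy
    change ∑ w : Fin k × Fin (2 ^ m + 1), sc (y w) (r w • z' + ∑ x, r (w.1, x) • z') = 0
    rw [Fintype.sum_prod_type]
    refine Finset.sum_eq_zero fun i _ => ?_
    have h6 : ∀ x, sc (y (i, x)) (r (i, x) • z' + ∑ x', r (i, x') • z') =
        sc (y (i, 0)) (r (i, x) • z' + ∑ x', r (i, x') • z') := fun x => by rw [hy i x 0]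
    simp only [h6]
    have h01 : ∀ a : ZMod 2, a = 0 ∨ a = 1 := by decide
    rcases h01 (y (i, 0)) with h7 | h7
    · rw [h7]
      simp [sc]
    · rw [h7]
      simp only [sc, one_ne_zero, if_false]
      exact hw i
  · intro g y
    rw [Finset.smul_sum]
    simp_rw [smul_sc, smul_add, hd', key2]
    rw [← Equiv.sum_comp (p g) fun w => sc ((y ∘ (p g).symm) w) (r w • z' + ∑ x, r (w.1, x) • z')]
    simp only [_root_.Function.comp_apply, _root_.Equiv.symm_apply_apply]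

end abstract

/-! ### The action on the points -/

section basic

variable {G : Type u} [Group G] {T H V D : Subgroup G} {k m : ℕ} (h : SymK T H V D k m)

/-- `g` acts on the points of all blocks as `p` -/
def Ac (g : G) (p : Equiv.Perm (Fin k × Fin (2 ^ m + 1))) : Prop :=
  ∀ v ∈ V, ∀ w, h.e (g * v * g⁻¹) (p w).1 (p w).2 = h.e v w.1 w.2

theorem ac_iff {g : G} {σ : Equiv.Perm (Fin k)} {τ : Fin k → Equiv.Perm (Fin (2 ^ m + 1))} :
    ActsSym h.e V g σ τ ↔ Ac h g (Equiv.prodShear σ τ) := by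
  constructor
  · rintro h1 v hv ⟨i, x⟩
    exact h1 v hv i x
  · intro h1 v hv i x
    exact h1 v hv (i, x)

theorem exists_ac {g : G} (hg : g ∈ H) : ∃ p, Ac h g p := by
  obtain ⟨σ, τ, h1⟩ := h.perm g hg
  exact ⟨_, (ac_iff h).1 h1⟩

theorem e_one : h.e 1 = 0 := by
  have h1 := h.mul 1 V.one_mem 1 V.one_mem
  rw [mul_one] at h1
  exact left_eq_add.mp h1

/-- even vectors separate points -/
theorem exists_sep' (hm : 1 ≤ m) {w w' : Fin k × Fin (2 ^ m + 1)} (hw : w ≠ w') :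
    ∃ v ∈ V, h.e v w.1 w.2 = 1 ∧ h.e v w'.1 w'.2 = 0 := by
  classical
  by_cases h1 : w.1 = w'.1
  · have h2 : w.2 ≠ w'.2 := fun h3 => hw (Prod.ext h1 h3)
    obtain ⟨y, hy, hy1, hy0⟩ := exists_sep hm h2
    obtain ⟨v, hv, e⟩ := h.surj (Pi.single w.1 y) fun i => by
      by_cases hi : i = w.1
      · subst hi
        rw [Pi.single_eq_same]
        exact hy
      · rw [Pi.single_eq_of_ne hi]
        simp
    refine ⟨v, hv, ?_, ?_⟩
    · rw [e, Pi.single_eq_same]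
      exact hy1
    · rw [e, ← h1, Pi.single_eq_same]
      exact hy0
  · obtain ⟨j, hj⟩ : ∃ j : Fin (2 ^ m + 1), w.2 ≠ j := by
      have : Nontrivial (Fin (2 ^ m + 1)) := Fin.nontrivial_iff_two_le.2 (by
        have : 2 ^ 1 ≤ 2 ^ m := Nat.pow_le_pow_right (by norm_num) hm
        omega)
      obtain ⟨j, hj⟩ := exists_ne w.2
      exact ⟨j, hj.symm⟩
    obtain ⟨y, hy, hy1, -⟩ := exists_sep hm hj
    obtain ⟨v, hv, e⟩ := h.surj (Pi.single w.1 y) fun i => by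
      by_cases hi : i = w.1
      · subst hi
        rw [Pi.single_eq_same]
        exact hy
      · rw [Pi.single_eq_of_ne hi]
        simp
    refine ⟨v, hv, ?_, ?_⟩
    · rw [e, Pi.single_eq_same]
      exact hy1
    · rw [e, Pi.single_eq_of_ne (Ne.symm h1)]
      rfl

theorem ac_unique (hm : 1 ≤ m) {g : G} {p p' : Equiv.Perm (Fin k × Fin (2 ^ m + 1))} (h1 : Ac h g p)
    (h2 : Ac h g p') : p = p' := by
  ext1 w
  by_contra hne
  have hw : w ≠ p.symm (p' w) := fun h3 => hne (by nth_rewrite 1 [h3]; rw [Equiv.apply_symm_apply])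
  obtain ⟨v, hv, hv1, hv0⟩ := exists_sep' h hm hw
  have h3 := h1 v hv (p.symm (p' w))
  rw [Equiv.apply_symm_apply, h2 v hv w, hv0, hv1] at h3
  exact one_ne_zero h3

variable (hH : H ≤ normalizer (V : Set G))
include hH

theorem ac_mul {g g' : G} (hg' : g' ∈ H) {p p' : Equiv.Perm (Fin k × Fin (2 ^ m + 1))} (h1 : Ac h g p)
    (h2 : Ac h g' p') : Ac h (g * g') (p * p') := by
  intro v hv w
  have hv' : g' * v * g'⁻¹ ∈ V := (mem_normalizer_iff.1 (hH hg') _).1 hv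
  have e : g * g' * v * (g * g')⁻¹ = g * (g' * v * g'⁻¹) * g⁻¹ := by group
  rw [e, Equiv.Perm.mul_apply, h1 _ hv', h2 v hv]

theorem ac_one : Ac h 1 1 := by
  intro v hv x
  have _ := hH
  have e : (1 : G) * v * 1⁻¹ = v := by group
  rw [e]
  rfl

/-- the permutation representation on the points of all blocks -/
noncomputable def hom (hm : 1 ≤ m) : H →* Equiv.Perm (Fin k × Fin (2 ^ m + 1)) where
  toFun g := (exists_ac h g.2).choose
  map_one' := ac_unique h hm (exists_ac h (1 : H).2).choose_spec (ac_one h hH)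
  map_mul' g g' := ac_unique h hm (exists_ac h (g * g').2).choose_spec
    (ac_mul h hH g'.2 (exists_ac h g.2).choose_spec (exists_ac h g'.2).choose_spec)

theorem ac_hom (hm : 1 ≤ m) (g : H) : Ac h (g : G) (hom h hH hm g) := (exists_ac h g.2).choose_spec

theorem hom_eq (hm : 1 ≤ m) (g : H) {p : Equiv.Perm (Fin k × Fin (2 ^ m + 1))} (h1 : Ac h (g : G) p) :
    hom h hH hm g = p := ac_unique h hm (ac_hom h hH hm g) h1

theorem hom_sym (hm : 1 ≤ m) (g : H) {σ : Equiv.Perm (Fin k)} {τ : Fin k → Equiv.Perm (Fin (2 ^ m + 1))}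
    (h1 : ActsSym h.e V (g : G) σ τ) (i : Fin k) (x : Fin (2 ^ m + 1)) : hom h hH hm g (i, x) = (σ i, τ i x) := by
  rw [hom_eq h hH hm g ((ac_iff h).1 h1)]
  rfl

theorem hom_blk (hm : 1 ≤ m) (g : H) : ∃ (σ : Equiv.Perm (Fin k)) (τ : Fin k → Equiv.Perm (Fin (2 ^ m + 1))),
    ActsSym h.e V (g : G) σ τ ∧ ∀ i x, hom h hH hm g (i, x) = (σ i, τ i x) := by
  obtain ⟨σ, τ, h1⟩ := h.perm g g.2
  exact ⟨σ, τ, h1, fun i x => hom_sym h hH hm g h1 i x⟩

theorem hom_lift (hm : 1 ≤ m) (τ : Fin k → Equiv.Perm (Fin (2 ^ m + 1))) :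
    ∃ g : H, ∀ i x, hom h hH hm g (i, x) = (i, τ i x) := by
  obtain ⟨g, hg, h1, -⟩ := h.lift τ
  exact ⟨⟨g, hg⟩, fun i x => hom_sym h hH hm ⟨g, hg⟩ h1 i x⟩

theorem hom_T (hTH : T ≤ H) (hm : 1 ≤ m) {t : G} (ht : t ∈ T) (i : Fin k) :
    (hom h hH hm ⟨t, hTH ht⟩ (i, 0)).2 = 0 := by
  obtain ⟨σ, τ, h1, h2⟩ := hom_blk h hH hm ⟨t, hTH ht⟩
  rw [h2]
  exact h.fix0 t ht σ τ h1 i

theorem hom_T_trans (hTH : T ≤ H) (hm : 1 ≤ m) (i j : Fin k) :
    ∃ t, ∃ ht : t ∈ T, hom h hH hm ⟨t, hTH ht⟩ (i, 0) = (j, 0) := by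
  obtain ⟨t, ht, σ, τ, h1, h2⟩ := h.trans i j
  refine ⟨t, ht, ?_⟩
  rw [hom_sym h hH hm ⟨t, hTH ht⟩ h1, h2, h.fix0 t ht σ τ h1 i]

/-- the first coordinate of the image depends on the first coordinate only -/
theorem hom_fst (hm : 1 ≤ m) (g : H) (i : Fin k) (x y : Fin (2 ^ m + 1)) :
    (hom h hH hm g (i, x)).1 = (hom h hH hm g (i, y)).1 := by
  obtain ⟨σ, τ, -, h2⟩ := hom_blk h hH hm g
  rw [h2, h2]

/-- the action on the blocks -/
noncomputable def bl (hm : 1 ≤ m) : H →* Equiv.Perm (Fin k) :=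
  MonoidHom.toHomPerm
    { toFun := fun g i => (hom h hH hm g (i, 0)).1
      map_one' := by
        funext i
        rw [map_one]
        rfl
      map_mul' := fun g g' => by
        funext i
        rw [map_mul, Equiv.Perm.mul_apply]
        exact hom_fst h hH hm g _ _ _ }

theorem bl_apply (hm : 1 ≤ m) (g : H) (i : Fin k) (x : Fin (2 ^ m + 1)) :
    bl h hH hm g i = (hom h hH hm g (i, x)).1 := hom_fst h hH hm g i 0 x

end basic

/-! ### The Sylow subgroup and the stabiliser of a block -/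

/-- a subgroup which is transitive on the orbit of `i` meets the stabiliser of `i` in a subgroup of the same index -/
theorem relIndex_stab {L : Type*} [Group L] [Finite L] {α : Type*} [MulAction L α] (S : Subgroup L) {i : α}
    (htr : ∀ g : L, ∃ s ∈ S, s • i = g • i) :
    (S ⊓ MulAction.stabilizer L i).relIndex (MulAction.stabilizer L i) = S.index := by
  set B := MulAction.stabilizer L i
  have horb : ∀ (K : Subgroup L), (K ⊓ B).relIndex K = (MulAction.orbit K i).ncard := by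
    intro K
    rw [inf_relIndex_left, ← MulAction.index_stabilizer (G := K) (x := i), relIndex]
    rfl
  have h1 : (S ⊓ B).relIndex S * S.relIndex ⊤ = (S ⊓ B).relIndex ⊤ :=
    relIndex_mul_relIndex _ _ _ inf_le_left le_top
  have h2 : (S ⊓ B).relIndex B * B.relIndex ⊤ = (S ⊓ B).relIndex ⊤ :=
    relIndex_mul_relIndex _ _ _ inf_le_right le_top
  have h3 : (S ⊓ B).relIndex S = B.relIndex ⊤ := by
    have h4 : (⊤ ⊓ B).relIndex ⊤ = (MulAction.orbit (⊤ : Subgroup L) i).ncard := horb ⊤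
    rw [top_inf_eq] at h4
    rw [horb S, h4]
    congr 1
    ext x
    constructor
    · rintro ⟨⟨s, hs⟩, rfl⟩
      exact ⟨⟨s, mem_top s⟩, rfl⟩
    · rintro ⟨⟨g, hg⟩, rfl⟩
      obtain ⟨s, hs, e⟩ := htr g
      exact ⟨⟨s, hs⟩, e⟩
  have h5 : B.relIndex ⊤ ≠ 0 := by
    rw [relIndex_top_right]
    exact FiniteIndex.index_ne_zero
  rw [← h2, h3, mul_comm, relIndex_top_right] at h1
  exact (Nat.eq_of_mul_eq_mul_right (Nat.pos_of_ne_zero h5) h1).symm

section syl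

variable {G : Type u} [Group G] [Finite G] {T H V D : Subgroup G} {k m : ℕ} (h : SymK T H V D k m)
  (hH : H ≤ normalizer (V : Set G)) (hTH : T ≤ H) (hT2 : ¬ 2 ∣ T.relIndex H) (hm : 1 ≤ m) (i₀ : Fin k)

/-- the stabiliser of a block -/
noncomputable def Bs : Subgroup H := (MulAction.stabilizer (Equiv.Perm (Fin k)) i₀).comap (bl h hH hm)

/-- the stabiliser of a point -/
noncomputable def Ms : Subgroup H :=
  (MulAction.stabilizer (Equiv.Perm (Fin k × Fin (2 ^ m + 1)))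
    ((i₀, 0) : Fin k × Fin (2 ^ m + 1))).comap (hom h hH hm)

theorem mem_Bs {g : H} : g ∈ Bs h hH hm i₀ ↔ bl h hH hm g i₀ = i₀ := Iff.rfl

theorem mem_Ms {g : H} : g ∈ Ms h hH hm i₀ ↔ hom h hH hm g (i₀, 0) = (i₀, 0) := Iff.rfl

theorem hom_Bs {g : H} (hg : g ∈ Bs h hH hm i₀) (x : Fin (2 ^ m + 1)) :
    hom h hH hm g (i₀, x) = (i₀, (hom h hH hm g (i₀, x)).2) :=
  Prod.ext ((bl_apply h hH hm g i₀ x).symm.trans ((mem_Bs h hH hm i₀).1 hg)) rfl

theorem Ms_le : Ms h hH hm i₀ ≤ Bs h hH hm i₀ := by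
  intro g hg
  rw [mem_Bs, bl_apply h hH hm g i₀ 0, (mem_Ms h hH hm i₀).1 hg]

include hTH hT2 in
theorem odd_Bs : ¬ 2 ∣ (T.subgroupOf H ⊓ Bs h hH hm i₀).relIndex (Bs h hH hm i₀) := by
  let _ : MulAction H (Fin k) := MulAction.compHom _ (bl h hH hm)
  have h1 : Bs h hH hm i₀ = MulAction.stabilizer H i₀ := rfl
  rw [h1, relIndex_stab (T.subgroupOf H)]
  · exact hT2
  · intro g
    obtain ⟨t, ht, h2⟩ := hom_T_trans h hH hTH hm i₀ (bl h hH hm g i₀)
    refine ⟨⟨t, hTH ht⟩, ht, ?_⟩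
    change bl h hH hm ⟨t, hTH ht⟩ i₀ = bl h hH hm g i₀
    rw [bl_apply h hH hm _ i₀ 0, h2]

include hTH in
theorem T_le_Ms {t : H} (ht : t ∈ T.subgroupOf H ⊓ Bs h hH hm i₀) : t ∈ Ms h hH hm i₀ := by
  rw [mem_Ms, hom_Bs h hH hm i₀ ht.2 0]
  exact Prod.ext rfl (hom_T h hH hTH hm (mem_subgroupOf.1 ht.1) i₀)

include hTH hT2 in
theorem odd_Ms : ¬ 2 ∣ (T.subgroupOf H ⊓ Bs h hH hm i₀).relIndex (Ms h hH hm i₀) := by
  intro h1
  apply odd_Bs h hH hTH hT2 hm i₀
  rw [← relIndex_mul_relIndex _ _ _ (fun t ht => T_le_Ms h hH hTH hm i₀ ht) (Ms_le h hH hm i₀)]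
  exact dvd_mul_of_dvd_left h1 _

/-- the action on the points of one block -/
noncomputable def pt : Bs h hH hm i₀ →* Equiv.Perm (Fin (2 ^ m + 1)) :=
  MonoidHom.toHomPerm
    { toFun := fun g x => (hom h hH hm g (i₀, x)).2
      map_one' := by
        funext x
        rw [OneMemClass.coe_one, map_one]
        rfl
      map_mul' := fun g g' => by
        funext x
        rw [MulMemClass.coe_mul, map_mul, Equiv.Perm.mul_apply, hom_Bs h hH hm i₀ g'.2 x]
        rfl }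

theorem pt_apply (g : Bs h hH hm i₀) (x : Fin (2 ^ m + 1)) : pt h hH hm i₀ g x = (hom h hH hm g (i₀, x)).2 := rfl

theorem pt_surjective : Function.Surjective (pt h hH hm i₀) := by
  intro τ
  obtain ⟨g, hg⟩ := hom_lift h hH hm fun _ => τ
  refine ⟨⟨g, ?_⟩, ?_⟩
  · rw [mem_Bs, bl_apply h hH hm g i₀ 0, hg]
  · ext1 x
    rw [pt_apply]
    change (hom h hH hm g (i₀, x)).2 = τ x
    rw [hg]

include hH hTH hT2 hm in
/-- the block coordinates of a fixed vector of `T` -/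
theorem fixed_cases {z : G} (hz : z ∈ V) (hzT : ∀ t ∈ T, t * z = z * t) :
    h.e z i₀ = 0 ∨ h.e z i₀ = hat (Pi.single 0 1) := by
  classical
  have hconst : ∀ i j : Fin (2 ^ m + 1), i ≠ 0 → j ≠ 0 → h.e z i₀ i = h.e z i₀ j := by
    intro i j hi hj
    obtain ⟨t, ht, htij⟩ := trans_of_surj (pt h hH hm i₀) (pt_surjective h hH hm i₀)
      (S' := (T.subgroupOf H ⊓ Bs h hH hm i₀).subgroupOf (Bs h hH hm i₀)) (odd_Bs h hH hTH hT2 hm i₀)
      (fun s hs => by
        rw [pt_apply]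
        exact hom_T h hH hTH hm (mem_subgroupOf.1 hs).1 i₀) hi hj
    have h1 := ac_hom h hH hm t z hz (i₀, i)
    rw [hom_Bs h hH hm i₀ t.2 i, ← pt_apply, htij,
      hzT ((t : H) : G) (mem_subgroupOf.1 (mem_subgroupOf.1 ht).1), mul_inv_cancel_right] at h1
    exact h1.symm
  have h1 : (1 : Fin (2 ^ m + 1)) ≠ 0 := by
    intro h3
    have h4 := congrArg Fin.val h3
    have h5 : 2 ^ 1 ≤ 2 ^ m := Nat.pow_le_pow_right (by norm_num) hm
    rw [Fin.val_one', Fin.val_zero, Nat.mod_eq_of_lt (by omega)] at h4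
    exact one_ne_zero h4
  have hsum := h.even z hz i₀
  rw [← Finset.add_sum_erase _ _ (Finset.mem_univ 0)] at hsum
  have hsum2 : ∑ x ∈ Finset.univ.erase (0 : Fin (2 ^ m + 1)), h.e z i₀ x = 0 := by
    rw [Finset.sum_congr rfl fun x hx => hconst x 1 (Finset.ne_of_mem_erase hx) h1, Finset.sum_const,
      Finset.card_erase_of_mem (Finset.mem_univ _), Finset.card_univ, Fintype.card_fin, Nat.add_sub_cancel,
      nsmul_eq_mul]
    have h6 : ((2 ^ m : ℕ) : ZMod 2) = 0 := by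
      rw [ZMod.natCast_eq_zero_iff]
      exact dvd_pow_self 2 (by omega)
    rw [h6, zero_mul]
  rw [hsum2, add_zero] at hsum
  have h01 : ∀ a : ZMod 2, a = 0 ∨ a = 1 := by decide
  rcases h01 (h.e z i₀ 1) with h2 | h2
  · left
    funext x
    by_cases hx : x = 0
    · subst hx
      exact hsum
    · rw [hconst x 1 hx h1, h2]
      rfl
  · right
    funext x
    rw [hat_single]
    by_cases hx : x = 0
    · subst hx
      rw [hsum, if_pos rfl, CharTwo.add_self_eq_zero]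
    · rw [hconst x 1 hx h1, h2, if_neg hx, zero_add]

end syl

/-! ### The splitting in the group -/

section group

variable {G : Type u} [Group G] [Finite G] {T H V D : Subgroup G} {k m : ℕ}

/-- some fixed vector of `T` is not in `D` -/
theorem exists_z (h : SymK T H (zl T H) D k m) (hk : 0 < k) (hm : 1 ≤ m) (hTH : T ≤ H) (hT2 : ¬ 2 ∣ T.relIndex H)
    (hD : H ≤ normalizer (D : Set G)) : ∃ z ∈ zc T, ∃ i₀, h.e z i₀ = hat (Pi.single 0 1) := by
  classical
  have hH := le_normalizer_zl T H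
  by_contra hcon
  push Not at hcon
  have h1 : zc T ≤ D := fun z hz => by
    rw [← h.ker z (zc_le_zl T H hz)]
    funext i
    exact (fixed_cases h hH hTH hT2 hm i (zc_le_zl T H hz) fun t ht => (mem_zc.1 hz).2.1 t ht).resolve_right
      (hcon z hz i)
  have h2 : zl T H ≤ D := zl_le h1 hD
  obtain ⟨v, hv, hev⟩ := h.surj (fun _ => hat (Pi.single 0 1)) fun _ => sum_hat hm (Pi.single 0 1)
  have h3 := (h.ker v hv).2 (h2 hv)
  rw [hev] at h3
  have h4 := (hat_eq_zero_iff hm _).1 (congrFun h3 ⟨0, hk⟩)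
  rcases h4 with h4 | h4
  · have h5 := congrFun h4 0
    simp only [_root_.Pi.single_eq_same, _root_.Pi.zero_apply, _root_.one_ne_zero] at h5
  · obtain ⟨j, hj⟩ : ∃ j : Fin (2 ^ m + 1), j ≠ 0 := by
      have h5 : 2 ^ 1 ≤ 2 ^ m := Nat.pow_le_pow_right (by norm_num) hm
      exact ⟨⟨1, by omega⟩, fun h6 => by simpa using congrArg Fin.val h6⟩
    have h5 := congrFun h4 j
    rw [Pi.single_eq_of_ne hj, Pi.one_apply] at h5
    exact zero_ne_one h5

/-- **The splitting from a fixed vector `z`**, uncurried labels. -/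
theorem exists_E' (h : SymK T H V D k m) (hm : 1 ≤ m) (hH : H ≤ normalizer (V : Set G)) (hTH : T ≤ H)
    (hT2 : ¬ 2 ∣ T.relIndex H) (hVc : ∀ x ∈ V, ∀ y ∈ V, x * y = y * x) (hV2 : ∀ x ∈ V, x ^ 2 = 1)
    {z : G} (hz : z ∈ V) (hzT : ∀ t ∈ T, t * z = z * t) {i₀ : Fin k} (hez : h.e z i₀ = hat (Pi.single 0 1)) :
    ∃ E : (Fin k × Fin (2 ^ m + 1) → ZMod 2) → G, (∀ y, E y ∈ V) ∧ (∀ x y, E (x + y) = E x * E y) ∧
      (∀ y i x, h.e (E y) i x = y (i, x) + ∑ x', y (i, x')) ∧ (∀ y, (∀ i x x', y (i, x) = y (i, x')) → E y = 1) ∧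
      ∀ g : H, ∀ y, (g : G) * E y * (g : G)⁻¹ = E (y ∘ (hom h hH hm g).symm) := by
  let _ := cact hVc
  let _ := dact hVc hH
  let e : Additive V →+ (Fin k × Fin (2 ^ m + 1) → ZMod 2) :=
    { toFun := fun v w => h.e (v.toMul : G) w.1 w.2
      map_zero' := by
        funext w
        change h.e (1 : G) w.1 w.2 = 0
        rw [e_one]
        rfl
      map_add' := fun v w => by
        funext u
        change h.e ((v.toMul : G) * (w.toMul : G)) u.1 u.2 = _
        rw [h.mul _ v.toMul.2 _ w.toMul.2]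
        rfl }
  obtain ⟨E, h1, h2, h3, h4⟩ := exists_E (X := Additive V) (K := H) hm (hom h hH hm)
    (fun g => by
      obtain ⟨σ, τ, -, q⟩ := hom_blk h hH hm g
      exact ⟨σ, τ, q⟩)
    (hom_lift h hH hm) (i₀ := i₀)
    (fun j => by
      obtain ⟨t, ht, q⟩ := hom_T_trans h hH hTH hm i₀ j
      exact ⟨⟨t, hTH ht⟩, by rw [q]⟩)
    (S := T.subgroupOf H ⊓ Bs h hH hm i₀) (M := Ms h hH hm i₀) (odd_Ms h hH hTH hT2 hm i₀)
    (fun g => Iff.rfl) (fun s hs => T_le_Ms h hH hTH hm i₀ hs) e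
    (fun g v w => ac_hom h hH hm g _ v.toMul.2 w) (fun v i => h.even _ v.toMul.2 i) (z := Additive.ofMul ⟨z, hz⟩)
    (fun t ht => by
      refine congrArg Additive.ofMul (Subtype.ext ?_)
      change (t : G) * z * (t : G)⁻¹ = z
      rw [hzT _ (mem_subgroupOf.1 ht.1), mul_inv_cancel_right])
    (fun x => congrFun hez x)
    (fun v => by
      refine congrArg Additive.ofMul (Subtype.ext ?_)
      change (v.toMul : G) * (v.toMul : G) = 1
      rw [← pow_two]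
      exact hV2 _ v.toMul.2)
  refine ⟨fun x => ((E x).toMul : G), fun x => (E x).toMul.2, fun x y => ?_, fun y i x => h2 y (i, x),
    fun y hy => ?_, ?_⟩
  · exact congrArg (fun v : Additive V => (v.toMul : G)) (h1 x y)
  · change ((E y).toMul : G) = 1
    rw [h3 y hy]
    rfl
  · intro g y
    exact congrArg (fun v : Additive V => (v.toMul : G)) (h4 g y)

/-- **The module of a member with `k` factors `S_{2^m+1}` splits**: `H` centralises `D = C_V(O²(H))`, and there are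
labels `ε i x` of the summands which `H` permutes. -/
theorem exists_spl (h : SymK T H (zl T H) (cv T H) k m) (hk : 0 < k) (hm : 1 ≤ m) (hT : Syl T H)
    (hc : H ⊓ centralizer (o2 H : Set G) ≤ o2 H) :
    H ≤ centralizer (cv T H : Set G) ∧ ∃ ε : Fin k → (Fin (2 ^ m + 1) → ZMod 2) → G,
      (∀ i x, ε i x ∈ zl T H) ∧ (∀ i x y, ε i (x + y) = ε i x * ε i y) ∧
      (∀ i x, h.e (ε i x) = Pi.single i (hat x)) ∧ (∀ i, ε i 1 = 1) ∧
      ∀ g ∈ H, ∀ σ τ, ActsSym h.e (zl T H) g σ τ → ∀ i x, g * ε i x * g⁻¹ = ε (σ i) (x ∘ (τ i).symm) := by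
  classical
  have hTH := hT.1
  have hT2 := syl_not_dvd hT
  have hH := le_normalizer_zl T H
  have hVc := zl_comm hTH hT.2.1 hT2 hc
  have hV2 := zl_sq hTH hT.2.1 hT2 hc
  have hDV : cv T H ≤ zl T H := inf_le_left
  have hO : H ≤ normalizer (oddGen H : Set G) := le_normalizer_oddGen H
  have hDn : ∀ g ∈ H, ∀ d ∈ cv T H, g * d * g⁻¹ ∈ cv T H := by
    intro g hg d hd
    refine ⟨(mem_normalizer_iff.1 (hH hg) _).1 hd.1, mem_centralizer_iff.2 fun o ho => ?_⟩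
    have h1 : g⁻¹ * o * g ∈ oddGen H := by
      have := (mem_normalizer_iff.1 (hO (inv_mem hg)) o).1 ho
      rwa [inv_inv] at this
    have h2 := mem_centralizer_iff.1 hd.2 _ h1
    calc o * (g * d * g⁻¹) = g * ((g⁻¹ * o * g) * d) * g⁻¹ := by group
      _ = g * (d * (g⁻¹ * o * g)) * g⁻¹ := by rw [h2]
      _ = g * d * g⁻¹ * o := by group
  have hDN : H ≤ normalizer (cv T H : Set G) := by
    intro g hg
    rw [mem_normalizer_iff]
    refine fun d => ⟨hDn g hg d, fun hd => ?_⟩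
    have h1 := hDn g⁻¹ (inv_mem hg) _ hd
    have e : g⁻¹ * (g * d * g⁻¹) * g⁻¹⁻¹ = d := by group
    rwa [e] at h1
  obtain ⟨z, hz, i₀, hez⟩ := exists_z h hk hm hTH hT2 hDN
  obtain ⟨E, he1, he2, he3, he4, he5⟩ := exists_E' h hm hH hTH hT2 hVc hV2 (zc_le_zl T H hz)
    (fun t ht => (mem_zc.1 hz).2.1 t ht) hez
  have h0 : E 0 = 1 := he4 0 fun _ _ _ => rfl
  have hself : ∀ y : Fin k × Fin (2 ^ m + 1) → ZMod 2, y + y = 0 := fun y =>
    funext fun w => CharTwo.add_self_eq_zero (y w)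
  have hinv : ∀ x, (E x)⁻¹ = E x := fun x => by
    rw [inv_eq_iff_mul_eq_one, ← he2, hself, h0]
  let A : Subgroup G :=
    { carrier := Set.range E
      one_mem' := ⟨0, h0⟩
      mul_mem' := by
        rintro _ _ ⟨x, rfl⟩ ⟨y, rfl⟩
        exact ⟨x + y, he2 x y⟩
      inv_mem' := by
        rintro _ ⟨x, rfl⟩
        exact ⟨x, (hinv x).symm⟩ }
  have hA : ∀ x, E x ∈ A := fun x => ⟨x, rfl⟩
  have hAn : ∀ g ∈ H, ∀ a ∈ A, g * a * g⁻¹ ∈ A := by
    rintro g hg _ ⟨y, rfl⟩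
    rw [he5 ⟨g, hg⟩ y]
    exact hA _
  have hAN : H ≤ normalizer (A : Set G) := by
    intro g hg
    rw [mem_normalizer_iff]
    refine fun a => ⟨hAn g hg a, fun ha => ?_⟩
    have h1 := hAn g⁻¹ (inv_mem hg) _ ha
    have e : g⁻¹ * (g * a * g⁻¹) * g⁻¹⁻¹ = a := by group
    rwa [e] at h1
  -- the intersection with `D`
  have hinf : A ⊓ cv T H = ⊥ := by
    rw [eq_bot_iff]
    rintro _ ⟨⟨y, rfl⟩, hx⟩
    rw [mem_bot]
    have h1 := (h.ker _ (he1 y)).2 hx
    refine he4 y fun i x x' => ?_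
    have h2 : ∀ x, y (i, x) = ∑ x', y (i, x') := by
      intro x
      have h3 := he3 y i x
      rw [h1] at h3
      exact CharTwo.add_eq_zero.1 h3.symm
    rw [h2 x, h2 x']
  have hAV : A ≤ zl T H := by
    rintro _ ⟨x, rfl⟩
    exact he1 x
  have hsup : A ⊔ cv T H = zl T H := by
    refine le_antisymm (sup_le hAV hDV) fun v hv => ?_
    have h1 : (E fun w => h.e v w.1 w.2)⁻¹ * v ∈ cv T H := by
      rw [hinv, ← h.ker _ (mul_mem (he1 _) hv), h.mul _ (he1 _) v hv]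
      funext i x
      rw [Pi.add_apply, Pi.add_apply, he3]
      simp only
      rw [h.even v hv i, add_zero]
      exact CharTwo.add_self_eq_zero _
    have e : v = (E fun w => h.e v w.1 w.2) * ((E fun w => h.e v w.1 w.2)⁻¹ * v) := by group
    rw [e]
    exact mul_mem_sup (hA _) h1
  have hcomm : ∀ x ∈ A, ∀ y ∈ cv T H, x * y = y * x := fun x hx y hy => hVc x (hAV hx) y (hDV hy)
  -- `D` is centralised by `H`
  have hC : zc T ≤ A ⊔ (cv T H ⊓ centralizer (H : Set G)) := by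
    intro v hv
    have hvV := zc_le_zl T H hv
    rw [← hsup] at hvV
    obtain ⟨a, ha, d, hd, rfl⟩ := mem_sup_comm hcomm hvV
    refine mul_mem_sup ha ⟨hd, ?_⟩
    have h1 : T ≤ centralizer ({d} : Set G) := by
      intro t ht
      rw [mem_centralizer_singleton_iff]
      have h2 : t * (a * d) = a * d * t := (mem_zc.1 hv).2.1 t ht
      have h3 : t * a * t⁻¹ ∈ A := hAn t (hTH ht) a ha
      have h4 : t * d * t⁻¹ ∈ cv T H := hDn t (hTH ht) d hd
      have h5 : a⁻¹ * (t * a * t⁻¹) = d * (t * d * t⁻¹)⁻¹ := by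
        have h6 : a * d = t * a * t⁻¹ * (t * d * t⁻¹) := by
          calc a * d = t * (a * d) * t⁻¹ := by rw [h2, mul_inv_cancel_right]
            _ = _ := by group
        rw [inv_mul_eq_iff_eq_mul, ← mul_assoc, eq_mul_inv_iff_mul_eq]
        exact h6.symm
      have h6 : d * (t * d * t⁻¹)⁻¹ ∈ A ⊓ cv T H := by
        refine ⟨?_, (cv T H).mul_mem hd ((cv T H).inv_mem h4)⟩
        rw [← h5]
        exact A.mul_mem (A.inv_mem ha) h3
      rw [hinf, mem_bot, mul_inv_eq_one] at h6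
      calc t * d = t * d * t⁻¹ * t := by group
        _ = d * t := by rw [← h6]
    have h2 : oddGen H ≤ centralizer ({d} : Set G) := by
      intro o ho
      rw [mem_centralizer_singleton_iff]
      exact mem_centralizer_iff.1 hd.2 o ho
    have h3 : H ≤ centralizer ({d} : Set G) := by
      rw [← Cfsg.Agent.Omega.NO3b.EZero.oddGen_sup_syl hT]
      exact sup_le h2 h1
    exact mem_centralizer_iff.2 fun g hg => mem_centralizer_singleton_iff.1 (h3 hg)
  have hC2 : zl T H ≤ A ⊔ (cv T H ⊓ centralizer (H : Set G)) := by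
    refine zl_le hC ?_
    intro g hg
    rw [mem_normalizer_iff_map_conj_eq, Subgroup.map_sup]
    congr 1
    · exact mem_normalizer_iff_map_conj_eq.1 (hAN hg)
    · refine mem_normalizer_iff_map_conj_eq.1 ?_
      refine (centralizer_le_normalizer _) (mem_centralizer_iff.2 fun d hd => ?_)
      exact (mem_centralizer_iff.1 hd.2 g hg).symm
  refine ⟨?_, fun i x => E fun w => if w.1 = i then x w.2 else 0, fun i x => he1 _, ?_, ?_, ?_, ?_⟩
  · intro g hg
    refine mem_centralizer_iff.2 fun d hd => ?_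
    obtain ⟨a, ha, d', hd', rfl⟩ := mem_sup_comm
      (fun x hx y (hy : y ∈ cv T H ⊓ centralizer (H : Set G)) => hcomm x hx y (mem_inf.1 hy).1) (hC2 (hDV hd))
    have h1 : a ∈ A ⊓ cv T H := by
      refine ⟨ha, ?_⟩
      have := mul_mem hd (inv_mem hd'.1)
      rwa [mul_inv_cancel_right] at this
    rw [hinf, mem_bot] at h1
    rw [h1, one_mul]
    exact (mem_centralizer_iff.1 hd'.2 g hg).symm
  · intro i x y
    rw [← he2]
    change E (fun w => if w.1 = i then (x + y) w.2 else 0) = E _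
    congr 1
    funext w
    by_cases hw : w.1 = i <;> simp [hw]
  · intro i x
    funext j y
    rw [he3]
    by_cases hj : j = i
    · subst hj
      simp [hat]
    · rw [Pi.single_eq_of_ne hj]
      simp [hj]
  · intro i
    refine he4 _ fun j x x' => rfl
  · intro g hg σ τ hστ i x
    rw [he5 ⟨g, hg⟩]
    congr 1
    funext w
    obtain ⟨⟨j, y⟩, rfl⟩ := (hom h hH hm ⟨g, hg⟩).surjective w
    rw [hom_sym h hH hm ⟨g, hg⟩ hστ, ← hom_sym h hH hm ⟨g, hg⟩ hστ, Function.comp_apply, Equiv.symm_apply_apply,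
      hom_sym h hH hm ⟨g, hg⟩ hστ]
    simp only [Function.comp_apply]
    by_cases hj : j = i
    · subst hj
      simp
    · rw [if_neg hj, if_neg fun h => hj (σ.injective h)]

end group

end Cfsg.Agent.Omega.IId.SwCv.Spl

end

private theorem dce_7f9bea5a23d1 : _root_.True := by
  try have : _root_.True := by simp only [_root_.Cfsg.Agent.Omega.F4.Split.sc.eq_1]
  exact _root_.True.intro
end

section
prune_inst 0xf0fefbaff8bddfffff7e7ffffddffc39d05fffffdff94bffe1ebff5fbf03676be5fba78de4d0fecef6e29c30b87853fbffc67feb6bdc7ffffd5ff45ffbee1fb7efbf8d71d7bc341ffc6ffffbf37fae7f000000000000000000000000000041004200000000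

-- part: Mrg/Omega/TTn/TwoTypes
section
prune_inst 0xd0100500542200000000000020003c42ba000002006b0001e1400a0406c8894180440720b02013100102282408380040039800494030000000008200411c0481040200028008a00021000040c804000000000000000000000000000000000000000000000
set_option linter.all false
open scoped Cfsg.Agent.FastGrp

section


/-!
# T-T with two modules over the same Sylow 2-subgroup, `n` not 2-central: reduction to one module

`M₁ : FiveMod V₁ L₁`, `M₂ : FiveMod V₂ L₂`, both with the same `n = {0 1}` and `a = {2 3}`; `O₂(C_G(n))` contains `V₁`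
and `V₂` and acts on both inside `⟨(0 1)⟩`; some element of `V₂ ^ h`, `h ∈ C_G(n)`, acts as `(0 1)` on `V₁` and
conversely; `x` normalises `V₁`, `V₂` and swaps `n` and `a`; `O₂(C_G(V₂))` acts on `V₁` inside `⟨(0 1), (2 3)⟩`.

LEMMA TWO (`Duo.not_comm`): `⟨V₂ ^ C_G(n)⟩` is not abelian. So (`Duo.exists_one`) some `V₂ ^ k`, `k ∈ C_G(n)`, and
`V₂` act on each other as `⟨(0 1)⟩`: a transvection pair of ONE module, with the same `n`.

Proof (K-free). Suppose `W = ⟨V₂ ^ C_G(n)⟩` is abelian, `R = O₂(C_G(V₂))`, `b = {2 4} ∈ V₁`, `U = ⟨a ^ C_G(n)⟩`.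
Then `W, W ^ x, U ≤ R` and `[b, R] = ⟨a⟩`. Take `g ∈ L₂` mapping `a`, `n` to `c = {0 4}`, `a` and `f = b ^ g`:
`[f, R] = ⟨c⟩`, so `[f, U] ≤ U ∩ ⟨c⟩ = 1` and `f ∈ O₂(C_G(a)) ∩ C(U) ≤ O₂(C_G(n))`. An element `w` of
`⟨V₁ ^ C_G(n)⟩` inducing `(0 1)` on `V₂` maps `f` into `f ⟨n⟩` and `⟨c⟩ = [f ⟨n⟩, R]` to `⟨c ^ w⟩ ≠ ⟨c⟩`, a
contradiction.
-/

set_option autoImplicit false

namespace Cfsg.Agent.Omega.TTn.TwoTypes

open Subgroup Cfsg Cfsg.Agent.ZN Cfsg.Agent.ZN.ChoiceBase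
open Cfsg.Agent.Omega.S5.Mod Cfsg.Agent.Omega.S5.TT
open Cfsg.Agent.MinSimple.VModule (o2_isPGroup le_o2 o2_le le_normalizer_o2 o2_le_of_sylow)

universe u

variable {G : Type u} [Group G]

/-- `{2 4}` -/
def bb : Vec := ![0, 0, 1, 0, 1]
/-- `{0 4}` -/
def cc : Vec := ![1, 0, 0, 0, 1]
/-- `{0 1} → {2 3} → {0 4}` -/
def sg : Equiv.Perm (Fin 5) := Equiv.swap (0 : Fin 5) 2 * (Equiv.swap (1 : Fin 5) 3 * Equiv.swap (3 : Fin 5) 4)

/-- `⟨V^{C_G(c)}⟩` -/
def W (V : Subgroup G) (c : G) : Subgroup G :=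
  closure {y | ∃ g, g * c = c * g ∧ ∃ v ∈ V, y = g * v * g⁻¹}

theorem mem_W {V : Subgroup G} {c g v : G} (hg : g * c = c * g) (hv : v ∈ V) : g * v * g⁻¹ ∈ W V c :=
  subset_closure ⟨g, hg, v, hv, rfl⟩

theorem le_W (V : Subgroup G) (c : G) : V ≤ W V c := fun v hv => by
  have := mem_W (V := V) (c := c) (g := 1) (v := v) (by rw [one_mul, mul_one]) hv
  simpa using this

theorem W_le {V D : Subgroup G} {c : G} (h1 : V ≤ D)
    (h2 : ∀ g, g * c = c * g → ∀ d ∈ D, g * d * g⁻¹ ∈ D) : W V c ≤ D := by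
  rw [W, closure_le]
  rintro _ ⟨g, hg, v, hv, rfl⟩
  exact h2 g hg v (h1 hv)

theorem W_conj {V V' : Subgroup G} {c l w : G} (hl : ∀ v ∈ V, l * v * l⁻¹ ∈ V') (hw : w ∈ W V c) :
    l * w * l⁻¹ ∈ W V' (l * c * l⁻¹) := by
  induction hw using closure_induction with
  | mem y hy =>
    obtain ⟨g, hg, v, hv, rfl⟩ := hy
    have h1 : l * (g * v * g⁻¹) * l⁻¹ = (l * g * l⁻¹) * (l * v * l⁻¹) * (l * g * l⁻¹)⁻¹ := by group
    rw [h1]
    refine mem_W ?_ (hl v hv)
    calc l * g * l⁻¹ * (l * c * l⁻¹) = l * (g * c) * l⁻¹ := by group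
      _ = l * (c * g) * l⁻¹ := by rw [hg]
      _ = l * c * l⁻¹ * (l * g * l⁻¹) := by group
  | one => simp
  | mul a b _ _ ha hb =>
    have h1 : l * (a * b) * l⁻¹ = (l * a * l⁻¹) * (l * b * l⁻¹) := by group
    rw [h1]; exact mul_mem ha hb
  | inv a _ ha =>
    have h1 : l * a⁻¹ * l⁻¹ = (l * a * l⁻¹)⁻¹ := by group
    rw [h1]; exact inv_mem ha

theorem W_norm {V : Subgroup G} {c g w : G} (hg : g * c = c * g) (hw : w ∈ W V c) : g * w * g⁻¹ ∈ W V c := by
  induction hw using closure_induction with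
  | mem y hy =>
    obtain ⟨k, hk, v, hv, rfl⟩ := hy
    have h1 : g * (k * v * k⁻¹) * g⁻¹ = (g * k) * v * (g * k)⁻¹ := by group
    rw [h1]
    refine mem_W ?_ hv
    rw [mul_assoc, hk, ← mul_assoc, hg, mul_assoc]
  | one => simp
  | mul a b _ _ ha hb =>
    have h1 : g * (a * b) * g⁻¹ = (g * a * g⁻¹) * (g * b * g⁻¹) := by group
    rw [h1]; exact mul_mem ha hb
  | inv a _ ha =>
    have h1 : g * a⁻¹ * g⁻¹ = (g * a * g⁻¹)⁻¹ := by group
    rw [h1]; exact inv_mem ha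

theorem mem_C {x y : G} : x ∈ centralizer ({y} : Set G) ↔ x * y = y * x :=
  mem_centralizer_singleton_iff

/-- `g ∈ N_G(V)` normalises `O₂(C_G(V))`. -/
theorem conj_R {V : Subgroup G} {g r : G} (hg : g ∈ normalizer (V : Set G))
    (hr : r ∈ o2 (centralizer (V : Set G))) : g * r * g⁻¹ ∈ o2 (centralizer (V : Set G)) := by
  have h1 : cj g (o2 (centralizer (V : Set G))) = o2 (centralizer (V : Set G)) := by
    rw [← pCore_cj]
    congr 1
    have := cj_centralizer g V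
    rw [cj_eq_of_mem_normalizer hg] at this
    exact this
  rw [← h1]
  exact ⟨r, hr, rfl⟩

/-- `g` normalising `X` normalises `O₂(X)`. -/
theorem conj_o2 {X : Subgroup G} {g : G} (hg : g ∈ normalizer (X : Set G)) :
    g ∈ normalizer (o2 X : Set G) := by
  rw [mem_normalizer_iff]
  have h1 : cj g (o2 X) = o2 X := by rw [← pCore_cj, cj_eq_of_mem_normalizer hg]
  intro y
  constructor
  · intro hy
    rw [← h1]
    exact ⟨y, hy, rfl⟩
  · intro hy
    rw [← h1, mem_cj] at hy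
    have h2 : g⁻¹ * (g * y * g⁻¹) * g = y := by group
    rwa [h2] at hy

theorem inv_comm {g c : G} (hg : g * c = c * g) : g⁻¹ * c = c * g⁻¹ := by
  have := congrArg (fun t => g⁻¹ * t * g⁻¹) hg
  simpa [mul_assoc] using this.symm

theorem ttp_bb : ∀ p : Equiv.Perm (Fin 5), TTp p →
    ((bb ∘ p.symm + bb = 0 ∨ bb ∘ p.symm + bb = 1) ∨ (bb ∘ p.symm + bb = aa ∨ bb ∘ p.symm + bb = aa + 1)) := by
  intro p hp
  rcases hp with rfl | rfl | rfl | rfl <;> decide

/-- an element of `⟨(0 1), (2 3)⟩` which is not the identity and has commutators in `⟨a⟩` is `(2 3)`: it moves `b`. -/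
theorem ttp_move : ∀ p : Equiv.Perm (Fin 5), TTp p → p ≠ 1 →
    (∀ y : Vec, (y ∘ p.symm + y = 0 ∨ y ∘ p.symm + y = 1) ∨ (y ∘ p.symm + y = aa ∨ y ∘ p.symm + y = aa + 1)) →
    bb ∘ p.symm + bb = aa ∨ bb ∘ p.symm + bb = aa + 1 := by
  intro p hp hp1 h
  rcases hp with rfl | rfl | rfl | rfl
  · exact absurd rfl hp1
  · exact absurd (h ![0, 1, 1, 0, 0]) (by decide)
  · decide
  · exact absurd (h ![0, 1, 0, 0, 1]) (by decide)

/-- The configuration: two modules with the same `n` and `a`. -/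
structure Duo {V₁ L₁ V₂ L₂ : Subgroup G} (M₁ : FiveMod V₁ L₁) (M₂ : FiveMod V₂ L₂) (x h : G) : Prop where
  en : M₂.e nn = M₁.e nn
  ea : M₂.e aa = M₁.e aa
  q₁ : ∀ q ∈ o2 (centralizer ({M₁.e nn} : Set G)), M₁.Ind q 1 ∨ M₁.Ind q (Equiv.swap (0 : Fin 5) 1)
  q₂ : ∀ q ∈ o2 (centralizer ({M₁.e nn} : Set G)), M₂.Ind q 1 ∨ M₂.Ind q (Equiv.swap (0 : Fin 5) 1)
  v₁ : V₁ ≤ o2 (centralizer ({M₁.e nn} : Set G))
  v₂ : V₂ ≤ o2 (centralizer ({M₁.e nn} : Set G))
  r₁ : ∀ r ∈ o2 (centralizer (V₂ : Set G)), ∃ p, TTp p ∧ M₁.Ind r p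
  xn : x * M₁.e nn * x⁻¹ = M₁.e aa
  x₁ : x ∈ normalizer (V₁ : Set G)
  x₂ : x ∈ normalizer (V₂ : Set G)
  hn : h * M₁.e nn = M₁.e nn * h
  act : ∃ v ∈ V₂, M₁.Ind (h * v * h⁻¹) (Equiv.swap (0 : Fin 5) 1)
  act' : ∃ v ∈ V₁, M₂.Ind (h⁻¹ * v * h) (Equiv.swap (0 : Fin 5) 1)

namespace Duo

variable {V₁ L₁ V₂ L₂ : Subgroup G} {M₁ : FiveMod V₁ L₁} {M₂ : FiveMod V₂ L₂} {x h : G}

theorem swap_one_or (y : Vec) {V L : Subgroup G} {M : FiveMod V L} {q : G}
    (hq : M.Ind q 1 ∨ M.Ind q (Equiv.swap (0 : Fin 5) 1)) :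
    q * M.e y * q⁻¹ * (M.e y)⁻¹ = 1 ∨ q * M.e y * q⁻¹ * (M.e y)⁻¹ = M.e nn := by
  rcases hq with hq | hq
  · left
    rw [hq.comm_eq, M.ker]
    left
    exact add_self y
  · rw [hq.comm_eq]
    rcases swap_comm y with h1 | h1
    · exact Or.inl ((M.ker _).2 h1)
    · exact Or.inr (M.e_eq_iff.2 h1)

variable (t : Duo M₁ M₂ x h)
include t

theorem aQ {q : G} (hq : q ∈ o2 (centralizer ({M₁.e nn} : Set G))) : q * M₁.e aa = M₁.e aa * q := by
  rcases t.q₁ q hq with h1 | h1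
  · exact (h1.commute_iff _).2 (Or.inl (by decide))
  · exact (h1.commute_iff _).2 (Or.inl (by decide))

theorem comm₁ {q v : G} (hq : q ∈ o2 (centralizer ({M₁.e nn} : Set G))) (hv : v ∈ V₁) :
    q * v * q⁻¹ * v⁻¹ = 1 ∨ q * v * q⁻¹ * v⁻¹ = M₁.e nn := by
  obtain ⟨y, rfl⟩ := (M₁.mem_iff v).1 hv
  exact swap_one_or y (t.q₁ q hq)

theorem comm₂ {q v : G} (hq : q ∈ o2 (centralizer ({M₁.e nn} : Set G))) (hv : v ∈ V₂) :
    q * v * q⁻¹ * v⁻¹ = 1 ∨ q * v * q⁻¹ * v⁻¹ = M₁.e nn := by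
  obtain ⟨y, rfl⟩ := (M₂.mem_iff v).1 hv
  rw [← t.en]
  exact swap_one_or y (t.q₂ q hq)

/-- `[V₁, V₂] = 1` -/
theorem comm_V {u v : G} (hu : u ∈ V₁) (hv : v ∈ V₂) : u * v = v * u := by
  have h1 := t.comm₂ (t.v₁ hu) hv
  have hu' : x⁻¹ * u * x ∈ V₁ := by
    have := (mem_normalizer_iff.1 (inv_mem t.x₁) u).1 hu
    rwa [inv_inv] at this
  have hv' : x⁻¹ * v * x ∈ V₂ := by
    have := (mem_normalizer_iff.1 (inv_mem t.x₂) v).1 hv
    rwa [inv_inv] at this
  have h2 := t.comm₂ (t.v₁ hu') hv'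
  have h3 : u * v * u⁻¹ * v⁻¹ =
      x * (x⁻¹ * u * x * (x⁻¹ * v * x) * (x⁻¹ * u * x)⁻¹ * (x⁻¹ * v * x)⁻¹) * x⁻¹ := by group
  have h4 : u * v * u⁻¹ * v⁻¹ = 1 ∨ u * v * u⁻¹ * v⁻¹ = M₁.e aa := by
    rcases h2 with h2 | h2
    · left; rw [h3, h2]; group
    · right; rw [h3, h2, t.xn]
  have h5 : u * v * u⁻¹ * v⁻¹ = 1 := by
    rcases h1 with h1 | h1
    · exact h1
    rcases h4 with h4 | h4
    · exact h4
    exact absurd (h1.symm.trans h4) (Pos.n_ne_a M₁)
  exact eq_of_mul_inv_eq_one (by rw [← h5]; group)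

/-- LEMMA TWO. -/
theorem not_comm [Finite G] : ¬ ∀ u ∈ W V₂ (M₁.e nn), ∀ v ∈ W V₂ (M₁.e nn), u * v = v * u := by
  intro hab
  set n := M₁.e nn with hn
  set a := M₁.e aa with ha
  set N := centralizer ({n} : Set G) with hN
  set Q := o2 N with hQ
  set Qa := o2 (centralizer ({a} : Set G)) with hQa
  set R := o2 (centralizer (V₂ : Set G)) with hR
  have hna : cj x Q = Qa := by rw [hQ, hN, o2_conj x n, t.xn]
  -- `V₂ ∋ n, a`
  have hnV : n ∈ V₂ := by rw [hn, ← t.en]; exact M₂.e_mem _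
  have haV : a ∈ V₂ := by rw [ha, ← t.ea]; exact M₂.e_mem _
  have hCn : ∀ g ∈ centralizer (V₂ : Set G), g * n = n * g := fun g hg =>
    (mem_centralizer_iff.1 hg n hnV).symm
  have hCa : ∀ g ∈ centralizer (V₂ : Set G), g * a = a * g := fun g hg =>
    (mem_centralizer_iff.1 hg a haV).symm
  have hV₂a : V₂ ≤ Qa := by
    rw [← hna]
    intro v hv
    rw [mem_cj]
    refine t.v₂ ?_
    have := (mem_normalizer_iff.1 (inv_mem t.x₂) v).1 hv
    rwa [inv_inv] at this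
  -- `W V₂ a ≤ R`
  have hWa : W V₂ a ≤ R := by
    have h1 : ∀ w ∈ W V₂ a, x⁻¹ * w * x ∈ W V₂ n := by
      intro w hw
      have h2 := W_conj (V' := V₂) (l := x⁻¹) (fun v hv =>
        (mem_normalizer_iff.1 (inv_mem t.x₂) v).1 hv) hw
      have h3 : x⁻¹ * a * x⁻¹⁻¹ = n := by rw [ha, ← t.xn, hn]; group
      rw [h3, inv_inv] at h2
      exact h2
    refine le_o2 ?_ ?_ ?_
    · intro w hw
      rw [mem_centralizer_iff]
      intro v hv
      have hv' : x⁻¹ * v * x ∈ V₂ := by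
        have := (mem_normalizer_iff.1 (inv_mem t.x₂) v).1 hv
        rwa [inv_inv] at this
      have h2 := hab _ (le_W _ _ hv') _ (h1 w hw)
      calc v * w = x * ((x⁻¹ * v * x) * (x⁻¹ * w * x)) * x⁻¹ := by group
        _ = x * ((x⁻¹ * w * x) * (x⁻¹ * v * x)) * x⁻¹ := by rw [h2]
        _ = w * v := by group
    · refine (o2_isPGroup (centralizer ({a} : Set G))).to_le (W_le hV₂a fun g hg d hd => ?_)
      exact (mem_normalizer_iff.1 (le_normalizer_o2 _ (mem_C.2 hg)) d).1 hd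
    · intro g hg
      refine mem_normalizer_of_cj_le ?_
      rintro _ ⟨w, hw, rfl⟩
      exact W_norm (hCa g hg) hw
  -- an element of `R` moving `b`
  obtain ⟨r₀, hr₀, hb₀⟩ : ∃ r ∈ R, r * M₁.e bb * r⁻¹ * (M₁.e bb)⁻¹ = a := by
    obtain ⟨v, hv, hi⟩ := t.act
    have hw : h * v * h⁻¹ ∈ W V₂ n := mem_W t.hn hv
    have hwQ : h * v * h⁻¹ ∈ Q :=
      (mem_normalizer_iff.1 (le_normalizer_o2 _ (mem_C.2 t.hn)) v).1 (t.v₂ hv)
    have hw' : x * (h * v * h⁻¹) * x⁻¹ ∈ W V₂ a := by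
      have h2 := W_conj (V' := V₂) (l := x) (fun v hv => (mem_normalizer_iff.1 t.x₂ v).1 hv) hw
      rwa [t.xn] at h2
    refine ⟨_, hWa hw', ?_⟩
    obtain ⟨p, hp, hpi⟩ := t.r₁ _ (hWa hw')
    have hp1 : p ≠ 1 := by
      rintro rfl
      rw [FiveMod.ind_one_iff, mem_centralizer_iff] at hpi
      have h3 : h * v * h⁻¹ ∈ centralizer (V₁ : Set G) := by
        rw [mem_centralizer_iff]
        intro u hu
        have h4 := hpi _ ((mem_normalizer_iff.1 t.x₁ u).1 hu)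
        calc u * (h * v * h⁻¹) = x⁻¹ * ((x * u * x⁻¹) * (x * (h * v * h⁻¹) * x⁻¹)) * x := by group
          _ = x⁻¹ * ((x * (h * v * h⁻¹) * x⁻¹) * (x * u * x⁻¹)) * x := by rw [h4]
          _ = h * v * h⁻¹ * u := by group
      have h5 := (FiveMod.ind_one_iff (M := M₁)).2 h3
      exact absurd (FiveMod.Ind.unique h5 hi) (by decide)
    rw [hpi.comm_eq, ha, M₁.e_eq_iff]
    refine ttp_move p hp hp1 fun y => ?_
    have h6 : x * (h * v * h⁻¹) * x⁻¹ * M₁.e y * (x * (h * v * h⁻¹) * x⁻¹)⁻¹ * (M₁.e y)⁻¹ = 1 ∨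
        x * (h * v * h⁻¹) * x⁻¹ * M₁.e y * (x * (h * v * h⁻¹) * x⁻¹)⁻¹ * (M₁.e y)⁻¹ = M₁.e aa := by
      have hy' : x⁻¹ * M₁.e y * x ∈ V₁ := by
        have := (mem_normalizer_iff.1 (inv_mem t.x₁) _).1 (M₁.e_mem y)
        rwa [inv_inv] at this
      have h7 : x * (h * v * h⁻¹) * x⁻¹ * M₁.e y * (x * (h * v * h⁻¹) * x⁻¹)⁻¹ * (M₁.e y)⁻¹ =
          x * ((h * v * h⁻¹) * (x⁻¹ * M₁.e y * x) * (h * v * h⁻¹)⁻¹ * (x⁻¹ * M₁.e y * x)⁻¹) * x⁻¹ := by
        group
      rcases t.comm₁ hwQ hy' with h8 | h8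
      · left; rw [h7, h8]; group
      · right; rw [h7, h8, t.xn]
    rw [hpi.comm_eq, M₁.ker, M₁.e_eq_iff] at h6
    exact h6
  -- `[b, R] ≤ ⟨a⟩`
  have hbR : ∀ r ∈ R, r * M₁.e bb * r⁻¹ * (M₁.e bb)⁻¹ = 1 ∨ r * M₁.e bb * r⁻¹ * (M₁.e bb)⁻¹ = a := by
    intro r hr
    obtain ⟨p, hp, hpi⟩ := t.r₁ r hr
    rw [hpi.comm_eq, M₁.ker, ha, M₁.e_eq_iff]
    exact ttp_bb p hp
  -- `U = ⟨a^N⟩`
  set U := W (zpowers a) n with hU
  have haU : a ∈ U := le_W _ _ (mem_zpowers a)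
  have hUQ : U ≤ Q := W_le ((zpowers_le).2 (t.v₁ (M₁.e_mem _))) fun g hg d hd =>
    (mem_normalizer_iff.1 (le_normalizer_o2 _ (mem_C.2 hg)) d).1 hd
  have hUC : U ≤ centralizer (Q : Set G) := by
    refine W_le ((zpowers_le).2 (mem_centralizer_iff.2 fun q hq => t.aQ hq)) fun g hg d hd => ?_
    rw [mem_centralizer_iff] at hd ⊢
    intro q hq
    have h1 : g⁻¹ * q * g ∈ Q := by
      have := (mem_normalizer_iff.1 (le_normalizer_o2 N (inv_mem (mem_C.2 hg))) q).1 hq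
      rwa [inv_inv] at this
    have h2 := hd _ h1
    calc q * (g * d * g⁻¹) = g * ((g⁻¹ * q * g) * d) * g⁻¹ := by group
      _ = g * (d * (g⁻¹ * q * g)) * g⁻¹ := by rw [h2]
      _ = g * d * g⁻¹ * q := by group
  have hUR : U ≤ R := by
    refine le_o2 ?_ ((o2_isPGroup N).to_le hUQ) ?_
    · intro u hu
      rw [mem_centralizer_iff]
      intro v hv
      exact mem_centralizer_iff.1 (hUC hu) v (t.v₂ hv)
    · intro g hg
      refine mem_normalizer_of_cj_le ?_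
      rintro _ ⟨w, hw, rfl⟩
      exact W_norm (hCn g hg) hw
  have hbU : M₁.e bb ∈ U := by
    obtain ⟨y, -, hy⟩ := M₁.exists_lift (Equiv.swap (3 : Fin 5) 4)
    have hy : M₁.Ind y (Equiv.swap (3 : Fin 5) 4) := hy
    have h1 : y * n = n * y := (hy.commute_iff _).2 (Or.inl (by decide))
    have h2 : y * a * y⁻¹ = M₁.e bb := by
      rw [ha, hy, M₁.e_eq_iff]; left; decide
    rw [← h2]
    exact mem_W h1 (mem_zpowers a)
  have hbC : M₁.e bb ∈ centralizer (V₂ : Set G) := by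
    rw [mem_centralizer_iff]
    intro v hv
    exact (t.comm_V (M₁.e_mem _) hv).symm
  -- `f = b ^ g`
  obtain ⟨g, -, hg⟩ := M₂.exists_lift sg
  have hg : M₂.Ind g sg := hg
  have hga : g * a * g⁻¹ = M₂.e cc := by
    rw [ha, ← t.ea, hg, M₂.e_eq_iff]; left; decide
  have hgn : g * n * g⁻¹ = a := by
    rw [hn, ← t.en, hg, ha, ← t.ea, M₂.e_eq_iff]; left; decide
  have hgR : ∀ r ∈ R, g * r * g⁻¹ ∈ R := fun r hr => conj_R hg.mem_normalizer hr
  have hgR' : ∀ r ∈ R, g⁻¹ * r * g ∈ R := fun r hr => by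
    have := conj_R (inv_mem hg.mem_normalizer) hr
    rwa [inv_inv] at this
  set f := g * M₁.e bb * g⁻¹ with hf
  set c := M₂.e cc with hc
  have hfR : ∀ r ∈ R, r * f * r⁻¹ * f⁻¹ = 1 ∨ r * f * r⁻¹ * f⁻¹ = c := by
    intro r hr
    have h1 : r * f * r⁻¹ * f⁻¹ =
        g * ((g⁻¹ * r * g) * M₁.e bb * (g⁻¹ * r * g)⁻¹ * (M₁.e bb)⁻¹) * g⁻¹ := by
      rw [hf]; group
    rcases hbR _ (hgR' r hr) with h2 | h2
    · left; rw [h1, h2]; group
    · right; rw [h1, h2, hga]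
  have hfr : (g * r₀ * g⁻¹) * f * (g * r₀ * g⁻¹)⁻¹ * f⁻¹ = c := by
    have h1 : (g * r₀ * g⁻¹) * f * (g * r₀ * g⁻¹)⁻¹ * f⁻¹ =
        g * (r₀ * M₁.e bb * r₀⁻¹ * (M₁.e bb)⁻¹) * g⁻¹ := by
      rw [hf]; group
    rw [h1, hb₀, hga]
  have hfC : f ∈ centralizer (V₂ : Set G) := by
    rw [mem_centralizer_iff] at hbC ⊢
    intro v hv
    have hv' : g⁻¹ * v * g ∈ V₂ := by
      have := (mem_normalizer_iff.1 (inv_mem hg.mem_normalizer) v).1 hv
      rwa [inv_inv] at this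
    have h1 := hbC _ hv'
    calc v * f = g * ((g⁻¹ * v * g) * M₁.e bb) * g⁻¹ := by rw [hf]; group
      _ = g * (M₁.e bb * (g⁻¹ * v * g)) * g⁻¹ := by rw [h1]
      _ = f * v := by rw [hf]; group
  have hfQa : f ∈ Qa := by
    have h1 : cj g Q = Qa := by rw [hQ, hN, o2_conj g n, hgn]
    rw [← h1]
    exact ⟨_, t.v₁ (M₁.e_mem _), rfl⟩
  -- the element `w` of `⟨V₁^N⟩`
  obtain ⟨v, hv, hw⟩ := t.act'
  set w := h⁻¹ * v * h with hwd
  have hwQ : w ∈ Q := by
    have := (mem_normalizer_iff.1 (le_normalizer_o2 N (inv_mem (mem_C.2 t.hn))) v).1 (t.v₁ hv)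
    rwa [inv_inv] at this
  have hwc : w * c * w⁻¹ = M₂.e ![0, 1, 0, 0, 1] := by
    rw [hc, hw, M₂.e_eq_iff]; left; decide
  -- `c ∉ U`
  have hcU : c ∉ U := by
    intro h1
    have h2 := mem_centralizer_iff.1 (hUC h1) w hwQ
    have h3 : w * c * w⁻¹ = c := by rw [h2, mul_inv_cancel_right]
    rw [hwc, hc, M₂.e_eq_iff] at h3
    exact absurd h3 (by decide)
  -- `f` centralises `U`
  have hfU : ∀ u ∈ U, u * f = f * u := by
    intro u hu
    have h1 : u * f * u⁻¹ * f⁻¹ ∈ U := by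
      have h2 : f * u⁻¹ * f⁻¹ ∈ U := W_norm (hCn f hfC) (inv_mem hu)
      have h3 : u * f * u⁻¹ * f⁻¹ = u * (f * u⁻¹ * f⁻¹) := by group
      rw [h3]; exact mul_mem hu h2
    rcases hfR u (hUR hu) with h2 | h2
    · exact eq_of_mul_inv_eq_one (by rw [← h2]; group)
    · rw [h2] at h1
      exact absurd h1 hcU
  -- `f ∈ Q`
  have hfQ : f ∈ Q := by
    set CN := N ⊓ centralizer (U : Set G) with hCN
    have hCNa : CN ≤ centralizer ({a} : Set G) := fun y hy =>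
      mem_C.2 (mem_centralizer_iff.1 (mem_inf.1 hy).2 a haU).symm
    have h1 : Qa ⊓ CN ≤ o2 CN := by
      refine le_o2 inf_le_right ((o2_isPGroup _).to_le inf_le_left) ?_
      intro y hy
      refine mem_normalizer_of_cj_le ?_
      rintro _ ⟨z, hz, rfl⟩
      exact mem_inf.2 ⟨(mem_normalizer_iff.1 (le_normalizer_o2 _ (hCNa hy)) z).1 (mem_inf.1 hz).1,
        mul_mem (mul_mem hy (mem_inf.1 hz).2) (inv_mem hy)⟩
    have h2 : o2 CN ≤ Q := by
      refine le_o2 ((o2_le _).trans inf_le_left) (o2_isPGroup _) ?_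
      intro y hy
      refine conj_o2 (mem_normalizer_of_cj_le ?_)
      rintro _ ⟨z, hz, rfl⟩
      refine mem_inf.2 ⟨mul_mem (mul_mem hy (mem_inf.1 hz).1) (inv_mem hy), ?_⟩
      rw [mem_centralizer_iff]
      intro u hu
      have h3 : y⁻¹ * u * y ∈ U := by
        have := W_norm (inv_comm (mem_C.1 hy)) hu
        rwa [inv_inv] at this
      have h4 := mem_centralizer_iff.1 (mem_inf.1 hz).2 _ h3
      calc u * (y * z * y⁻¹) = y * ((y⁻¹ * u * y) * z) * y⁻¹ := by group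
        _ = y * (z * (y⁻¹ * u * y)) * y⁻¹ := by rw [h4]
        _ = y * z * y⁻¹ * u := by group
    exact h2 (h1 (mem_inf.2 ⟨hfQa, mem_inf.2 ⟨mem_C.2 (hCn f hfC),
      mem_centralizer_iff.2 fun u hu => hfU u hu⟩⟩))
  -- the contradiction
  have hwf : w * f * w⁻¹ * f⁻¹ = 1 ∨ w * f * w⁻¹ * f⁻¹ = n := by
    have h1 : h * f * h⁻¹ ∈ Q :=
      (mem_normalizer_iff.1 (le_normalizer_o2 N (mem_C.2 t.hn)) f).1 hfQ
    have h2 : w * f * w⁻¹ * f⁻¹ = h⁻¹ * ((h * f * h⁻¹) * v * (h * f * h⁻¹)⁻¹ * v⁻¹)⁻¹ * h := by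
      rw [hwd]; group
    rcases t.comm₁ h1 hv with h3 | h3
    · left; rw [h2, h3]; group
    · right
      have h4 : (M₁.e nn)⁻¹ = n := M₁.e_inv nn
      rw [h2, h3, h4, mul_assoc, ← t.hn, ← mul_assoc, inv_mul_cancel, one_mul]
  have hwR : ∀ r ∈ R, w * r * w⁻¹ ∈ R := fun r hr => conj_R hw.mem_normalizer hr
  set r' := w * (g * r₀ * g⁻¹) * w⁻¹ with hr'
  have hr'R : r' ∈ R := hwR _ (hgR _ hr₀)
  have h1 : r' * (w * f * w⁻¹) * r'⁻¹ * (w * f * w⁻¹)⁻¹ = w * c * w⁻¹ := by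
    rw [← hfr, hr']; group
  have hr'n : r' * n = n * r' := hCn r' (o2_le _ hr'R)
  have h2 : r' * (w * f * w⁻¹) * r'⁻¹ * (w * f * w⁻¹)⁻¹ = r' * f * r'⁻¹ * f⁻¹ := by
    rcases hwf with h3 | h3
    · have h4 : w * f * w⁻¹ = f := mul_inv_eq_one.1 h3
      rw [h4]
    · have h4 : w * f * w⁻¹ = n * f := by rw [← h3]; group
      have h5 : r' * (n * f) * r'⁻¹ * (n * f)⁻¹ = (r' * n) * f * r'⁻¹ * f⁻¹ * n⁻¹ := by group
      have h6 : f * n = n * f := hCn f hfC
      have h7 : n * (r' * f * r'⁻¹ * f⁻¹) * n⁻¹ = r' * f * r'⁻¹ * f⁻¹ := by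
        have h8 : n * (r' * f * r'⁻¹ * f⁻¹) = (r' * f * r'⁻¹ * f⁻¹) * n := by
          have h9 : r'⁻¹ * n = n * r'⁻¹ := inv_comm hr'n
          have h10 : f⁻¹ * n = n * f⁻¹ := inv_comm h6
          calc n * (r' * f * r'⁻¹ * f⁻¹) = (n * r') * f * r'⁻¹ * f⁻¹ := by group
            _ = r' * (n * f) * r'⁻¹ * f⁻¹ := by rw [← hr'n]; group
            _ = r' * f * (n * r'⁻¹) * f⁻¹ := by rw [← h6]; group
            _ = r' * f * r'⁻¹ * (n * f⁻¹) := by rw [← h9]; group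
            _ = (r' * f * r'⁻¹ * f⁻¹) * n := by rw [← h10]; group
        rw [h8, mul_inv_cancel_right]
      calc r' * (w * f * w⁻¹) * r'⁻¹ * (w * f * w⁻¹)⁻¹ = (r' * n) * f * r'⁻¹ * f⁻¹ * n⁻¹ := by
            rw [h4, h5]
        _ = n * (r' * f * r'⁻¹ * f⁻¹) * n⁻¹ := by rw [hr'n]; group
        _ = _ := h7
  have h3 := hfR r' hr'R
  rw [← h2, h1, hwc, M₂.ker, hc, M₂.e_eq_iff] at h3
  exact absurd h3 (by decide)

/-- A transvection pair of the ONE module `V₂`, with the same `n`. -/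
theorem exists_one [Finite G] : ∃ k, k * M₂.e nn = M₂.e nn * k ∧
    (∀ v ∈ cj k V₂, M₂.Ind v 1 ∨ M₂.Ind v (Equiv.swap (0 : Fin 5) 1)) ∧
    (∃ v ∈ cj k V₂, M₂.Ind v (Equiv.swap (0 : Fin 5) 1)) ∧
    (∀ v ∈ V₂, (M₂.cj k).Ind v 1 ∨ (M₂.cj k).Ind v (Equiv.swap (0 : Fin 5) 1)) ∧
    (∃ v ∈ V₂, (M₂.cj k).Ind v (Equiv.swap (0 : Fin 5) 1)) := by
  set n := M₁.e nn with hn
  set N := centralizer ({n} : Set G) with hN
  set Q := o2 N with hQ
  have hQ1 : ∀ g, g * n = n * g → ∀ q ∈ Q, g * q * g⁻¹ ∈ Q := fun g hg q hq =>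
    (mem_normalizer_iff.1 (le_normalizer_o2 N (mem_C.2 hg)) q).1 hq
  obtain ⟨k, hk, v, hv, u, hu, hne⟩ : ∃ k, k * n = n * k ∧ ∃ v ∈ V₂, ∃ u ∈ V₂,
      (k * v * k⁻¹) * u ≠ u * (k * v * k⁻¹) := by
    by_contra hcon
    push Not at hcon
    refine t.not_comm ?_
    have gen : ∀ y ∈ {y | ∃ g, g * n = n * g ∧ ∃ v ∈ V₂, y = g * v * g⁻¹},
        ∀ z ∈ {y | ∃ g, g * n = n * g ∧ ∃ v ∈ V₂, y = g * v * g⁻¹}, y * z = z * y := by
      rintro _ ⟨g, hg, v, hv, rfl⟩ _ ⟨k, hk, w, hw, rfl⟩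
      have h0 : (k⁻¹ * g) * n = n * (k⁻¹ * g) := by
        rw [mul_assoc, hg, ← mul_assoc, inv_comm hk, mul_assoc]
      have h1 := hcon _ h0 v hv w hw
      calc g * v * g⁻¹ * (k * w * k⁻¹) = k * ((k⁻¹ * g * v * (k⁻¹ * g)⁻¹) * w) * k⁻¹ := by group
        _ = k * (w * (k⁻¹ * g * v * (k⁻¹ * g)⁻¹)) * k⁻¹ := by rw [h1]
        _ = k * w * k⁻¹ * (g * v * g⁻¹) := by group
    intro y hy z hz
    have h1 : W V₂ n ≤ centralizer ((W V₂ n : Subgroup G) : Set G) := by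
      conv_rhs => rw [W, centralizer_closure]
      rw [W, closure_le]
      intro a ha
      exact mem_centralizer_iff.2 fun b hb => gen b hb a ha
    exact (mem_centralizer_iff.1 (h1 hy) z hz).symm
  have hact : ∀ w ∈ cj k V₂, M₂.Ind w 1 ∨ M₂.Ind w (Equiv.swap (0 : Fin 5) 1) := by
    rintro _ ⟨w, hw, rfl⟩
    exact t.q₂ _ (hQ1 k hk _ (t.v₂ hw))
  have hact' : ∀ w ∈ V₂, (M₂.cj k).Ind w 1 ∨ (M₂.cj k).Ind w (Equiv.swap (0 : Fin 5) 1) := by
    intro w hw
    have h1 : k⁻¹ * w * k ∈ Q := by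
      have := hQ1 _ (inv_comm hk) w (t.v₂ hw)
      rwa [inv_inv] at this
    have h2 : k * (k⁻¹ * w * k) * k⁻¹ = w := by group
    rcases t.q₂ _ h1 with h3 | h3
    · left; have := M₂.cj_ind (g := k) h3; rwa [h2] at this
    · right; have := M₂.cj_ind (g := k) h3; rwa [h2] at this
  refine ⟨k, ?_, hact, ⟨k * v * k⁻¹, ⟨v, hv, rfl⟩, ?_⟩, hact', ⟨u, hu, ?_⟩⟩
  · rw [t.en]; exact hk
  · refine (hact _ ⟨v, hv, rfl⟩).resolve_left fun h1 => hne ?_
    exact (mem_centralizer_iff.1 (FiveMod.ind_one_iff.1 h1) u hu).symm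
  · refine (hact' _ hu).resolve_left fun h1 => hne ?_
    exact mem_centralizer_iff.1 (FiveMod.ind_one_iff.1 h1) _ ⟨v, hv, rfl⟩

end Duo

end Cfsg.Agent.Omega.TTn.TwoTypes

end

section


/-!
# The mixed partner of type `S_{2^m+1}`: reduction to ONE module, abstract form (project OMEGA, II.d, SwBig)

`V₀` (the module on one side), `n, a, c ∈ V₀`, `Q = O₂(C_G(n))`, `R = O₂(C_G(V₀))`. On the `V₀`-side: `V₀ ≤ Q`,
`x ∈ N(V₀)` maps `n` to `a`; `g ∈ N(V₀)` maps `a` to `c` and `n` to `a`; `w ∈ N(V₀) ∩ Q` with `[Q, w] ≤ ⟨n⟩` moves `c`.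
On the other side: `[Q, a] = 1`, `b = a ^ y` with `y ∈ C_G(n)`, `[b, R] ≤ ⟨a⟩` and `[b, r] = a` for one
`r = (v ^ h) ^ x`, `v ∈ V₀`, `h ∈ C_G(n)`.

THEOREM (`Cf.not_comm`): `W = ⟨V₀ ^ C_G(n)⟩` is not abelian. Hence (`Cf.exists_one`) `[V₀, V₀ ^ k] ≠ 1` for some
`k ∈ C_G(n)`.

Proof. Suppose `W` is abelian. `W ^ x ≤ R` (the condition is symmetric under `N(V₀)`), `U = ⟨a ^ C_G(n)⟩ ≤ Z(Q) ∩ R`,
`b ∈ U`, so `[b, R] = ⟨a⟩` and `f = b ^ g` has `[f, R] = ⟨c⟩`. `f` normalises `U ≤ R`: `[f, U] ≤ U ∩ ⟨c⟩ = 1` (`w ∈ Q`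
moves `c`). So `f ∈ O₂(C_G(a)) ∩ C(U)`, a normal 2-subgroup of `C_{C(n)}(U) ≤ C_G(a)`: `f ∈ Q`. Then `f ^ w ∈ f⟨n⟩` and
`⟨c⟩ = [f, R] = [f ^ w, R] = ⟨c ^ w⟩`, a contradiction.
-/

set_option autoImplicit false

namespace Cfsg.Agent.Omega.IId.SwB.Mixed

open Subgroup Cfsg Cfsg.Agent.ZN Cfsg.Agent.ZN.ChoiceBase Cfsg.Agent.Omega.TTn.TwoTypes
open Cfsg.Agent.Omega.S5.TT (o2_conj)
open Cfsg.Agent.MinSimple.VModule (o2_isPGroup le_o2 o2_le le_normalizer_o2)

universe u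

variable {G : Type u} [Group G]

/-- The configuration of LEMMA TWO. -/
structure Cf (V : Subgroup G) (n a c x y g w h v : G) : Prop where
  nV : n ∈ V
  aV : a ∈ V
  vQ : V ≤ o2 (centralizer ({n} : Set G))
  aQ : ∀ q ∈ o2 (centralizer ({n} : Set G)), q * a = a * q
  xV : x ∈ normalizer (V : Set G)
  xn : x * n * x⁻¹ = a
  yn : y * n = n * y
  bR : ∀ r ∈ o2 (centralizer (V : Set G)), r * (y * a * y⁻¹) * r⁻¹ * (y * a * y⁻¹)⁻¹ = 1 ∨
    r * (y * a * y⁻¹) * r⁻¹ * (y * a * y⁻¹)⁻¹ = a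
  hn : h * n = n * h
  vV : v ∈ V
  br : (x * (h * v * h⁻¹) * x⁻¹) * (y * a * y⁻¹) * (x * (h * v * h⁻¹) * x⁻¹)⁻¹ * (y * a * y⁻¹)⁻¹ = a
  gV : g ∈ normalizer (V : Set G)
  ga : g * a * g⁻¹ = c
  gn : g * n * g⁻¹ = a
  wV : w ∈ normalizer (V : Set G)
  wQ : w ∈ o2 (centralizer ({n} : Set G))
  wn : ∀ q ∈ o2 (centralizer ({n} : Set G)), w * q * w⁻¹ * q⁻¹ = 1 ∨ w * q * w⁻¹ * q⁻¹ = n
  wc : w * c * w⁻¹ ≠ c

namespace Cf

variable {V : Subgroup G} {n a c x y g w h v : G} (t : Cf V n a c x y g w h v)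
include t

/-- LEMMA TWO. -/
theorem not_comm [Finite G] : ¬ ∀ u ∈ W V n, ∀ v ∈ W V n, u * v = v * u := by
  intro hab
  set N := centralizer ({n} : Set G) with hN
  set Q := o2 N with hQ
  set Qa := o2 (centralizer ({a} : Set G)) with hQa
  set R := o2 (centralizer (V : Set G)) with hR
  set b := y * a * y⁻¹ with hb
  have hna : cj x Q = Qa := by rw [hQ, hN, o2_conj x n, t.xn]
  have hCn : ∀ g ∈ centralizer (V : Set G), g * n = n * g := fun g hg =>
    (mem_centralizer_iff.1 hg n t.nV).symm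
  have hCa : ∀ g ∈ centralizer (V : Set G), g * a = a * g := fun g hg =>
    (mem_centralizer_iff.1 hg a t.aV).symm
  have hVa : V ≤ Qa := by
    rw [← hna]
    intro v hv
    rw [mem_cj]
    refine t.vQ ?_
    have := (mem_normalizer_iff.1 (inv_mem t.xV) v).1 hv
    rwa [inv_inv] at this
  -- `W V a ≤ R`
  have hWa : W V a ≤ R := by
    have h1 : ∀ w ∈ W V a, x⁻¹ * w * x ∈ W V n := by
      intro w hw
      have h2 := W_conj (V' := V) (l := x⁻¹) (fun v hv =>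
        (mem_normalizer_iff.1 (inv_mem t.xV) v).1 hv) hw
      have h3 : x⁻¹ * a * x⁻¹⁻¹ = n := by rw [← t.xn]; group
      rw [h3, inv_inv] at h2
      exact h2
    refine le_o2 ?_ ?_ ?_
    · intro w hw
      rw [mem_centralizer_iff]
      intro v hv
      have hv' : x⁻¹ * v * x ∈ V := by
        have := (mem_normalizer_iff.1 (inv_mem t.xV) v).1 hv
        rwa [inv_inv] at this
      have h2 := hab _ (le_W _ _ hv') _ (h1 w hw)
      calc v * w = x * ((x⁻¹ * v * x) * (x⁻¹ * w * x)) * x⁻¹ := by group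
        _ = x * ((x⁻¹ * w * x) * (x⁻¹ * v * x)) * x⁻¹ := by rw [h2]
        _ = w * v := by group
    · refine (o2_isPGroup (centralizer ({a} : Set G))).to_le (W_le hVa fun g hg d hd => ?_)
      exact (mem_normalizer_iff.1 (le_normalizer_o2 _ (mem_C.2 hg)) d).1 hd
    · intro g hg
      refine mem_normalizer_of_cj_le ?_
      rintro _ ⟨w, hw, rfl⟩
      exact W_norm (hCa g hg) hw
  -- an element of `R` moving `b`
  obtain ⟨r₀, hr₀, hb₀⟩ : ∃ r ∈ R, r * b * r⁻¹ * b⁻¹ = a := by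
    have hw : h * v * h⁻¹ ∈ W V n := mem_W t.hn t.vV
    have hw' : x * (h * v * h⁻¹) * x⁻¹ ∈ W V a := by
      have h2 := W_conj (V' := V) (l := x) (fun v hv => (mem_normalizer_iff.1 t.xV v).1 hv) hw
      rwa [t.xn] at h2
    exact ⟨_, hWa hw', t.br⟩
  have hbR : ∀ r ∈ R, r * b * r⁻¹ * b⁻¹ = 1 ∨ r * b * r⁻¹ * b⁻¹ = a := t.bR
  have haVQ : a ∈ Q := t.vQ t.aV
  -- `U = ⟨a^N⟩`
  set U := W (zpowers a) n with hU
  have haU : a ∈ U := le_W _ _ (mem_zpowers a)
  have hUQ : U ≤ Q := W_le ((zpowers_le).2 haVQ) fun g hg d hd =>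
    (mem_normalizer_iff.1 (le_normalizer_o2 _ (mem_C.2 hg)) d).1 hd
  have hUC : U ≤ centralizer (Q : Set G) := by
    refine W_le ((zpowers_le).2 (mem_centralizer_iff.2 fun q hq => t.aQ q hq)) fun g hg d hd => ?_
    rw [mem_centralizer_iff] at hd ⊢
    intro q hq
    have h1 : g⁻¹ * q * g ∈ Q := by
      have := (mem_normalizer_iff.1 (le_normalizer_o2 N (inv_mem (mem_C.2 hg))) q).1 hq
      rwa [inv_inv] at this
    have h2 := hd _ h1
    calc q * (g * d * g⁻¹) = g * ((g⁻¹ * q * g) * d) * g⁻¹ := by group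
      _ = g * (d * (g⁻¹ * q * g)) * g⁻¹ := by rw [h2]
      _ = g * d * g⁻¹ * q := by group
  have hUR : U ≤ R := by
    refine le_o2 ?_ ((o2_isPGroup N).to_le hUQ) ?_
    · intro u hu
      rw [mem_centralizer_iff]
      intro v hv
      exact mem_centralizer_iff.1 (hUC hu) v (t.vQ hv)
    · intro g hg
      refine mem_normalizer_of_cj_le ?_
      rintro _ ⟨w, hw, rfl⟩
      exact W_norm (hCn g hg) hw
  have hbU : b ∈ U := mem_W t.yn (mem_zpowers a)
  have hbC : b ∈ centralizer (V : Set G) := by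
    rw [mem_centralizer_iff]
    intro v hv
    exact mem_centralizer_iff.1 (hUC hbU) v (t.vQ hv)
  -- `f = b ^ g`
  have hgR : ∀ r ∈ R, g * r * g⁻¹ ∈ R := fun r hr => conj_R t.gV hr
  have hgR' : ∀ r ∈ R, g⁻¹ * r * g ∈ R := fun r hr => by
    have := conj_R (inv_mem t.gV) hr
    rwa [inv_inv] at this
  set f := g * b * g⁻¹ with hf
  have hfR : ∀ r ∈ R, r * f * r⁻¹ * f⁻¹ = 1 ∨ r * f * r⁻¹ * f⁻¹ = c := by
    intro r hr
    have h1 : r * f * r⁻¹ * f⁻¹ = g * ((g⁻¹ * r * g) * b * (g⁻¹ * r * g)⁻¹ * b⁻¹) * g⁻¹ := by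
      rw [hf]; group
    rcases hbR _ (hgR' r hr) with h2 | h2
    · left; rw [h1, h2]; group
    · right; rw [h1, h2, t.ga]
  have hfr : (g * r₀ * g⁻¹) * f * (g * r₀ * g⁻¹)⁻¹ * f⁻¹ = c := by
    have h1 : (g * r₀ * g⁻¹) * f * (g * r₀ * g⁻¹)⁻¹ * f⁻¹ = g * (r₀ * b * r₀⁻¹ * b⁻¹) * g⁻¹ := by
      rw [hf]; group
    rw [h1, hb₀, t.ga]
  have hfC : f ∈ centralizer (V : Set G) := by
    rw [mem_centralizer_iff] at hbC ⊢
    intro v hv
    have hv' : g⁻¹ * v * g ∈ V := by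
      have := (mem_normalizer_iff.1 (inv_mem t.gV) v).1 hv
      rwa [inv_inv] at this
    have h1 := hbC _ hv'
    calc v * f = g * ((g⁻¹ * v * g) * b) * g⁻¹ := by rw [hf]; group
      _ = g * (b * (g⁻¹ * v * g)) * g⁻¹ := by rw [h1]
      _ = f * v := by rw [hf]; group
  have hfQa : f ∈ Qa := by
    have h1 : cj g Q = Qa := by rw [hQ, hN, o2_conj g n, t.gn]
    rw [← h1]
    exact ⟨_, hUQ hbU, rfl⟩
  -- `c ∉ U`
  have hcU : c ∉ U := by
    intro h1
    have h2 := mem_centralizer_iff.1 (hUC h1) w t.wQ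
    exact t.wc (by rw [h2, mul_inv_cancel_right])
  -- `f` centralises `U`
  have hfU : ∀ u ∈ U, u * f = f * u := by
    intro u hu
    have h1 : u * f * u⁻¹ * f⁻¹ ∈ U := by
      have h2 : f * u⁻¹ * f⁻¹ ∈ U := W_norm (hCn f hfC) (inv_mem hu)
      have h3 : u * f * u⁻¹ * f⁻¹ = u * (f * u⁻¹ * f⁻¹) := by group
      rw [h3]; exact mul_mem hu h2
    rcases hfR u (hUR hu) with h2 | h2
    · exact eq_of_mul_inv_eq_one (by rw [← h2]; group)
    · rw [h2] at h1
      exact absurd h1 hcU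
  -- `f ∈ Q`
  have hfQ : f ∈ Q := by
    set CN := N ⊓ centralizer (U : Set G) with hCN
    have hCNa : CN ≤ centralizer ({a} : Set G) := fun y hy =>
      mem_C.2 (mem_centralizer_iff.1 (mem_inf.1 hy).2 a haU).symm
    have h1 : Qa ⊓ CN ≤ o2 CN := by
      refine le_o2 inf_le_right ((o2_isPGroup _).to_le inf_le_left) ?_
      intro y hy
      refine mem_normalizer_of_cj_le ?_
      rintro _ ⟨z, hz, rfl⟩
      exact mem_inf.2 ⟨(mem_normalizer_iff.1 (le_normalizer_o2 _ (hCNa hy)) z).1 (mem_inf.1 hz).1,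
        mul_mem (mul_mem hy (mem_inf.1 hz).2) (inv_mem hy)⟩
    have h2 : o2 CN ≤ Q := by
      refine le_o2 ((o2_le _).trans inf_le_left) (o2_isPGroup _) ?_
      intro y hy
      refine conj_o2 (mem_normalizer_of_cj_le ?_)
      rintro _ ⟨z, hz, rfl⟩
      refine mem_inf.2 ⟨mul_mem (mul_mem hy (mem_inf.1 hz).1) (inv_mem hy), ?_⟩
      rw [mem_centralizer_iff]
      intro u hu
      have h3 : y⁻¹ * u * y ∈ U := by
        have := W_norm (inv_comm (mem_C.1 hy)) hu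
        rwa [inv_inv] at this
      have h4 := mem_centralizer_iff.1 (mem_inf.1 hz).2 _ h3
      calc u * (y * z * y⁻¹) = y * ((y⁻¹ * u * y) * z) * y⁻¹ := by group
        _ = y * (z * (y⁻¹ * u * y)) * y⁻¹ := by rw [h4]
        _ = y * z * y⁻¹ * u := by group
    exact h2 (h1 (mem_inf.2 ⟨hfQa, mem_inf.2 ⟨mem_C.2 (hCn f hfC),
      mem_centralizer_iff.2 fun u hu => hfU u hu⟩⟩))
  -- the contradiction
  have hwf : w * f * w⁻¹ * f⁻¹ = 1 ∨ w * f * w⁻¹ * f⁻¹ = n := t.wn f hfQ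
  have hwR : ∀ r ∈ R, w * r * w⁻¹ ∈ R := fun r hr => conj_R t.wV hr
  set r' := w * (g * r₀ * g⁻¹) * w⁻¹ with hr'
  have hr'R : r' ∈ R := hwR _ (hgR _ hr₀)
  have h1 : r' * (w * f * w⁻¹) * r'⁻¹ * (w * f * w⁻¹)⁻¹ = w * c * w⁻¹ := by
    rw [← hfr, hr']; group
  have hr'n : r' * n = n * r' := hCn r' (o2_le _ hr'R)
  have h2 : r' * (w * f * w⁻¹) * r'⁻¹ * (w * f * w⁻¹)⁻¹ = r' * f * r'⁻¹ * f⁻¹ := by
    rcases hwf with h3 | h3
    · have h4 : w * f * w⁻¹ = f := mul_inv_eq_one.1 h3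
      rw [h4]
    · have h4 : w * f * w⁻¹ = n * f := by rw [← h3]; group
      have h5 : r' * (n * f) * r'⁻¹ * (n * f)⁻¹ = (r' * n) * f * r'⁻¹ * f⁻¹ * n⁻¹ := by group
      have h6 : f * n = n * f := hCn f hfC
      have h7 : n * (r' * f * r'⁻¹ * f⁻¹) * n⁻¹ = r' * f * r'⁻¹ * f⁻¹ := by
        have h8 : n * (r' * f * r'⁻¹ * f⁻¹) = (r' * f * r'⁻¹ * f⁻¹) * n := by
          have h9 : r'⁻¹ * n = n * r'⁻¹ := inv_comm hr'n
          have h10 : f⁻¹ * n = n * f⁻¹ := inv_comm h6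
          calc n * (r' * f * r'⁻¹ * f⁻¹) = (n * r') * f * r'⁻¹ * f⁻¹ := by group
            _ = r' * (n * f) * r'⁻¹ * f⁻¹ := by rw [← hr'n]; group
            _ = r' * f * (n * r'⁻¹) * f⁻¹ := by rw [← h6]; group
            _ = r' * f * r'⁻¹ * (n * f⁻¹) := by rw [← h9]; group
            _ = (r' * f * r'⁻¹ * f⁻¹) * n := by rw [← h10]; group
        rw [h8, mul_inv_cancel_right]
      calc r' * (w * f * w⁻¹) * r'⁻¹ * (w * f * w⁻¹)⁻¹ = (r' * n) * f * r'⁻¹ * f⁻¹ * n⁻¹ := by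
            rw [h4, h5]
        _ = n * (r' * f * r'⁻¹ * f⁻¹) * n⁻¹ := by rw [hr'n]; group
        _ = _ := h7
  have h3 := hfR r' hr'R
  rw [← h2, h1] at h3
  rcases h3 with h3 | h3
  · refine t.wc ?_
    have h4 : c = 1 := by
      have h5 : c = w⁻¹ * (w * c * w⁻¹) * w := by group
      rw [h5, h3]; group
    rw [h4, mul_one, mul_inv_cancel]
  · exact t.wc h3

/-- A non-commuting pair of conjugates of the ONE subgroup `V`, with the same `n`. -/
theorem exists_one [Finite G] : ∃ k, k * n = n * k ∧ ∃ v ∈ V, ∃ u ∈ V, (k * v * k⁻¹) * u ≠ u * (k * v * k⁻¹) := by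
  by_contra hcon
  push Not at hcon
  refine t.not_comm ?_
  have gen : ∀ y ∈ {y | ∃ g, g * n = n * g ∧ ∃ v ∈ V, y = g * v * g⁻¹},
      ∀ z ∈ {y | ∃ g, g * n = n * g ∧ ∃ v ∈ V, y = g * v * g⁻¹}, y * z = z * y := by
    rintro _ ⟨g, hg, v, hv, rfl⟩ _ ⟨k, hk, w, hw, rfl⟩
    have h0 : (k⁻¹ * g) * n = n * (k⁻¹ * g) := by
      rw [mul_assoc, hg, ← mul_assoc, inv_comm hk, mul_assoc]
    have h1 := hcon _ h0 v hv w hw
    calc g * v * g⁻¹ * (k * w * k⁻¹) = k * ((k⁻¹ * g * v * (k⁻¹ * g)⁻¹) * w) * k⁻¹ := by group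
      _ = k * (w * (k⁻¹ * g * v * (k⁻¹ * g)⁻¹)) * k⁻¹ := by rw [h1]
      _ = k * w * k⁻¹ * (g * v * g⁻¹) := by group
  intro y hy z hz
  have h1 : W V n ≤ centralizer ((W V n : Subgroup G) : Set G) := by
    conv_rhs => rw [W, centralizer_closure]
    rw [W, closure_le]
    intro a ha
    exact mem_centralizer_iff.2 fun b hb => gen b hb a ha
  exact (mem_centralizer_iff.1 (h1 hy) z hz).symm

end Cf

end Cfsg.Agent.Omega.IId.SwB.Mixed

end

section


/-!
# The mixed partner over the duads of ONE module (project OMEGA, II.d, SwBig)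

`Dd V d` : `V` is a subgroup with duads `d p q`, `p.1 = q.1` (`p, q : Fin k × Fin (2 ^ m + 1)`), `m ≥ 2`; all
permutations inside the blocks are induced by `N_G(V)`; (H1) `O₂(C_G(d p q)) ≤ N_G(V)` contains `V` and acts on `V`
inside `⟨(p q)⟩`, with `[V, O₂(C_G(d p q))] ≤ ⟨d p q⟩`. `Ds S V d` : moreover `S ≤ N_G(V)` fixes the letters `(i, 0)`.

THEOREM (`Dd.exists_one`): let `n = {p, q}`, `a = {r, s}` be disjoint duads in one block of `V`, `V'` a subgroup with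
`V' ≤ Q = O₂(C_G(n))`, `[Q, V'] ≤ ⟨n⟩`, `x ∈ N(V) ∩ N(V')` with `n ^ x = a`, `b = a ^ y ∈ V'`, `y ∈ C_G(n)`,
`[b, O₂(C_G(V))] ≤ ⟨a⟩`, and let `t v t⁻¹`, `v ∈ V`, `t ∈ C_G(n)`, not commute with `x⁻¹ b x`. Then `[V, V ^ k] ≠ 1` for
some `k ∈ C_G(n)`.

`Pd S' V' n a b` : the partner side in abstract form (`Ds.pd` : a module with duads); `Dd.exists_pd`, `Ds.exists_one` :
the conclusion for a partner side `Pd`, resp. for two modules `V`, `V'` with the same duads `n`, `a`, when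
`O₂(C_G(V)) ≤ S'`.
-/

set_option autoImplicit false

namespace Cfsg.Agent.Omega.IId.SwB.Mixed

open Subgroup Cfsg Cfsg.Agent.ZN Cfsg.Agent.ZN.ChoiceBase
open Cfsg.Agent.Omega.TTn.TwoTypes (inv_comm mem_C)
open Cfsg.Agent.Omega.S5.TT (o2_conj)
open Cfsg.Agent.MinSimple.VModule (o2_isPGroup le_o2 o2_le le_normalizer_o2)

universe u

variable {G : Type u} [Group G]

/-- the letters -/
abbrev Pt (k m : ℕ) : Type := Fin k × Fin (2 ^ m + 1)

/-- Duads. -/
structure Dd (V : Subgroup G) {k m : ℕ} (d : Pt k m → Pt k m → G) : Prop where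
  m2 : 2 ≤ m
  mem : ∀ p q, d p q ∈ V
  comm : ∀ p q, p.1 = q.1 → d p q = d q p
  mul : ∀ p q r, p.1 = q.1 → q.1 = r.1 → d p q * d q r = d p r
  sq : ∀ p q, d p q * d p q = 1
  inj : ∀ p q r s, p.1 = q.1 → r.1 = s.1 → p ≠ q → d p q = d r s → (p = r ∧ q = s) ∨ (p = s ∧ q = r)
  lift : ∀ π : Equiv.Perm (Pt k m), (∀ p, (π p).1 = p.1) →
    ∃ g ∈ normalizer (V : Set G), ∀ p q, p.1 = q.1 → g * d p q * g⁻¹ = d (π p) (π q)
  VQ : ∀ p q, p.1 = q.1 → p ≠ q → V ≤ o2 (centralizer ({d p q} : Set G))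
  act : ∀ p q, p.1 = q.1 → p ≠ q → ∀ g ∈ o2 (centralizer ({d p q} : Set G)), g ∈ normalizer (V : Set G) ∧
    ((∀ v ∈ V, g * v = v * g) ∨ ∀ r s, r.1 = s.1 → g * d r s * g⁻¹ = d (Equiv.swap p q r) (Equiv.swap p q s))
  cm : ∀ p q, p.1 = q.1 → p ≠ q → ∀ g ∈ o2 (centralizer ({d p q} : Set G)), ∀ v ∈ V,
    g * v * g⁻¹ * v⁻¹ = 1 ∨ g * v * g⁻¹ * v⁻¹ = d p q

/-- Duads with the Sylow 2-subgroup. -/
structure Ds (S V : Subgroup G) {k m : ℕ} (d : Pt k m → Pt k m → G) : Prop extends Dd V d where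
  fix : ∀ g ∈ S, ∀ p q, p.1 = q.1 → p ≠ q → g * d p q = d p q * g →
    g * d p (p.1, 0) * g⁻¹ = d p (p.1, 0) ∨ g * d p (p.1, 0) * g⁻¹ = d q (p.1, 0)

namespace Dd

theorem conjQ {n : G} {g e : G} (hg : g * n = n * g) (he : e ∈ o2 (centralizer ({n} : Set G))) :
    g * e * g⁻¹ ∈ o2 (centralizer ({n} : Set G)) :=
  (mem_normalizer_iff.1 (le_normalizer_o2 _ (mem_C.2 hg)) e).1 he

variable {V : Subgroup G} {k m : ℕ} {d : Pt k m → Pt k m → G} (D : Dd V d)

include D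

theorem exists_fifth (p q r s : Pt k m) :
    ∃ e : Pt k m, p.1 = e.1 ∧ e ≠ p ∧ e ≠ q ∧ e ≠ r ∧ e ≠ s := by
  obtain ⟨l, hl⟩ : ∃ l : Fin (2 ^ m + 1), l ∉ ({p.2, q.2, r.2, s.2} : Finset (Fin (2 ^ m + 1))) := by
    by_contra hc
    push Not at hc
    have h1 : (Finset.univ : Finset (Fin (2 ^ m + 1))).card ≤ 4 :=
      (Finset.card_le_card (fun z _ => hc z)).trans Finset.card_le_four
    rw [Finset.card_univ, Fintype.card_fin] at h1
    have h2 : 2 ^ 2 ≤ 2 ^ m := Nat.pow_le_pow_right (by norm_num) D.m2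
    omega
  simp only [Finset.mem_insert, Finset.mem_singleton, not_or] at hl
  exact ⟨(p.1, l), rfl, fun h => hl.1 (by rw [← h]), fun h => hl.2.1 (by rw [← h]),
    fun h => hl.2.2.1 (by rw [← h]), fun h => hl.2.2.2 (by rw [← h])⟩

omit D in
theorem swap_fst {z z' : Pt k m} (hz : z.1 = z'.1) (t : Pt k m) : (Equiv.swap z z' t).1 = t.1 := by
  by_cases e1 : t = z
  · rw [e1, Equiv.swap_apply_left, hz]
  by_cases e2 : t = z'
  · rw [e2, Equiv.swap_apply_right, hz]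
  · rw [Equiv.swap_apply_of_ne_of_ne e1 e2]

/-- the element `g`: `{p, q} → {r, s} → {p, e}` -/
theorem exists_g {p q r s e : Pt k m} (hpq : p.1 = q.1) (hpr : p.1 = r.1) (hps : p.1 = s.1) (he : p.1 = e.1)
    (pq : p ≠ q) (ps : p ≠ s) (qr : q ≠ r) (qs : q ≠ s) (rs : r ≠ s) (ep : e ≠ p) (eq : e ≠ q)
    (er : e ≠ r) (es : e ≠ s) :
    ∃ g ∈ normalizer (V : Set G), g * d p q * g⁻¹ = d r s ∧ g * d r s * g⁻¹ = d p e := by
  obtain ⟨g, hg, hgs⟩ := D.lift (Equiv.swap p r * (Equiv.swap q s * Equiv.swap s e)) (fun t => by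
      rw [Equiv.Perm.mul_apply, Equiv.Perm.mul_apply, swap_fst hpr, swap_fst (hpq.symm.trans hps),
        swap_fst (hps.symm.trans he)])
  refine ⟨g, hg, ?_, ?_⟩
  · rw [hgs p q hpq]
    simp only [Equiv.Perm.mul_apply]
    rw [Equiv.swap_apply_of_ne_of_ne ps ep.symm, Equiv.swap_apply_of_ne_of_ne pq ps, Equiv.swap_apply_left,
      Equiv.swap_apply_of_ne_of_ne qs eq.symm, Equiv.swap_apply_left, Equiv.swap_apply_of_ne_of_ne ps.symm rs.symm]
  · rw [hgs r s (hpr.symm.trans hps)]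
    simp only [Equiv.Perm.mul_apply]
    rw [Equiv.swap_apply_of_ne_of_ne rs er.symm, Equiv.swap_apply_of_ne_of_ne qr.symm rs, Equiv.swap_apply_right,
      Equiv.swap_apply_left, Equiv.swap_apply_of_ne_of_ne eq es, Equiv.swap_apply_of_ne_of_ne ep er]

variable [Finite G]

/-- **The mixed pair, one side with duads.** (first form) -/
theorem exists_one {p q r s : Pt k m} (hpq : p.1 = q.1) (hpr : p.1 = r.1) (hps : p.1 = s.1) (pq : p ≠ q)
    (pr : p ≠ r) (ps : p ≠ s) (qr : q ≠ r) (qs : q ≠ s) (rs : r ≠ s) {V' : Subgroup G}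
    (vQ : V' ≤ o2 (centralizer ({d p q} : Set G)))
    (vc : ∀ g ∈ o2 (centralizer ({d p q} : Set G)), ∀ v ∈ V', g * v * g⁻¹ * v⁻¹ = 1 ∨ g * v * g⁻¹ * v⁻¹ = d p q)
    {x y t v : G} (xV : x ∈ normalizer (V : Set G)) (xV' : x ∈ normalizer (V' : Set G))
    (xn : x * d p q * x⁻¹ = d r s) (yn : y * d p q = d p q * y) (bV : y * d r s * y⁻¹ ∈ V')
    (bR : ∀ g ∈ o2 (centralizer (V : Set G)), g * (y * d r s * y⁻¹) * g⁻¹ * (y * d r s * y⁻¹)⁻¹ = 1 ∨
      g * (y * d r s * y⁻¹) * g⁻¹ * (y * d r s * y⁻¹)⁻¹ = d r s)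
    (tn : t * d p q = d p q * t) (hv : v ∈ V)
    (hne : t * v * t⁻¹ * (x⁻¹ * (y * d r s * y⁻¹) * x) ≠ x⁻¹ * (y * d r s * y⁻¹) * x * (t * v * t⁻¹)) :
    ∃ k, k * d p q = d p q * k ∧ ∃ v ∈ V, ∃ u ∈ V, k * v * k⁻¹ * u ≠ u * (k * v * k⁻¹) := by
  set n := d p q with hn
  set a := d r s with ha
  set b := y * a * y⁻¹ with hb
  set b' := x⁻¹ * b * x with hb'
  have hbV' : b' ∈ V' := by
    have := (mem_normalizer_iff.1 (inv_mem xV') b).1 bV
    rwa [inv_inv] at this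
  have hVQ := D.VQ p q hpq pq
  have hq : t * v * t⁻¹ ∈ o2 (centralizer ({n} : Set G)) := conjQ tn (hVQ hv)
  have hcomm : t * v * t⁻¹ * b' * (t * v * t⁻¹)⁻¹ * b'⁻¹ = n := by
    refine (vc _ hq b' hbV').resolve_left fun h1 => hne ?_
    have h2 := mul_inv_eq_one.1 h1
    rwa [mul_inv_eq_iff_eq_mul] at h2
  obtain ⟨e, he, ep, eq, er, es⟩ := D.exists_fifth p q r s
  obtain ⟨g, hg, g1, g2⟩ := D.exists_g hpq hpr hps he pq ps qr qs rs ep eq er es
  have hw : t⁻¹ * b' * t ∈ o2 (centralizer ({n} : Set G)) := by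
    have := conjQ (inv_comm tn) (vQ hbV')
    rwa [inv_inv] at this
  have hwne : ¬ ∀ v ∈ V, t⁻¹ * b' * t * v = v * (t⁻¹ * b' * t) := fun h1 => hne (by
    calc t * v * t⁻¹ * b' = t * (v * (t⁻¹ * b' * t)) * t⁻¹ := by group
      _ = t * (t⁻¹ * b' * t * v) * t⁻¹ := by rw [h1 v hv]
      _ = b' * (t * v * t⁻¹) := by group)
  obtain ⟨hwN, hw2⟩ := D.act p q hpq pq _ hw
  have hws := hw2.resolve_left hwne
  have cf : Cf V n a (d p e) x y g (t⁻¹ * b' * t) t v :=
    { nV := D.mem _ _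
      aV := D.mem _ _
      vQ := hVQ
      aQ := fun c hc => by
        rcases (D.act p q hpq pq c hc).2 with h1 | h1
        · exact h1 _ (D.mem _ _)
        · have h2 := h1 r s (hpr.symm.trans hps)
          rw [Equiv.swap_apply_of_ne_of_ne pr.symm qr.symm, Equiv.swap_apply_of_ne_of_ne ps.symm qs.symm,
            mul_inv_eq_iff_eq_mul] at h2
          exact h2
      xV := xV
      xn := xn
      yn := yn
      bR := bR
      hn := tn
      vV := hv
      br := by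
        have h1 : x * (t * v * t⁻¹) * x⁻¹ * b * (x * (t * v * t⁻¹) * x⁻¹)⁻¹ * b⁻¹ =
            x * (t * v * t⁻¹ * b' * (t * v * t⁻¹)⁻¹ * b'⁻¹) * x⁻¹ := by
          rw [hb']; group
        rw [h1, hcomm, xn]
      gV := hg
      ga := g2
      gn := g1
      wV := hwN
      wQ := hw
      wn := fun c hc => by
        have h1 := vc _ (conjQ tn hc) b' hbV'
        have h2 : t⁻¹ * b' * t * c * (t⁻¹ * b' * t)⁻¹ * c⁻¹ =
            t⁻¹ * (t * c * t⁻¹ * b' * (t * c * t⁻¹)⁻¹ * b'⁻¹)⁻¹ * t := by group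
        rcases h1 with h1 | h1
        · left; rw [h2, h1]; group
        · right
          have h3 : n⁻¹ = n := inv_eq_of_mul_eq_one_left (D.sq _ _)
          rw [h2, h1, h3, mul_assoc, ← tn, ← mul_assoc, inv_mul_cancel, one_mul]
      wc := fun h1 => by
        rw [hws p e he, Equiv.swap_apply_left, Equiv.swap_apply_of_ne_of_ne ep eq] at h1
        rcases D.inj q e p e (hpq.symm.trans he) he eq.symm h1 with h2 | h2
        · exact pq h2.1.symm
        · exact ep h2.2 }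
  exact cf.exists_one

end Dd

/-- The partner side: `V'` with `n`, `a`, `b ∈ V'`. -/
structure Pd (S' V' : Subgroup G) (n a b : G) : Prop where
  vQ : V' ≤ o2 (centralizer ({n} : Set G))
  vc : ∀ g ∈ o2 (centralizer ({n} : Set G)), ∀ v ∈ V', g * v * g⁻¹ * v⁻¹ = 1 ∨ g * v * g⁻¹ * v⁻¹ = n
  act : ∀ g ∈ o2 (centralizer ({a} : Set G)), (∀ v ∈ V', g * v = v * g) ∨ g * b ≠ b * g
  bV : b ∈ V'
  exists_y : ∃ y, y * n = n * y ∧ y * a * y⁻¹ = b
  fix : ∀ g ∈ S', g * a = a * g → g * b * g⁻¹ * b⁻¹ = 1 ∨ g * b * g⁻¹ * b⁻¹ = a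

/-- **The mixed pair, one side with duads.** -/
theorem Dd.exists_pd [Finite G] {V : Subgroup G} {k m : ℕ} {d : Pt k m → Pt k m → G} (D : Dd V d) {p q r s : Pt k m}
    (hpq : p.1 = q.1) (hpr : p.1 = r.1) (hps : p.1 = s.1) (pq : p ≠ q) (pr : p ≠ r) (ps : p ≠ s) (qr : q ≠ r)
    (qs : q ≠ s) (rs : r ≠ s) {S' V' : Subgroup G} {b : G} (h : Pd S' V' (d p q) (d r s) b)
    (hR : o2 (centralizer (V : Set G)) ≤ S') {x t v u : G}
    (xV : x ∈ normalizer (V : Set G)) (xV' : x ∈ normalizer (V' : Set G)) (xn : x * d p q * x⁻¹ = d r s)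
    (tn : t * d p q = d p q * t) (hv : v ∈ V) (hu : u ∈ V') (hne : t * v * t⁻¹ * u ≠ u * (t * v * t⁻¹)) :
    ∃ k, k * d p q = d p q * k ∧ ∃ v ∈ V, ∃ u ∈ V, k * v * k⁻¹ * u ≠ u * (k * v * k⁻¹) := by
  obtain ⟨y, yn, yb⟩ := h.exists_y
  -- the conjugate of `t v t⁻¹` by `x`
  have hq' : t * v * t⁻¹ ∈ o2 (centralizer ({d p q} : Set G)) := conjQ tn (D.VQ p q hpq pq hv)
  have hρ : x * (t * v * t⁻¹) * x⁻¹ ∈ o2 (centralizer ({d r s} : Set G)) := by
    have h1 : cj x (o2 (centralizer ({d p q} : Set G))) = o2 (centralizer ({d r s} : Set G)) := by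
      rw [o2_conj x (d p q), xn]
    rw [← h1]
    exact ⟨_, hq', rfl⟩
  have hmove := (h.act _ hρ).resolve_left fun h1 => hne (by
    have h2 := h1 _ ((mem_normalizer_iff.1 xV' u).1 hu)
    calc t * v * t⁻¹ * u = x⁻¹ * (x * (t * v * t⁻¹) * x⁻¹ * (x * u * x⁻¹)) * x := by group
      _ = x⁻¹ * (x * u * x⁻¹ * (x * (t * v * t⁻¹) * x⁻¹)) * x := by rw [h2]
      _ = u * (t * v * t⁻¹) := by group)
  refine D.exists_one hpq hpr hps pq pr ps qr qs rs (V' := V') h.vQ h.vc xV xV' xn yn ?_ ?_ tn hv ?_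
  · rw [yb]; exact h.bV
  · rw [yb]
    exact fun g hg => h.fix g (hR hg) (mem_centralizer_iff.1 (o2_le _ hg) _ (D.mem _ _)).symm
  · rw [yb]
    intro h1
    refine hmove ?_
    calc x * (t * v * t⁻¹) * x⁻¹ * b = x * (t * v * t⁻¹ * (x⁻¹ * b * x)) * x⁻¹ := by group
      _ = x * (x⁻¹ * b * x * (t * v * t⁻¹)) * x⁻¹ := by rw [h1]
      _ = b * (x * (t * v * t⁻¹) * x⁻¹) := by group

namespace Ds

variable [Finite G] {S' V' : Subgroup G} {k' m' : ℕ} {d' : Pt k' m' → Pt k' m' → G} (D' : Ds S' V' d')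

include D'

/-- `V'` with duads as the partner side -/
theorem pd {p q r s : Pt k' m'} (hpq : p.1 = q.1) (hrs : r.1 = s.1) (pq : p ≠ q) (rs : r ≠ s) (pr : p ≠ r)
    (ps : p ≠ s) (qr : q ≠ r) (qs : q ≠ s) (hp : p.2 ≠ 0) (hq : q.2 ≠ 0) (hr : r.2 ≠ 0) (hs : s.2 ≠ 0) :
    Pd S' V' (d' p q) (d' r s) (d' r (r.1, 0)) := by
  have E' := D'.toDd
  set o : Pt k' m' := (r.1, 0) with ho
  have or' : o ≠ r := fun e => hr (by rw [← e])
  have os : o ≠ s := fun e => hs (by rw [← e])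
  have op : o ≠ p := fun e => hp (by rw [← e])
  have oq : o ≠ q := fun e => hq (by rw [← e])
  obtain ⟨y, hy, hys⟩ := E'.lift (Equiv.swap s o) (Dd.swap_fst hrs.symm)
  refine
    { vQ := E'.VQ p q hpq pq
      vc := E'.cm p q hpq pq
      act := fun g hg => ?_
      bV := E'.mem _ _
      exists_y := ⟨y, ?_, ?_⟩
      fix := fun g hg h1 => ?_ }
  · refine (E'.act r s hrs rs g hg).2.imp_right fun h1 h3 => ?_
    have h2 := h1 r o rfl
    rw [h3, mul_inv_cancel_right, Equiv.swap_apply_left, Equiv.swap_apply_of_ne_of_ne or' os] at h2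
    rcases E'.inj r o s o rfl hrs.symm or'.symm h2 with h3 | h3
    · exact rs h3.1
    · exact or' h3.1.symm
  · have h1 := hys p q hpq
    rw [Equiv.swap_apply_of_ne_of_ne ps op.symm, Equiv.swap_apply_of_ne_of_ne qs oq.symm,
      mul_inv_eq_iff_eq_mul] at h1
    exact h1
  · rw [hys r s hrs, Equiv.swap_apply_of_ne_of_ne rs or'.symm, Equiv.swap_apply_left]
  · rcases D'.fix g hg r s hrs rs h1 with h2 | h2
    · left; rw [h2, mul_inv_cancel]
    · right
      have h3 : (d' r o)⁻¹ = d' o r := by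
        rw [E'.comm o r rfl]
        exact inv_eq_of_mul_eq_one_left (E'.sq _ _)
      rw [h2, h3, E'.mul s o r hrs.symm rfl, E'.comm s r hrs.symm]

/-- **The mixed pair of two modules with the same duads `n` and `a`.** -/
theorem exists_one {V : Subgroup G} {k m : ℕ} {d : Pt k m → Pt k m → G} (D : Dd V d) {p q r s : Pt k m}
    (hpq : p.1 = q.1) (hpr : p.1 = r.1) (hps : p.1 = s.1) (pq : p ≠ q)
    (pr : p ≠ r) (ps : p ≠ s) (qr : q ≠ r) (qs : q ≠ s) (rs : r ≠ s) {p' q' r' s' : Pt k' m'} (hpq' : p'.1 = q'.1)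
    (hrs' : r'.1 = s'.1) (pq' : p' ≠ q') (rs' : r' ≠ s') (pr' : p' ≠ r') (ps' : p' ≠ s') (qr' : q' ≠ r')
    (qs' : q' ≠ s') (hp : p'.2 ≠ 0) (hq : q'.2 ≠ 0) (hr : r'.2 ≠ 0) (hs : s'.2 ≠ 0) (en : d' p' q' = d p q)
    (ea : d' r' s' = d r s) (hR : o2 (centralizer (V : Set G)) ≤ S') {x t v u : G}
    (xV : x ∈ normalizer (V : Set G)) (xV' : x ∈ normalizer (V' : Set G)) (xn : x * d p q * x⁻¹ = d r s)
    (tn : t * d p q = d p q * t) (hv : v ∈ V) (hu : u ∈ V') (hne : t * v * t⁻¹ * u ≠ u * (t * v * t⁻¹)) :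
    ∃ k, k * d p q = d p q * k ∧ ∃ v ∈ V, ∃ u ∈ V, k * v * k⁻¹ * u ≠ u * (k * v * k⁻¹) := by
  have h := D'.pd hpq' hrs' pq' rs' pr' ps' qr' qs' hp hq hr hs
  rw [en, ea] at h
  exact D.exists_pd hpq hpr hps pq pr ps qr qs rs h hR xV xV' xn tn hv hu hne

end Ds

end Cfsg.Agent.Omega.IId.SwB.Mixed

end

private theorem dce_d913d820e40b : _root_.True := by
  try have : _root_.True := by simp only [_root_.Cfsg.Agent.Omega.TTn.TwoTypes.W.eq_1]
  exact _root_.True.intro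
end

-- part: Mrg/Omega/NO3S/SN/R1/Def
section
prune_inst 0xd0000100142200000000000000001c4282000000000b0001c10000040480894100000721b0201300010020240030004000100009000000000000000041180080000200020000a000200000000800000000000000000000000000000000000000000000000
set_option linter.all false
open scoped Cfsg.Agent.FastGrp

section


/-!
# THEOREM R1 (helper430 #22327, referee helper42 #22750; helper62 #22855 (3')): the abstract frame

`V` is a line on the point `z = ε (single 0 1)` (the letter `oo` is `0`), `W = U_z`.  For a set `Γ` of letters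

* `VG ε Γ` : the vectors of `V` which are constant on `Γ`; `YG ε Γ = C_G(V_Γ)`; `UG V ε Γ = ⟨V^{Y_Γ}⟩`
  (`Γ = {i,j}` : `l_ij`, `X_ij`, canonical `W_ij`; `Γ = {i,j,k}` : `l_Γ`, `Y`, `U_Γ`);
* `Ln V ε W` : the facts on a line on `z` (no level, no `J`);
* `Best W A` : `A` acts on `W` as a minimal best offender;
* `Goo V ε W A Γ` : `[W, A] ≤ U_Γ`.
-/

set_option autoImplicit false

namespace Cfsg.Agent.Omega.NO3S.SN.R1

open Subgroup Cfsg Cfsg.Agent.ZN Cfsg.Agent.Omega.S5.Def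
open Cfsg.Agent.Omega.FFThm (ElemM)

universe u

section defs

variable {G : Type u} [Group G]

/-- `⟨V^R⟩` -/
def Cl (V R : Subgroup G) : Subgroup G := _root_.Subgroup.closure {x | ∃ g ∈ R, ∃ w ∈ V, x = g * w * g⁻¹}

variable {n : ℕ}

/-- constant on `Γ` -/
def Cst (Γ : Finset (Fin n)) (x : Fin n → ZMod 2) : Prop := ∀ i ∈ Γ, ∀ j ∈ Γ, x i = x j

/-- `V_Γ` -/
def VG (ε : (Fin n → ZMod 2) → G) (Γ : Finset (Fin n)) : Subgroup G := _root_.Subgroup.closure {v | ∃ x, Cst Γ x ∧ ε x = v}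

/-- `Y_Γ = C_G(V_Γ)` -/
def YG (ε : (Fin n → ZMod 2) → G) (Γ : Finset (Fin n)) : Subgroup G := centralizer (VG ε Γ : Set G)

/-- `U_Γ = ⟨V^{Y_Γ}⟩` -/
def UG (V : Subgroup G) (ε : (Fin n → ZMod 2) → G) (Γ : Finset (Fin n)) : Subgroup G := Cl V (YG ε Γ)

/-- the heavy vector `z_i` -/
def zz (ε : (Fin n → ZMod 2) → G) (i : Fin n) : G := ε (Pi.single i 1)

/-- the facts on a line `V` on the point `z = z_0` -/
structure Ln [NeZero n] (V : Subgroup G) (ε : (Fin n → ZMod 2) → G) (W : Subgroup G) : Prop where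
  n5 : 5 ≤ n
  ev : EvenSet n V (normalizer (V : Set G)) ε
  VW : V ≤ W
  Wn : centralizer ({zz ε 0} : Set G) ≤ normalizer (W : Set G)
  Wc : ∀ a ∈ W, ∀ b ∈ W, a * b = b * a
  Ws : ∀ a ∈ W, a * a = 1
  /-- fusion of the heavy vectors in `V` -/
  fus : ∀ (i : Fin n) (g : G), g * zz ε i * g⁻¹ ∈ V → ∃ j, g * zz ε i * g⁻¹ = zz ε j
  /-- (B2) -/
  syl : ∀ Γ : Finset (Fin n), 0 ∉ Γ → ∃ T : Subgroup G, T ≤ YG ε Γ ∧ T ≤ normalizer (V : Set G) ∧ IsPGroup 2 T ∧
    ¬ 2 ∣ T.relIndex (YG ε Γ)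
  kg : IsKGroup (centralizer ({zz ε 0} : Set G))

/-- `A` acts on `W` as a minimal best offender: `|W : C_W(A)| ≤ |A : C_A(W)|`, and `|C_W(B) : C_W(A)| < |A : B|` for
`C_A(W) < B < A`. -/
structure Best (W A : Subgroup G) : Prop where
  el : ElemM W A
  ne : ¬ A ≤ centralizer (W : Set G)
  off : (centralizer (A : Set G)).relIndex W ≤ (centralizer (W : Set G)).relIndex A
  min : ∀ B : Subgroup G, A ⊓ centralizer (W : Set G) < B → B < A →
    (centralizer (A : Set G)).relIndex (W ⊓ centralizer (B : Set G)) < B.relIndex A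

/-- `[W, A] ≤ U_Γ` -/
def Goo (V : Subgroup G) (ε : (Fin n → ZMod 2) → G) (W A : Subgroup G) (Γ : Finset (Fin n)) : Prop :=
  ∀ a ∈ A, ∀ w ∈ W, a * w * a⁻¹ * w⁻¹ ∈ UG V ε Γ

end defs

end Cfsg.Agent.Omega.NO3S.SN.R1

end

section


/-!
# THEOREM R2 (helper695, bb #24008): the relative frame

`V` is a line on the point `z = ε (single 0 1)` (the letter `oo` is `0`), notation of `R1/Def.lean`.

* `PM V ε k = M^(k) = ⟨C_{N(V)}(z_k), X_ij : k ∉ {i,j}⟩`, `M = PM V ε 0`, `W = ⟨V^M⟩`;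
* `PY V ε Γ = ⟨N(V) ∩ Y_Γ, X_ij : i, j ∈ Γ⟩`, `PU V ε Γ = ⟨V^{PY Γ}⟩`; `WI V ε i j = ⟨V^{X_ij}⟩`;
* `cε g ε` : the labels of the line `V^g`;
* `Fr V W ε` : the frame; `Fr.conj` : it holds for all lines `V^m`, `m ∈ M`;
* `fW W A = |A| |C_W(A)|`, `At W A` : `A ≥ C_G(W)` acts on `W` as an atom; `NOv W P` : no over-offender above `C_G(W)` in `P`.
-/

set_option autoImplicit false

namespace Cfsg.Agent.Omega.NO3S.SN.RTwo

open Subgroup Cfsg Cfsg.Agent.ZN Cfsg.Agent.Omega.S5.Def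
open Cfsg.Agent.Omega.NO3S.SN.R1 (Cl Cst VG YG zz)
open Cfsg.Agent.Omega.FFThm (ElemM)
open scoped Pointwise

universe u

variable {G : Type u} [Group G] {n : ℕ}

/-- `M^(k)` -/
def PM (V : Subgroup G) (ε : (Fin n → ZMod 2) → G) (k : Fin n) : Subgroup G :=
  _root_.Subgroup.closure ({g | g ∈ normalizer (V : Set G) ∧ g * zz ε k * g⁻¹ = zz ε k} ∪
    {g | ∃ i j, i ≠ k ∧ j ≠ k ∧ i ≠ j ∧ g ∈ YG ε {i, j}})

/-- `Y_Γ`, relative -/
def PY (V : Subgroup G) (ε : (Fin n → ZMod 2) → G) (Γ : Finset (Fin n)) : Subgroup G :=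
  _root_.Subgroup.closure ({g | g ∈ normalizer (V : Set G) ∧ g ∈ YG ε Γ} ∪ {g | ∃ i ∈ Γ, ∃ j ∈ Γ, i ≠ j ∧ g ∈ YG ε {i, j}})

/-- `U_Γ`, relative -/
def PU (V : Subgroup G) (ε : (Fin n → ZMod 2) → G) (Γ : Finset (Fin n)) : Subgroup G := Cl V (PY V ε Γ)

/-- `W_ij = ⟨V^{X_ij}⟩` -/
def WI (V : Subgroup G) (ε : (Fin n → ZMod 2) → G) (i j : Fin n) : Subgroup G := Cl V (YG ε {i, j})

/-- the labels of `V^g` -/
def cε (g : G) (ε : (Fin n → ZMod 2) → G) : (Fin n → ZMod 2) → G := fun x => g * ε x * g⁻¹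

/-! ### Conjugation -/

theorem mem_cj {g x : G} {A : Subgroup G} : x ∈ MulAut.conj g • A ↔ g⁻¹ * x * g ∈ A := by
  rw [mem_pointwise_smul_iff_inv_smul_mem]
  simp [MulAut.smul_def]

theorem cj_mem {g x : G} {A : Subgroup G} (h : x ∈ A) : g * x * g⁻¹ ∈ MulAut.conj g • A := by
  rw [mem_cj]
  have h1 : g⁻¹ * (g * x * g⁻¹) * g = x := by group
  rwa [h1]

theorem cj_eq_of_mem {g : G} {A : Subgroup G} (h : g ∈ normalizer (A : Set G)) : MulAut.conj g • A = A := by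
  ext x
  rw [mem_cj, mem_normalizer_iff.1 h (g⁻¹ * x * g)]
  have h1 : g * (g⁻¹ * x * g) * g⁻¹ = x := by group
  rw [h1]

theorem mem_norm_of_cj {g : G} {A : Subgroup G} (h : MulAut.conj g • A = A) : g ∈ normalizer (A : Set G) := by
  rw [mem_normalizer_iff]
  intro x
  constructor
  · intro hx
    rw [← h]
    exact cj_mem hx
  · intro hx
    rw [← h, mem_cj] at hx
    have h1 : g⁻¹ * (g * x * g⁻¹) * g = x := by group
    rwa [h1] at hx

theorem cj_mono {g : G} {A B : Subgroup G} (h : A ≤ B) : MulAut.conj g • A ≤ MulAut.conj g • B := by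
  intro x hx
  rw [mem_cj] at hx ⊢
  exact h hx

theorem cj_cj {g h : G} {A : Subgroup G} : MulAut.conj g • MulAut.conj h • A = MulAut.conj (g * h) • A := by
  rw [smul_smul, map_mul]

theorem cj_inv_cj {g : G} {A : Subgroup G} : MulAut.conj g⁻¹ • MulAut.conj g • A = A := by
  rw [cj_cj, inv_mul_cancel, map_one, one_smul]

theorem cj_cj_inv {g : G} {A : Subgroup G} : MulAut.conj g • MulAut.conj g⁻¹ • A = A := by
  rw [cj_cj, mul_inv_cancel, map_one, one_smul]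

theorem cj_normalizer (g : G) (A : Subgroup G) :
    normalizer ((MulAut.conj g • A : Subgroup G) : Set G) = MulAut.conj g • normalizer (A : Set G) := by
  ext x
  rw [mem_cj]
  constructor
  · intro h
    have h1 := cj_eq_of_mem h
    apply mem_norm_of_cj
    rw [cj_cj] at h1
    have h2 : MulAut.conj g⁻¹ • (MulAut.conj (x * g) • A) = MulAut.conj g⁻¹ • MulAut.conj g • A := by rw [h1]
    rw [cj_cj, cj_inv_cj] at h2
    rwa [← mul_assoc] at h2
  · intro h
    have h1 := cj_eq_of_mem h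
    apply mem_norm_of_cj
    rw [cj_cj]
    have h2 : MulAut.conj g • (MulAut.conj (g⁻¹ * x * g) • A) = MulAut.conj g • A := by rw [h1]
    rw [cj_cj] at h2
    have h3 : g * (g⁻¹ * x * g) = x * g := by group
    rwa [h3] at h2

theorem cj_centralizer (g : G) (s : Set G) :
    centralizer ((fun x => g * x * g⁻¹) '' s) = MulAut.conj g • centralizer s := by
  ext x
  rw [mem_cj, mem_centralizer_iff, mem_centralizer_iff]
  constructor
  · intro h y hy
    have h1 := h _ ⟨y, hy, rfl⟩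
    calc y * (g⁻¹ * x * g) = g⁻¹ * (g * y * g⁻¹ * x) * g := by group
      _ = g⁻¹ * (x * (g * y * g⁻¹)) * g := by rw [h1]
      _ = g⁻¹ * x * g * y := by group
  · rintro h _ ⟨y, hy, rfl⟩
    have h1 := h y hy
    calc g * y * g⁻¹ * x = g * (y * (g⁻¹ * x * g)) * g⁻¹ := by group
      _ = g * (g⁻¹ * x * g * y) * g⁻¹ := by rw [h1]
      _ = x * (g * y * g⁻¹) := by group

theorem cj_coe (g : G) (A : Subgroup G) :
    ((MulAut.conj g • A : Subgroup G) : Set G) = (fun x => g * x * g⁻¹) '' (A : Set G) := by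
  ext x
  constructor
  · intro h
    exact ⟨g⁻¹ * x * g, mem_cj.1 h, by group⟩
  · rintro ⟨y, hy, rfl⟩
    exact cj_mem hy

theorem cj_centralizer' (g : G) (A : Subgroup G) :
    centralizer ((MulAut.conj g • A : Subgroup G) : Set G) = MulAut.conj g • centralizer (A : Set G) := by
  rw [cj_coe, cj_centralizer]

theorem cj_closure (g : G) (s : Set G) :
    MulAut.conj g • closure s = closure ((fun x => g * x * g⁻¹) '' s) := by
  apply le_antisymm
  · intro x hx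
    rw [mem_cj] at hx
    have h1 : closure s ≤ MulAut.conj g⁻¹ • closure ((fun x => g * x * g⁻¹) '' s) := by
      rw [closure_le]
      intro y hy
      rw [SetLike.mem_coe, mem_cj, inv_inv]
      exact subset_closure ⟨y, hy, rfl⟩
    have h2 := h1 hx
    rw [mem_cj, inv_inv] at h2
    have h3 : g * (g⁻¹ * x * g) * g⁻¹ = x := by group
    rwa [h3] at h2
  · rw [closure_le]
    rintro _ ⟨y, hy, rfl⟩
    exact cj_mem (_root_.Subgroup.subset_closure hy)

theorem cj_Cl (g : G) (V R : Subgroup G) : Cl (MulAut.conj g • V) (MulAut.conj g • R) = MulAut.conj g • Cl V R := by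
  rw [Cl, Cl, cj_closure]
  congr 1
  ext x
  constructor
  · rintro ⟨r, hr, w, hw, rfl⟩
    rw [mem_cj] at hr hw
    refine ⟨_, ⟨_, hr, _, hw, rfl⟩, ?_⟩
    change g * (g⁻¹ * r * g * (g⁻¹ * w * g) * (g⁻¹ * r * g)⁻¹) * g⁻¹ = r * w * r⁻¹
    group
  · rintro ⟨_, ⟨r, hr, w, hw, rfl⟩, rfl⟩
    refine ⟨g * r * g⁻¹, cj_mem hr, g * w * g⁻¹, cj_mem hw, ?_⟩
    change g * (r * w * r⁻¹) * g⁻¹ = _
    group

theorem cj_VG (g : G) (ε : (Fin n → ZMod 2) → G) (Γ : Finset (Fin n)) :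
    VG (cε g ε) Γ = MulAut.conj g • VG ε Γ := by
  rw [VG, VG, cj_closure]
  congr 1
  ext x
  constructor
  · rintro ⟨v, hv, rfl⟩
    exact ⟨_, ⟨v, hv, rfl⟩, rfl⟩
  · rintro ⟨_, ⟨v, hv, rfl⟩, rfl⟩
    exact ⟨v, hv, rfl⟩

theorem cj_YG (g : G) (ε : (Fin n → ZMod 2) → G) (Γ : Finset (Fin n)) :
    YG (cε g ε) Γ = MulAut.conj g • YG ε Γ := by
  rw [YG, YG, cj_VG, cj_centralizer']

theorem cj_zz (g : G) (ε : (Fin n → ZMod 2) → G) (k : Fin n) : zz (cε g ε) k = g * zz ε k * g⁻¹ := rfl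

theorem cj_PM (g : G) (V : Subgroup G) (ε : (Fin n → ZMod 2) → G) (k : Fin n) :
    PM (MulAut.conj g • V) (cε g ε) k = MulAut.conj g • PM V ε k := by
  rw [PM, PM, cj_closure]
  congr 1
  ext x
  constructor
  · rintro (⟨h1, h2⟩ | ⟨i, j, hi, hj, hij, h⟩)
    · refine ⟨g⁻¹ * x * g, Or.inl ⟨?_, ?_⟩, by change g * (g⁻¹ * x * g) * g⁻¹ = x; group⟩
      · rwa [cj_normalizer, mem_cj] at h1
      · rw [cj_zz] at h2
        calc g⁻¹ * x * g * zz ε k * (g⁻¹ * x * g)⁻¹ = g⁻¹ * (x * (g * zz ε k * g⁻¹) * x⁻¹) * g := by group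
          _ = g⁻¹ * (g * zz ε k * g⁻¹) * g := by rw [h2]
          _ = zz ε k := by group
    · rw [cj_YG, mem_cj] at h
      exact ⟨g⁻¹ * x * g, Or.inr ⟨i, j, hi, hj, hij, h⟩, by change g * (g⁻¹ * x * g) * g⁻¹ = x; group⟩
  · rintro ⟨y, (⟨h1, h2⟩ | ⟨i, j, hi, hj, hij, h⟩), rfl⟩
    · left
      refine ⟨?_, ?_⟩
      · rw [cj_normalizer]
        exact cj_mem h1
      · rw [cj_zz]
        change g * y * g⁻¹ * (g * zz ε k * g⁻¹) * (g * y * g⁻¹)⁻¹ = _
        calc g * y * g⁻¹ * (g * zz ε k * g⁻¹) * (g * y * g⁻¹)⁻¹ = g * (y * zz ε k * y⁻¹) * g⁻¹ := by group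
          _ = _ := by rw [h2]
    · right
      refine ⟨i, j, hi, hj, hij, ?_⟩
      rw [cj_YG]
      exact cj_mem h

theorem cj_PY (g : G) (V : Subgroup G) (ε : (Fin n → ZMod 2) → G) (Γ : Finset (Fin n)) :
    PY (MulAut.conj g • V) (cε g ε) Γ = MulAut.conj g • PY V ε Γ := by
  rw [PY, PY, cj_closure]
  congr 1
  ext x
  constructor
  · rintro (⟨h1, h2⟩ | ⟨i, hi, j, hj, hij, h⟩)
    · rw [cj_normalizer, mem_cj] at h1
      rw [cj_YG, mem_cj] at h2
      exact ⟨g⁻¹ * x * g, Or.inl ⟨h1, h2⟩, by change g * (g⁻¹ * x * g) * g⁻¹ = x; group⟩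
    · rw [cj_YG, mem_cj] at h
      exact ⟨g⁻¹ * x * g, Or.inr ⟨i, hi, j, hj, hij, h⟩, by change g * (g⁻¹ * x * g) * g⁻¹ = x; group⟩
  · rintro ⟨y, (⟨h1, h2⟩ | ⟨i, hi, j, hj, hij, h⟩), rfl⟩
    · left
      refine ⟨?_, ?_⟩
      · rw [cj_normalizer]
        exact cj_mem h1
      · rw [cj_YG]
        exact cj_mem h2
    · right
      refine ⟨i, hi, j, hj, hij, ?_⟩
      rw [cj_YG]
      exact cj_mem h

theorem cj_PU (g : G) (V : Subgroup G) (ε : (Fin n → ZMod 2) → G) (Γ : Finset (Fin n)) :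
    PU (MulAut.conj g • V) (cε g ε) Γ = MulAut.conj g • PU V ε Γ := by
  rw [PU, PU, cj_PY, cj_Cl]

theorem cj_WI (g : G) (V : Subgroup G) (ε : (Fin n → ZMod 2) → G) (i j : Fin n) :
    WI (MulAut.conj g • V) (cε g ε) i j = MulAut.conj g • WI V ε i j := by
  rw [WI, WI, cj_YG, cj_Cl]

/-! ### Relabelling -/

/-! ### The frame -/

/-- The frame. -/
structure Fr [NeZero n] (V W : Subgroup G) (ε : (Fin n → ZMod 2) → G) : Prop where
  n5 : 5 ≤ n
  nodd : Odd n
  ev : EvenSet n V (normalizer (V : Set G)) ε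
  Weq : W = Cl V (PM V ε 0)
  Wc : ∀ a ∈ W, ∀ b ∈ W, a * b = b * a
  Ws : ∀ a ∈ W, a * a = 1
  /-- `V ≤ Z(O₂(M))` -/
  Qc : o2 (PM V ε 0) ≤ centralizer (V : Set G)
  /-- `O₂(M / C(W)) = 1` -/
  o2M : ∀ A : Subgroup G, A ≤ PM V ε 0 → PM V ε 0 ≤ normalizer (A : Set G) →
    (∀ a ∈ A, ∃ k : ℕ, a ^ 2 ^ k ∈ centralizer (W : Set G)) → A ≤ centralizer (W : Set G)
  /-- fusion of the heavy vectors in `V` -/
  fus : ∀ (i : Fin n) (g : G), g * zz ε i * g⁻¹ ∈ V → ∃ j, g * zz ε i * g⁻¹ = zz ε j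
  /-- (B2) -/
  syl : ∀ Γ : Finset (Fin n), 0 ∉ Γ → ∃ T : Subgroup G, T ≤ YG ε Γ ∧ T ≤ normalizer (V : Set G) ∧ IsPGroup 2 T ∧
    ¬ 2 ∣ T.relIndex (YG ε Γ)
  /-- (CV) -/
  cv : ∀ T : Subgroup G, T ≤ centralizer (V : Set G) → IsPGroup 2 T → ¬ 2 ∣ T.relIndex (centralizer (V : Set G)) →
    W ⊓ centralizer (T : Set G) ≤ V
  kg : IsKGroup (centralizer ({zz ε 0} : Set G))

/-- `|A| |C_W(A)|` -/
noncomputable def fW (W A : Subgroup G) : ℕ := Nat.card A * Nat.card ↥(W ⊓ centralizer (A : Set G))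

/-- `A ≥ C_G(W)` acts on `W` as an atom (minimal exact elementary abelian group) -/
structure At (W A : Subgroup G) : Prop where
  le : centralizer (W : Set G) ≤ A
  ne : ¬ A ≤ centralizer (W : Set G)
  el : ElemM W A
  tight : fW W A = Nat.card ↥(centralizer (W : Set G)) * Nat.card W
  min : ∀ B : Subgroup G, centralizer (W : Set G) < B → B < A →
    fW W B < Nat.card ↥(centralizer (W : Set G)) * Nat.card W

/-- `(NO)` for the elementary abelian groups between `C_G(W)` and `P` -/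
def NOv (W P : Subgroup G) : Prop :=
  ∀ B : Subgroup G, centralizer (W : Set G) ≤ B → B ≤ P → ElemM W B →
    fW W B ≤ Nat.card ↥(centralizer (W : Set G)) * Nat.card W

/-- `QQ_k(V)`: the full preimage of the image of `O₂(M^(k))` -/
def QQ (V W : Subgroup G) (ε : (Fin n → ZMod 2) → G) (k : Fin n) : Subgroup G :=
  o2 (PM V ε k) ⊔ centralizer (W : Set G)

/-- `P_ij(V)`: the full preimage of the image of `O₂(C(W_ij))` -/
def PP (V W : Subgroup G) (ε : (Fin n → ZMod 2) → G) (i j : Fin n) : Subgroup G :=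
  o2 (centralizer (WI V ε i j : Set G)) ⊔ centralizer (W : Set G)

/-- `E_1 ≤ O₂(C(V))` modulo `C(W)` -/
def OV (V W : Subgroup G) : Subgroup G := o2 (centralizer (V : Set G)) ⊔ centralizer (W : Set G)

end Cfsg.Agent.Omega.NO3S.SN.RTwo

end

section


/-!
# THEOREM R1 (helper430 #22327): elementary facts on `Cl`, `V_Γ`, `Y_Γ = C_G(V_Γ)`, `U_Γ = ⟨V^{Y_Γ}⟩`
-/

set_option autoImplicit false

namespace Cfsg.Agent.Omega.NO3S.SN.R1

open Subgroup Cfsg Cfsg.Agent.ZN Cfsg.Agent.Omega.S5.Def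
open Cfsg.Agent.Omega.FFThm (ElemM)
open Cfsg.Agent.MinSimple.VModule

universe u

variable {G : Type u} [Group G]

/-! ### `Cl` -/

section Cl

theorem Cl_le {V R U : Subgroup G} (hV : V ≤ U) (hR : R ≤ normalizer (U : Set G)) : Cl V R ≤ U := by
  rw [Cl, closure_le]
  rintro _ ⟨g, hg, w, hw, rfl⟩
  exact (mem_normalizer_iff.1 (hR hg) w).1 (hV hw)

theorem le_Cl (V R : Subgroup G) : V ≤ Cl V R := fun v hv => subset_closure ⟨1, one_mem _, v, hv, by group⟩

theorem conj_mem_Cl {V R : Subgroup G} {g v : G} (hg : g ∈ R) (hv : v ∈ V) : g * v * g⁻¹ ∈ Cl V R :=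
  subset_closure ⟨g, hg, v, hv, rfl⟩

theorem Cl_mono {V R S : Subgroup G} (h : R ≤ S) : Cl V R ≤ Cl V S :=
  _root_.Subgroup.closure_mono fun _ ⟨g, hg, w, hw, he⟩ => ⟨g, h hg, w, hw, he⟩

theorem le_normalizer_Cl (V R : Subgroup G) : R ≤ normalizer (Cl V R : Set G) := by
  have key : ∀ g ∈ R, ∀ x ∈ Cl V R, g * x * g⁻¹ ∈ Cl V R := by
    intro g hg x hx
    have h1 : (Cl V R).map (MulAut.conj g).toMonoidHom ≤ Cl V R := by
      rw [Cl, MonoidHom.map_closure, closure_le]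
      rintro _ ⟨_, ⟨k, hk, w, hw, rfl⟩, rfl⟩
      refine subset_closure ⟨g * k, mul_mem hg hk, w, hw, ?_⟩
      change g * (k * w * k⁻¹) * g⁻¹ = g * k * w * (g * k)⁻¹
      group
    exact h1 ⟨x, hx, rfl⟩
  intro g hg
  rw [mem_normalizer_iff]
  refine fun x => ⟨key g hg x, fun hx => ?_⟩
  have h2 := key g⁻¹ (inv_mem hg) _ hx
  have e : g⁻¹ * (g * x * g⁻¹) * g⁻¹⁻¹ = x := by group
  rwa [e] at h2

end Cl

/-! ### `VG`, `YG` -/

section VG

variable {n : ℕ} {V : Subgroup G} {L : Subgroup G} {ε : (Fin n → ZMod 2) → G}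

theorem Cst.add {Γ : Finset (Fin n)} {x y : Fin n → ZMod 2} (hx : Cst Γ x) (hy : Cst Γ y) : Cst Γ (x + y) := by
  intro i hi j hj
  rw [Pi.add_apply, Pi.add_apply, hx i hi j hj, hy i hi j hj]

theorem Cst.mono {Γ Δ : Finset (Fin n)} (h : Γ ⊆ Δ) {x : Fin n → ZMod 2} (hx : Cst Δ x) : Cst Γ x :=
  fun i hi j hj => hx i (h hi) j (h hj)

theorem cst_zero (Γ : Finset (Fin n)) : Cst Γ (0 : Fin n → ZMod 2) := fun _ _ _ _ => rfl

theorem cst_one (Γ : Finset (Fin n)) : Cst Γ (1 : Fin n → ZMod 2) := fun _ _ _ _ => rfl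

theorem cst_single {Γ : Finset (Fin n)} {m : Fin n} (hm : m ∉ Γ) : Cst Γ (Pi.single m 1 : Fin n → ZMod 2) := by
  intro i hi j hj
  have h1 : i ≠ m := fun e => hm (e ▸ hi)
  have h2 : j ≠ m := fun e => hm (e ▸ hj)
  rw [Pi.single_eq_of_ne h1, Pi.single_eq_of_ne h2]

theorem mem_VG (ev : EvenSet n V L ε) {Γ : Finset (Fin n)} {v : G} :
    v ∈ VG ε Γ ↔ ∃ x, Cst Γ x ∧ ε x = v := by
  constructor
  · intro hv
    refine closure_induction (p := fun y _ => ∃ x, Cst Γ x ∧ ε x = y) ?_ ?_ ?_ ?_ hv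
    · rintro y ⟨x, hx, rfl⟩
      exact ⟨x, hx, rfl⟩
    · exact ⟨0, cst_zero Γ, ev.zero⟩
    · rintro _ _ _ _ ⟨x, hx, rfl⟩ ⟨y, hy, rfl⟩
      exact ⟨x + y, hx.add hy, ev.add x y⟩
    · rintro _ _ ⟨x, hx, rfl⟩
      exact ⟨x, hx, (ev.inv x).symm⟩
  · rintro ⟨x, hx, rfl⟩
    exact subset_closure ⟨x, hx, rfl⟩

theorem mem_VG_iff (ev : EvenSet n V L ε) {Γ : Finset (Fin n)} {x : Fin n → ZMod 2} :
    ε x ∈ VG ε Γ ↔ Cst Γ x := by
  rw [mem_VG ev]
  constructor
  · rintro ⟨y, hy, he⟩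
    rcases ev.eq_iff.1 he with h1 | h1
    · rwa [← h1]
    · have h2 : x = y + 1 := by rw [h1, add_assoc, add_self, add_zero]
      rw [h2]
      exact hy.add (cst_one Γ)
  · exact fun h => ⟨x, h, rfl⟩

theorem VG_le (ev : EvenSet n V L ε) (Γ : Finset (Fin n)) : VG ε Γ ≤ V := by
  intro v hv
  obtain ⟨x, -, rfl⟩ := (mem_VG ev).1 hv
  exact ev.mem x

theorem VG_anti (ε : (Fin n → ZMod 2) → G) {Γ Δ : Finset (Fin n)} (h : Γ ⊆ Δ) : VG ε Δ ≤ VG ε Γ :=
  _root_.Subgroup.closure_mono fun _ ⟨x, hx, he⟩ => ⟨x, hx.mono h, he⟩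

theorem YG_mono (ε : (Fin n → ZMod 2) → G) {Γ Δ : Finset (Fin n)} (h : Γ ⊆ Δ) : YG ε Γ ≤ YG ε Δ :=
  centralizer_le (VG_anti ε h)

theorem UG_mono (V : Subgroup G) (ε : (Fin n → ZMod 2) → G) {Γ Δ : Finset (Fin n)} (h : Γ ⊆ Δ) :
    UG V ε Γ ≤ UG V ε Δ := Cl_mono (YG_mono ε h)

theorem mem_YG (ev : EvenSet n V L ε) {Γ : Finset (Fin n)} {g : G} :
    g ∈ YG ε Γ ↔ ∀ x, Cst Γ x → g * ε x * g⁻¹ = ε x := by
  unfold YG
  rw [mem_centralizer_iff]
  constructor
  · intro h x hx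
    rw [← h _ ((mem_VG_iff ev).2 hx), mul_inv_cancel_right]
  · intro h v hv
    obtain ⟨x, hx, rfl⟩ := (mem_VG ev).1 hv
    calc ε x * g = g * ε x * g⁻¹ * g := by rw [h x hx]
      _ = g * ε x := by group

theorem centralizer_le_YG (ev : EvenSet n V L ε) (Γ : Finset (Fin n)) : centralizer (V : Set G) ≤ YG ε Γ :=
  centralizer_le (VG_le ev Γ)

/-- a permutation of the letters in `Γ` is induced by an element of `C_G(V_Γ)` -/
theorem mem_YG_of_acts (ev : EvenSet n V L ε) {Γ : Finset (Fin n)} {g : G} {σ : Equiv.Perm (Fin n)}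
    (hσ : Acts ε g σ) (hf : ∀ m, m ∉ Γ → σ m = m) : g ∈ YG ε Γ := by
  rw [mem_YG ev]
  intro x hx
  rw [hσ x]
  congr 1
  have hf' : ∀ m, m ∉ Γ → σ.symm m = m := by
    intro m hm
    rw [Equiv.symm_apply_eq, hf m hm]
  funext m
  change x (σ.symm m) = x m
  by_cases hm : m ∈ Γ
  · have h1 : σ.symm m ∈ Γ := by
      by_contra h2
      have h3 := hf _ h2
      rw [Equiv.apply_symm_apply] at h3
      rw [← h3] at h2
      exact h2 hm
    exact hx _ h1 _ hm
  · rw [hf' m hm]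

/-- an element of `C_G(V_Γ)` which normalises `V` permutes the letters in `Γ` -/
theorem acts_fix (ev : EvenSet n V L ε) (hn : 3 ≤ n) {Γ : Finset (Fin n)} {g : G} {σ : Equiv.Perm (Fin n)}
    (hσ : Acts ε g σ) (hg : g ∈ YG ε Γ) {m : Fin n} (hm : m ∉ Γ) : σ m = m := by
  refine ev.single_inj hn ?_
  rw [← hσ.single]
  exact (mem_YG ev).1 hg _ (cst_single hm)

/-- the only heavy vector of `z_k V_Γ` is `z_k` -/
theorem eq_of_mem_VG (ev : EvenSet n V L ε) {Γ : Finset (Fin n)} (hΓ : 3 ≤ Γ.card) {m k : Fin n} (hk : k ∈ Γ)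
    (h : zz ε m * zz ε k ∈ VG ε Γ) : m = k := by
  by_contra hne
  have h1 : zz ε m * zz ε k = ε (Pi.single m 1 + Pi.single k 1) := (ev.add _ _).symm
  rw [h1, mem_VG_iff ev] at h
  obtain ⟨l, hl, hl2⟩ : ∃ l ∈ Γ, l ∉ ({m, k} : Finset (Fin n)) :=
    Finset.exists_mem_notMem_of_card_lt_card (lt_of_le_of_lt Finset.card_le_two (by omega))
  simp only [Finset.mem_insert, Finset.mem_singleton, not_or] at hl2
  have h2 := h k hk l hl
  rw [Pi.add_apply, Pi.add_apply, Pi.single_eq_same, Pi.single_eq_of_ne (Ne.symm hne), Pi.single_eq_of_ne hl2.1,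
    Pi.single_eq_of_ne hl2.2] at h2
  simp only [_root_.zero_add, _root_.add_zero, _root_.one_ne_zero] at h2

end VG

end Cfsg.Agent.Omega.NO3S.SN.R1

end

section


/-!
# THEOREM R1 (helper430 #22327), step (2)

`A` a minimal best offender on `W` inside `O₂(C_G(V))`; if `A` centralises `U_ij` and moves `U_ik`, then
`[W, A] ≤ U_ijk`, `W = U_ijk C_W(A)` and `C_A(U_ijk) = C_A(W)`.

(ML) is applied to `Y = C_G(V_Γ)` on `U_Γ / V_Γ`, `Γ = {i,j,k}`, with the vector `z_k V_Γ`, whose stabiliser in `Y` is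
`C_G(V_ij)`.
-/

set_option autoImplicit false
set_option linter.unusedSectionVars false

namespace Cfsg.Agent.Omega.NO3S.SN.R1

open Subgroup Cfsg Cfsg.Agent.ZN Cfsg.Agent.Omega.S5.Def
open Cfsg.Agent.Omega.FFThm (ElemM)
open Cfsg.Agent.MinSimple.VModule

universe u

variable {G : Type u} [Group G]

section labels

variable {n : ℕ} {V : Subgroup G} {L : Subgroup G} {ε : (Fin n → ZMod 2) → G}

theorem zmod2 (c : ZMod 2) : c = 0 ∨ c = 1 := by
  revert c
  decide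

/-- `V_ij = V_ijk ⟨z_k⟩` -/
theorem mem_YG_pair (ev : EvenSet n V L ε) {i j k : Fin n} (hij : i ≠ j) (hik : i ≠ k) (hjk : j ≠ k) {g : G}
    (hg : g ∈ YG ε {i, j, k}) (hz : g * zz ε k * g⁻¹ = zz ε k) : g ∈ YG ε {i, j} := by
  rw [mem_YG ev]
  intro x hx
  have hxij : x i = x j := hx i (by simp) j (by simp)
  rcases eq_or_ne (x k) (x i) with h1 | h1
  · refine (mem_YG ev).1 hg x ?_
    intro a ha b hb
    simp only [Finset.mem_insert, Finset.mem_singleton] at ha hb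
    have hv : ∀ c, (c = i ∨ c = j ∨ c = k) → x c = x i := by
      rintro c (rfl | rfl | rfl)
      · rfl
      · exact hxij.symm
      · exact h1
    rw [hv a ha, hv b hb]
  · have h2 : Cst {i, j, k} (x + Pi.single k 1) := by
      intro a ha b hb
      simp only [Finset.mem_insert, Finset.mem_singleton] at ha hb
      have hv : ∀ c, (c = i ∨ c = j ∨ c = k) → (x + Pi.single k 1 : Fin n → ZMod 2) c = x i := by
        rintro c (rfl | rfl | rfl)
        · rw [Pi.add_apply, Pi.single_eq_of_ne hik, add_zero]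
        · rw [Pi.add_apply, Pi.single_eq_of_ne hjk, add_zero]
          exact hxij.symm
        · rw [Pi.add_apply, Pi.single_eq_same]
          rcases zmod2 (x c) with h3 | h3 <;> rcases zmod2 (x i) with h4 | h4
          · exact absurd (h3.trans h4.symm) h1
          · rw [h3, h4]; rfl
          · rw [h3, h4]; rfl
          · exact absurd (h3.trans h4.symm) h1
      rw [hv a ha, hv b hb]
    have h3 := (mem_YG ev).1 hg _ h2
    rw [ev.add] at h3
    have h4 : g * (ε x * zz ε k) * g⁻¹ = g * ε x * g⁻¹ * (g * zz ε k * g⁻¹) := by group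
    change g * (ε x * zz ε k) * g⁻¹ = ε x * zz ε k at h3
    rw [h4, hz] at h3
    exact mul_right_cancel h3

/-- `V = ⟨V_ijk, z_i, z_k⟩` -/
theorem V_le_of (ev : EvenSet n V L ε) {i j k : Fin n} (hij : i ≠ j) (hik : i ≠ k) (hjk : j ≠ k) {S : Subgroup G}
    (hi : zz ε i ∈ S) (hk : zz ε k ∈ S) (hS : VG ε {i, j, k} ≤ S) : V ≤ S := by
  intro v hv
  obtain ⟨x, rfl⟩ := ev.surj v hv
  have hsm : ∀ (c : ZMod 2) (m : Fin n), zz ε m ∈ S → ε (c • Pi.single m 1) ∈ S := by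
    intro c m hm
    rcases zmod2 c with rfl | rfl
    · rw [zero_smul, ev.zero]
      exact one_mem _
    · rw [one_smul]
      exact hm
  have h1 : Cst {i, j, k} (x + (x i + x j) • Pi.single i 1 + (x k + x j) • Pi.single k 1) := by
    have hv : ∀ c, (c = i ∨ c = j ∨ c = k) →
        (x + (x i + x j) • Pi.single i 1 + (x k + x j) • Pi.single k 1 : Fin n → ZMod 2) c = x j := by
      rintro c (rfl | rfl | rfl)
      · simp only [Pi.add_apply, Pi.smul_apply, Pi.single_eq_same, Pi.single_eq_of_ne hik, smul_eq_mul, mul_zero,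
          mul_one, add_zero]
        rw [← add_assoc, CharTwo.add_self_eq_zero, zero_add]
      · simp only [Pi.add_apply, Pi.smul_apply, Pi.single_eq_of_ne hij.symm, Pi.single_eq_of_ne hjk, smul_eq_mul,
          mul_zero, add_zero]
      · simp only [Pi.add_apply, Pi.smul_apply, Pi.single_eq_same, Pi.single_eq_of_ne hik.symm, smul_eq_mul, mul_zero,
          mul_one, add_zero]
        rw [← add_assoc, CharTwo.add_self_eq_zero, zero_add]
    intro a ha b hb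
    simp only [Finset.mem_insert, Finset.mem_singleton] at ha hb
    rw [hv a ha, hv b hb]
  have h2 := hS ((mem_VG_iff ev).2 h1)
  rw [ev.add, ev.add] at h2
  have h3 := (mul_mem_cancel_right (hsm _ k hk)).1 h2
  exact (mul_mem_cancel_right (hsm _ i hi)).1 h3

end labels

section sylow

variable [Finite G] {n : ℕ} {V W : Subgroup G} {ε : (Fin n → ZMod 2) → G}

omit [Finite G] in
/-- a 2-subgroup of `C_G(V_Γ)` which normalises `V` fixes a letter of `Γ` (`|Γ|` odd) -/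
theorem exists_fix (ev : EvenSet n V (normalizer (V : Set G)) ε) (hn : 3 ≤ n) {Γ : Finset (Fin n)}
    (hΓ : Odd Γ.card) {T : Subgroup G} (hT : IsPGroup 2 T) (h1 : T ≤ YG ε Γ) (h2 : T ≤ normalizer (V : Set G)) :
    ∃ c ∈ Γ, ∀ t ∈ T, t * zz ε c * t⁻¹ = zz ε c := by
  by_contra hcon
  push Not at hcon
  let f : T →* Equiv.Perm (Fin n) := (ev.hom hn).comp (inclusion h2)
  have hf : ∀ t : T, Acts ε (t : G) (f t) := fun t => ev.acts_hom hn (inclusion h2 t)
  let _ : MulAction T (Fin n) := MulAction.compHom (Fin n) f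
  have hsm : ∀ (t : T) (m : Fin n), t • m = f t m := fun _ _ => rfl
  have : Fact (Nat.Prime 2) := ⟨Nat.prime_two⟩
  have h3 := hT.card_modEq_card_fixedPoints (Fin n)
  have h4 : MulAction.fixedPoints T (Fin n) = ((Γᶜ : Finset (Fin n)) : Set (Fin n)) := by
    ext m
    rw [MulAction.mem_fixedPoints, Finset.mem_coe, Finset.mem_compl]
    constructor
    · intro h5 hm
      obtain ⟨t, ht, h6⟩ := hcon m hm
      apply h6
      have h7 := h5 ⟨t, ht⟩
      rw [hsm] at h7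
      have h8 := (hf ⟨t, ht⟩).single m
      rw [h7] at h8
      exact h8
    · intro hm t
      rw [hsm]
      exact acts_fix ev hn (hf t) (h1 t.2) hm
  rw [h4, Nat.card_eq_fintype_card, Fintype.card_fin] at h3
  have h5 : Nat.card ((Γᶜ : Finset (Fin n)) : Set (Fin n)) = n - Γ.card := by
    rw [Nat.card_coe_set_eq, Set.ncard_coe_finset, Finset.card_compl, Fintype.card_fin]
  rw [h5] at h3
  have h6 : Γ.card ≤ n := by
    have := Finset.card_le_univ Γ
    rwa [Fintype.card_fin] at this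
  obtain ⟨c, hc⟩ := hΓ
  have h7 : n % 2 = (n - Γ.card) % 2 := h3
  omega

variable [NeZero n]

/-- a Sylow 2-subgroup of `C_G(V_Γ)` in `N(V)` fixing a given letter of `Γ` (`|Γ|` odd) -/
theorem Ln.exists_syl (h : Ln V ε W) {Γ : Finset (Fin n)} (h0 : 0 ∉ Γ) (hΓ : Odd Γ.card) {k : Fin n} (hk : k ∈ Γ) :
    ∃ T : Subgroup G, T ≤ YG ε Γ ∧ T ≤ normalizer (V : Set G) ∧ IsPGroup 2 T ∧ ¬ 2 ∣ T.relIndex (YG ε Γ) ∧
      ∀ t ∈ T, t * zz ε k * t⁻¹ = zz ε k := by
  have hn : 3 ≤ n := by have := h.n5; omega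
  obtain ⟨T, h1, h2, h3, h4⟩ := h.syl Γ h0
  obtain ⟨c, hc, h5⟩ := exists_fix h.ev hn hΓ h3 h1 h2
  obtain ⟨g, hg, hσ⟩ := h.ev.full (Equiv.swap c k)
  have hgY : g ∈ YG ε Γ := by
    refine mem_YG_of_acts h.ev hσ fun m hm => ?_
    refine Equiv.swap_apply_of_ne_of_ne ?_ ?_
    · rintro rfl
      exact hm hc
    · rintro rfl
      exact hm hk
  have e1 : (YG ε Γ).map (MulAut.conj g).toMonoidHom = YG ε Γ :=
    mem_normalizer_iff_map_conj_eq.mp (le_normalizer hgY)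
  refine ⟨T.map (MulAut.conj g).toMonoidHom, ?_, ?_, h3.map _, ?_, ?_⟩
  · rintro _ ⟨t, ht, rfl⟩
    exact mul_mem (mul_mem hgY (h1 ht)) (inv_mem hgY)
  · rintro _ ⟨t, ht, rfl⟩
    exact mul_mem (mul_mem hg (h2 ht)) (inv_mem hg)
  · rw [← e1, relIndex_map_map_of_injective _ _ (MulAut.conj g).injective]
    exact h4
  · rintro _ ⟨t, ht, rfl⟩
    change g * t * g⁻¹ * zz ε k * (g * t * g⁻¹)⁻¹ = zz ε k
    have h6 : g * zz ε c * g⁻¹ = zz ε k := by
      have h7 := hσ.single c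
      rw [Equiv.swap_apply_left] at h7
      exact h7
    rw [← h6]
    calc g * t * g⁻¹ * (g * zz ε c * g⁻¹) * (g * t * g⁻¹)⁻¹ = g * (t * zz ε c * t⁻¹) * g⁻¹ := by group
      _ = g * zz ε c * g⁻¹ := by rw [h5 t ht]

/-- `C_Y(U_Γ / V_Γ) = C_Y(U_Γ)` -/
theorem Ln.cent_UG (h : Ln V ε W) {Γ : Finset (Fin n)} (hΓ : 3 ≤ Γ.card) {a : G} (ha : a ∈ YG ε Γ)
    (hc : ∀ x ∈ UG V ε Γ, a * x * a⁻¹ * x⁻¹ ∈ VG ε Γ) : a ∈ centralizer (UG V ε Γ : Set G) := by
  have hn : 3 ≤ n := by have := h.n5; omega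
  have key : ∀ y ∈ YG ε Γ, ∀ v ∈ V, a * (y * v * y⁻¹) = y * v * y⁻¹ * a := by
    intro y hy
    set b := y⁻¹ * a * y with hb
    have hbY : b ∈ YG ε Γ := mul_mem (mul_mem (inv_mem hy) ha) hy
    have h1 : ∀ v ∈ V, b * v * b⁻¹ * v⁻¹ ∈ VG ε Γ := by
      intro v hv
      have h2 := hc _ (conj_mem_Cl hy hv)
      obtain ⟨x, hx, he⟩ := (mem_VG h.ev).1 h2
      have h3 := (mem_YG h.ev).1 (inv_mem hy) x hx
      rw [he] at h3
      have h4 : b * v * b⁻¹ * v⁻¹ =
          y⁻¹ * (a * (y * v * y⁻¹) * a⁻¹ * (y * v * y⁻¹)⁻¹) * y⁻¹⁻¹ := by rw [hb]; group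
      rw [h4, h3]
      exact h2
    have h2 : b ∈ normalizer (V : Set G) := by
      refine mem_normalizer_of_map_le ?_
      rintro _ ⟨v, hv, rfl⟩
      change b * v * b⁻¹ ∈ V
      have h3 := mul_mem (VG_le h.ev Γ (h1 v hv)) hv
      rwa [inv_mul_cancel_right] at h3
    obtain ⟨σ, hσ⟩ := h.ev.perm b h2
    have h3 : σ = 1 := by
      ext m
      congr 1
      change σ m = m
      by_cases hm : m ∈ Γ
      · refine eq_of_mem_VG h.ev hΓ hm ?_
        have h4 := h1 _ (h.ev.mem (Pi.single m 1))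
        rw [hσ.single, h.ev.inv] at h4
        exact h4
      · exact acts_fix h.ev hn hσ hbY hm
    subst h3
    have h4 := h.ev.acts_one_iff.1 hσ
    intro v hv
    have h5 := mem_centralizer_iff.1 h4 v hv
    calc a * (y * v * y⁻¹) = y * (b * v) * y⁻¹ := by rw [hb]; group
      _ = y * (v * b) * y⁻¹ := by rw [h5]
      _ = y * v * y⁻¹ * a := by rw [hb]; group
  rw [mem_centralizer_iff]
  intro x hx
  refine closure_induction (p := fun x _ => x * a = a * x) ?_ ?_ ?_ ?_ hx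
  · rintro _ ⟨y, hy, v, hv, rfl⟩
    exact (key y hy v hv).symm
  · rw [one_mul, mul_one]
  · intro x y _ _ h1 h2
    rw [mul_assoc, h2, ← mul_assoc, h1, mul_assoc]
  · intro x _ h1
    have h2 : Commute x a := h1
    exact h2.inv_left

end sylow

section main

variable [Finite G] {n : ℕ} [NeZero n] {V W A : Subgroup G} {ε : (Fin n → ZMod 2) → G}

/-- `Y_Γ ≤ C(z_0)` -/
theorem Ln.YG_le (h : Ln V ε W) {Γ : Finset (Fin n)} (h0 : 0 ∉ Γ) :
    YG ε Γ ≤ centralizer ({zz ε 0} : Set G) := by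
  refine centralizer_le ?_
  rw [Set.singleton_subset_iff]
  exact (mem_VG_iff h.ev).2 (cst_single h0)

theorem Ln.UG_le (h : Ln V ε W) {Γ : Finset (Fin n)} (h0 : 0 ∉ Γ) : UG V ε Γ ≤ W :=
  Cl_le h.VW ((h.YG_le h0).trans h.Wn)

theorem Ln.kY (h : Ln V ε W) {Γ : Finset (Fin n)} (h0 : 0 ∉ Γ) : IsKGroup (YG ε Γ) :=
  ML.Final.kgroup_of_surj h.kg ((YG ε Γ).subgroupOf _) (subgroupOfEquivOfLe (h.YG_le h0)).toMonoidHom
    (subgroupOfEquivOfLe (h.YG_le h0)).surjective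

/-- `{x ∈ W | [x, A] ≤ U}` is a subgroup -/
theorem exists_cm {W U : Subgroup G} (hW : ∀ a ∈ W, ∀ b ∈ W, a * b = b * a) (hU : U ≤ W) (A : Subgroup G) :
    ∃ C : Subgroup G, ∀ x, x ∈ C ↔ x ∈ W ∧ ∀ a ∈ A, a * x * a⁻¹ * x⁻¹ ∈ U := by
  refine ⟨{ carrier := {x | x ∈ W ∧ ∀ a ∈ A, a * x * a⁻¹ * x⁻¹ ∈ U}
            mul_mem' := ?_
            one_mem' := ?_
            inv_mem' := ?_ }, fun x => Iff.rfl⟩
  · rintro x y ⟨hx, hx2⟩ ⟨hy, hy2⟩
    refine ⟨mul_mem hx hy, fun a ha => ?_⟩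
    have h1 := hW _ (hU (hy2 a ha)) _ (inv_mem hx)
    have h2 : a * (x * y) * a⁻¹ * (x * y)⁻¹ = a * x * a⁻¹ * (a * y * a⁻¹ * y⁻¹ * x⁻¹) := by group
    rw [h2, h1, ← mul_assoc]
    exact mul_mem (hx2 a ha) (hy2 a ha)
  · refine ⟨one_mem _, fun a _ => ?_⟩
    have h1 : a * 1 * a⁻¹ * 1⁻¹ = 1 := by group
    rw [h1]
    exact one_mem _
  · rintro x ⟨hx, hx2⟩
    refine ⟨inv_mem hx, fun a ha => ?_⟩
    have h1 := hW _ (inv_mem (hU (hx2 a ha))) _ (inv_mem hx)
    have h2 : a * x⁻¹ * a⁻¹ * x⁻¹⁻¹ = x⁻¹ * (a * x * a⁻¹ * x⁻¹)⁻¹ * x := by group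
    rw [h2, ← h1, inv_mul_cancel_right]
    exact inv_mem (hx2 a ha)

theorem norm_o2 {L : Subgroup G} {g : G} (hg : g ∈ normalizer (L : Set G)) : g ∈ normalizer (o2 L : Set G) := by
  refine mem_normalizer_of_map_le ?_
  refine le_o2 ?_ ((o2_isPGroup L).map _) ?_
  · rintro _ ⟨x, hx, rfl⟩
    exact (mem_normalizer_iff.1 hg x).1 (o2_le L hx)
  · intro l hl
    refine mem_normalizer_of_map_le ?_
    rintro _ ⟨_, ⟨x, hx, rfl⟩, rfl⟩
    have h1 : g⁻¹ * l * g ∈ L := by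
      have := (mem_normalizer_iff.1 (inv_mem hg) l).1 hl
      rwa [inv_inv] at this
    refine ⟨g⁻¹ * l * g * x * (g⁻¹ * l * g)⁻¹, (mem_normalizer_iff.1 (le_normalizer_o2 L h1) x).1 hx, ?_⟩
    change g * (g⁻¹ * l * g * x * (g⁻¹ * l * g)⁻¹) * g⁻¹ = l * (g * x * g⁻¹) * l⁻¹
    group

theorem norm_cent {U : Subgroup G} {g : G} (hg : g ∈ normalizer (U : Set G)) :
    g ∈ normalizer (centralizer (U : Set G) : Set G) := by
  refine mem_normalizer_of_map_le ?_
  rintro _ ⟨c, hc, rfl⟩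
  refine mem_centralizer_iff.2 fun u hu => ?_
  have h1 : g⁻¹ * u * g ∈ U := by
    have := (mem_normalizer_iff.1 (inv_mem hg) u).1 hu
    rwa [inv_inv] at this
  have h2 := mem_centralizer_iff.1 hc _ h1
  change u * (g * c * g⁻¹) = g * c * g⁻¹ * u
  calc u * (g * c * g⁻¹) = g * (g⁻¹ * u * g * c) * g⁻¹ := by group
    _ = g * (c * (g⁻¹ * u * g)) * g⁻¹ := by rw [h2]
    _ = g * c * g⁻¹ * u := by group

/-- `O₂(C_G(V)) ∩ C(U_ij) ≤ O₂(C_G(U_ij))` -/
theorem le_o2_cent {A : Subgroup G} {U : Subgroup G} (hV : V ≤ U) (hA : A ≤ o2 (centralizer (V : Set G)))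
    (hf : A ≤ centralizer (U : Set G)) : A ≤ o2 (centralizer (U : Set G)) := by
  have h1 : o2 (centralizer (V : Set G)) ⊓ centralizer (U : Set G) ≤ o2 (centralizer (U : Set G)) := by
    refine le_o2 inf_le_right ((o2_isPGroup _).to_le inf_le_left) ?_
    intro g hg
    have h2 : g ∈ normalizer (o2 (centralizer (V : Set G)) : Set G) := le_normalizer_o2 _ (centralizer_le hV hg)
    have h3 : g ∈ normalizer (centralizer (U : Set G) : Set G) := le_normalizer hg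
    rw [mem_normalizer_iff]
    intro x
    rw [mem_inf, mem_inf, mem_normalizer_iff.1 h2 x, mem_normalizer_iff.1 h3 x]
  exact (le_inf hA hf).trans h1

/-- **THEOREM R1, step (2)** -/
theorem Ln.two (h : Ln V ε W) (hML : ML.Final.MLK.{u, u}) (hA : A ≤ o2 (centralizer (V : Set G))) (hB : Best W A)
    {i j k : Fin n} (hi : i ≠ 0) (hj : j ≠ 0) (hk : k ≠ 0) (hij : i ≠ j) (hik : i ≠ k) (hjk : j ≠ k)
    (hf : A ≤ centralizer (UG V ε {i, j} : Set G)) (hm : ¬ A ≤ centralizer (UG V ε {i, k} : Set G)) :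
    Goo V ε W A {i, j, k} ∧ W ≤ UG V ε {i, j, k} ⊔ (W ⊓ centralizer (A : Set G)) ∧
      A ⊓ centralizer (UG V ε {i, j, k} : Set G) ≤ centralizer (W : Set G) := by
  set Γ : Finset (Fin n) := {i, j, k} with hΓ
  have h0 : (0 : Fin n) ∉ Γ := by
    rw [hΓ]
    simp only [Finset.mem_insert, Finset.mem_singleton, not_or]
    exact ⟨hi.symm, hj.symm, hk.symm⟩
  have hcard : Γ.card = 3 := Finset.card_eq_three.2 ⟨i, j, k, hij, hik, hjk, rfl⟩
  have hkΓ : k ∈ Γ := by rw [hΓ]; simp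
  have hUW : UG V ε Γ ≤ W := h.UG_le h0
  have hVU : V ≤ UG V ε Γ := le_Cl _ _
  have hYU : YG ε Γ ≤ normalizer (UG V ε Γ : Set G) := le_normalizer_Cl _ _
  have hGV : VG ε Γ ≤ V := VG_le h.ev Γ
  have hAV : A ≤ centralizer (V : Set G) := hA.trans (o2_le _)
  have hAY : A ≤ YG ε Γ := hAV.trans (centralizer_le_YG h.ev Γ)
  obtain ⟨T, hT1, hT2, hT3, hT4, hT5⟩ := h.exists_syl h0 (by rw [hcard]; decide) hkΓ
  have hQV : o2 (centralizer (UG V ε {i, j} : Set G)) ≤ centralizer (V : Set G) :=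
    (o2_le _).trans (centralizer_le (le_Cl _ _))
  have hsq : ∀ x ∈ UG V ε Γ, x * x = 1 := fun x hx => h.Ws x (hUW hx)
  have D : ML.Final.GDat (YG ε Γ) (UG V ε Γ) (VG ε Γ) T (o2 (centralizer (UG V ε {i, j} : Set G))) A (zz ε k) := by
    refine
      { nW := hYU
        nY := ?_
        YW := hGV.trans hVU
        WY := ?_
        sq := ?_
        mem := hVU (h.ev.mem _)
        gen := ?_
        TC := hT1
        two := hT3
        odd := hT4
        fixT := ?_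
        QC := hQV.trans (centralizer_le_YG h.ev Γ)
        Q2 := o2_isPGroup _
        fixQ := ?_
        nrmQ := ?_
        AQ := le_o2_cent (le_Cl _ _) hA hf
        Asq := ?_ }
    · exact centralizer_le_normalizer _
    · intro u hu
      refine centralizer_le_normalizer _ (mem_centralizer_iff.2 fun v hv => ?_)
      exact h.Wc v (h.VW (hGV hv)) u (hUW hu)
    · intro x hx
      rw [hsq x hx]
      exact one_mem _
    · intro S hS1 hS2 hS3
      refine Cl_le ?_ hS3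
      obtain ⟨g, hg, hσ⟩ := h.ev.full (Equiv.swap k i)
      have hgY : g ∈ YG ε Γ := by
        refine mem_YG_of_acts h.ev hσ fun m hm => ?_
        refine Equiv.swap_apply_of_ne_of_ne ?_ ?_
        · rintro rfl
          exact hm hkΓ
        · rintro rfl
          exact hm (by rw [hΓ]; simp)
      refine V_le_of h.ev hij hik hjk ?_ hS1 hS2
      have h7 := hσ.single k
      rw [Equiv.swap_apply_left] at h7
      change ε (Pi.single i 1) ∈ S
      rw [← h7]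
      exact (mem_normalizer_iff.1 (hS3 hgY) _).1 hS1
    · intro t ht
      rw [hT5 t ht, mul_inv_cancel]
      exact one_mem _
    · intro q hq
      have h1 := mem_centralizer_iff.1 (hQV hq) _ (h.ev.mem (Pi.single k 1))
      change q * ε (Pi.single k 1) * q⁻¹ * (ε (Pi.single k 1))⁻¹ ∈ _
      rw [← h1, mul_inv_cancel_right, mul_inv_cancel]
      exact one_mem _
    · intro g hg hgz q hq
      have h1 : g * zz ε k * g⁻¹ ∈ V := by
        have h2 := mul_mem (hGV hgz) (h.ev.mem (Pi.single k 1))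
        have h3 : g * zz ε k * g⁻¹ * (zz ε k)⁻¹ * zz ε k = g * zz ε k * g⁻¹ := inv_mul_cancel_right _ _
        rw [← h3]
        exact h2
      obtain ⟨m, hm⟩ := h.fus k g h1
      have h4 : m = k := by
        refine eq_of_mem_VG h.ev hcard.ge hkΓ ?_
        rw [← hm]
        have h5 : (zz ε k)⁻¹ = zz ε k := h.ev.inv _
        rw [h5] at hgz
        exact hgz
      rw [h4] at hm
      have h5 : g ∈ YG ε {i, j} := mem_YG_pair h.ev hij hik hjk hg hm
      have h6 : g ∈ normalizer (UG V ε {i, j} : Set G) := le_normalizer_Cl _ _ h5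
      have h7 : g ∈ normalizer (o2 (centralizer (UG V ε {i, j} : Set G)) : Set G) := norm_o2 (norm_cent h6)
      exact (mem_normalizer_iff.1 h7 q).1 hq
    · intro a ha x hx
      have h1 := mem_centralizer_iff.1 (hB.el.sq a ha) x (hUW hx)
      have h2 : a * (a * x * a⁻¹) * a⁻¹ * x⁻¹ = a ^ 2 * x * (a ^ 2)⁻¹ * x⁻¹ := by
        rw [pow_two]
        group
      rw [h2, ← h1, mul_inv_cancel_right, mul_inv_cancel]
      exact one_mem _
  set B : Subgroup G := A ⊓ centralizer (UG V ε Γ : Set G) with hBdef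
  have hBA : B ≤ A := inf_le_left
  have hWc : ∀ a ∈ UG V ε Γ, ∀ b ∈ UG V ε Γ, a * b = b * a := fun a ha b hb => h.Wc a (hUW ha) b (hUW hb)
  -- `|A : C_A(U)| ≤ |U : C_U(A)|`
  have key : B.relIndex A ≤ (centralizer (A : Set G)).relIndex (UG V ε Γ) := by
    obtain ⟨CW, hCW⟩ := exists_cm hWc (hGV.trans hVU) A
    have h1 : B.relIndex A ≤ CW.relIndex (UG V ε Γ) := by
      refine hML.grp (h.kY h0) D ?_ hCW
      intro a
      constructor
      · rintro ⟨ha, ha2⟩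
        refine ⟨ha, fun x hx => ?_⟩
        rw [← mem_centralizer_iff.1 ha2 x hx, mul_inv_cancel_right, mul_inv_cancel]
        exact one_mem _
      · rintro ⟨ha, ha2⟩
        exact ⟨ha, h.cent_UG hcard.ge (hAY ha) ha2⟩
    refine h1.trans ?_
    rw [← inf_relIndex_right (centralizer (A : Set G))]
    refine relIndex_le_of_le_left ?_ index_ne_zero_of_finite
    rintro x ⟨hx1, hx2⟩
    refine (hCW x).2 ⟨hx2, fun a ha => ?_⟩
    rw [mem_centralizer_iff.1 hx1 a ha, mul_inv_cancel_right, mul_inv_cancel]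
    exact one_mem _
  have hUB : UG V ε Γ ≤ W ⊓ centralizer (B : Set G) := by
    refine le_inf hUW fun u hu => mem_centralizer_iff.2 fun b hb => ?_
    exact (mem_centralizer_iff.1 hb.2 u hu).symm
  have hlt : B < A := by
    refine lt_of_le_of_ne hBA fun he => hm ?_
    have h1 : A ≤ centralizer (UG V ε Γ : Set G) := by
      rw [← he]
      exact inf_le_right
    refine h1.trans (centralizer_le (UG_mono V ε ?_))
    rw [hΓ]
    intro c hc
    simp only [Finset.mem_insert, Finset.mem_singleton] at hc ⊢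
    (clear * - hc; tauto)
  have hWB : A ⊓ centralizer (W : Set G) ≤ B := inf_le_inf_left _ (centralizer_le hUW)
  have heq : A ⊓ centralizer (W : Set G) = B := by
    rcases hWB.eq_or_lt with h1 | h1
    · exact h1
    · exfalso
      have h2 := hB.min B h1 hlt
      have h3 := relIndex_le_of_le_right (H := centralizer (A : Set G)) hUB index_ne_zero_of_finite
      omega
  have h3 : A ⊓ centralizer (UG V ε Γ : Set G) ≤ centralizer (W : Set G) := by
    rw [← hBdef, ← heq]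
    exact inf_le_right
  have h4 : W ≤ UG V ε Γ ⊔ (W ⊓ centralizer (A : Set G)) := by
    set S := W ⊓ centralizer (A : Set G) with hS
    have e1 : S.relIndex W = (centralizer (A : Set G)).relIndex W := by
      rw [hS, inf_comm, inf_relIndex_right]
    have e2 : S.relIndex (UG V ε Γ) = (centralizer (A : Set G)).relIndex (UG V ε Γ) := by
      rw [← inf_relIndex_right S, ← inf_relIndex_right (centralizer (A : Set G)), hS]
      congr 1
      rw [inf_assoc, inf_comm, inf_assoc, inf_eq_left.2 hUW]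
    have e3 : (centralizer (W : Set G)).relIndex A = B.relIndex A := by
      rw [← heq, inf_comm, inf_relIndex_right]
    have e4 := hB.off
    have e5 : S.relIndex (UG V ε Γ) ≤ S.relIndex (UG V ε Γ ⊔ S) :=
      relIndex_le_of_le_right le_sup_left index_ne_zero_of_finite
    have e6 : S.relIndex (UG V ε Γ ⊔ S) * (UG V ε Γ ⊔ S).relIndex W = S.relIndex W :=
      relIndex_mul_relIndex _ _ _ le_sup_right (sup_le hUW inf_le_left)
    have e7 : 0 < S.relIndex (UG V ε Γ ⊔ S) := Nat.pos_of_ne_zero index_ne_zero_of_finite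
    have e8 : (UG V ε Γ ⊔ S).relIndex W ≤ 1 := by
      by_contra hcon
      have h5 : S.relIndex (UG V ε Γ ⊔ S) * 2 ≤ S.relIndex (UG V ε Γ ⊔ S) * (UG V ε Γ ⊔ S).relIndex W :=
        Nat.mul_le_mul_left _ (by omega)
      omega
    have e9 : (UG V ε Γ ⊔ S).relIndex W ≠ 0 := index_ne_zero_of_finite
    exact relIndex_eq_one.1 (by omega)
  refine ⟨?_, h4, h3⟩
  obtain ⟨C, hC⟩ := exists_cm h.Wc hUW A
  intro a ha w hw
  have h5 : UG V ε Γ ⊔ (W ⊓ centralizer (A : Set G)) ≤ C := by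
    refine sup_le ?_ ?_
    · intro u hu
      refine (hC u).2 ⟨hUW hu, fun b hb => ?_⟩
      exact mul_mem ((mem_normalizer_iff.1 (hYU (hAY hb)) u).1 hu) (inv_mem hu)
    · rintro u ⟨hu, hu2⟩
      refine (hC u).2 ⟨hu, fun b hb => ?_⟩
      rw [mem_centralizer_iff.1 hu2 b hb, mul_inv_cancel_right, mul_inv_cancel]
      exact one_mem _
  exact ((hC w).1 (h5 (h4 hw))).2 a ha

end main

end Cfsg.Agent.Omega.NO3S.SN.R1

end

section


/-!
# THEOREM R2 (helper695 #24008): (ML) on `W_ij / V_ij`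

`U = W_ij = ⟨V^{X_ij}⟩`, `X_ij = C_G(V_ij)`, `A ≤ O₂(C_G(V))` with `A² ≤ C(U)`.  If an element of `A` which centralises
`U / V_ij` centralises `U`, then `|A : C_A(U)| ≤ |U : C_U(A)|` (`pair_ml`).
-/

set_option autoImplicit false
set_option linter.unusedSectionVars false

namespace Cfsg.Agent.Omega.NO3S.SN.RTwo

open Subgroup Cfsg Cfsg.Agent.ZN Cfsg.Agent.Omega.S5.Def
open Cfsg.Agent.Omega.NO3S.SN.R1
open Cfsg.Agent.MinSimple.VModule

universe u

variable {G : Type u} [Group G]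

section labels

variable {n : ℕ} {V : Subgroup G} {L : Subgroup G} {ε : (Fin n → ZMod 2) → G}

/-- `z_i z_j ∈ V_ij` -/
theorem zz_mul_zz_mem (ev : EvenSet n V L ε) {i j : Fin n} (hij : i ≠ j) : zz ε j * (zz ε i)⁻¹ ∈ VG ε {i, j} := by
  have h1 : (zz ε i)⁻¹ = zz ε i := ev.inv _
  have h2 : zz ε j * zz ε i = ε (Pi.single j 1 + Pi.single i 1) := (ev.add _ _).symm
  rw [h1, h2, mem_VG_iff ev]
  have hv : ∀ c, (c = i ∨ c = j) → (Pi.single j 1 + Pi.single i 1 : Fin n → ZMod 2) c = 1 := by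
    rintro c (rfl | rfl)
    · rw [Pi.add_apply, Pi.single_eq_same, Pi.single_eq_of_ne hij, zero_add]
    · rw [Pi.add_apply, Pi.single_eq_same, Pi.single_eq_of_ne hij.symm, add_zero]
  intro a ha b hb
  simp only [Finset.mem_insert, Finset.mem_singleton] at ha hb
  rw [hv a ha, hv b hb]

/-- `V = V_ij ⟨z_i⟩` -/
theorem mem_VG_or (ev : EvenSet n V L ε) {i j : Fin n} (hij : i ≠ j) {v : G} (hv : v ∈ V) :
    v ∈ VG ε {i, j} ∨ v * zz ε i ∈ VG ε {i, j} := by
  obtain ⟨x, rfl⟩ := ev.surj v hv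
  rcases eq_or_ne (x i) (x j) with h1 | h1
  · left
    rw [mem_VG_iff ev]
    intro a ha b hb
    simp only [Finset.mem_insert, Finset.mem_singleton] at ha hb
    rcases ha with rfl | rfl <;> rcases hb with rfl | rfl
    · rfl
    · exact h1
    · exact h1.symm
    · rfl
  · right
    have h2 : ε x * zz ε i = ε (x + Pi.single i 1) := (ev.add _ _).symm
    rw [h2, mem_VG_iff ev]
    have h3 : (x + Pi.single i 1 : Fin n → ZMod 2) i = x j := by
      rw [Pi.add_apply, Pi.single_eq_same]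
      rcases zmod2 (x i) with h4 | h4 <;> rcases zmod2 (x j) with h5 | h5
      · exact absurd (h4.trans h5.symm) h1
      · rw [h4, h5]; rfl
      · rw [h4, h5]; rfl
      · exact absurd (h4.trans h5.symm) h1
    have h4 : (x + Pi.single i 1 : Fin n → ZMod 2) j = x j := by
      rw [Pi.add_apply, Pi.single_eq_of_ne hij.symm, add_zero]
    intro a ha b hb
    simp only [Finset.mem_insert, Finset.mem_singleton] at ha hb
    rcases ha with rfl | rfl <;> rcases hb with rfl | rfl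
    · rfl
    · rw [h3, h4]
    · rw [h3, h4]
    · rfl

theorem V_le_pair (ev : EvenSet n V L ε) {i j : Fin n} (hij : i ≠ j) {S : Subgroup G} (hz : zz ε i ∈ S)
    (hS : VG ε {i, j} ≤ S) : V ≤ S := by
  intro v hv
  rcases mem_VG_or ev hij hv with h1 | h1
  · exact hS h1
  · exact (mul_mem_cancel_right hz).1 (hS h1)

/-- an element of `N(V) ∩ X_ij` fixes `z_i V_ij` -/
theorem fix_pair (ev : EvenSet n V (normalizer (V : Set G)) ε) (hn : 3 ≤ n) {i j : Fin n} (hij : i ≠ j) {t : G}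
    (ht : t ∈ YG ε {i, j}) (htV : t ∈ normalizer (V : Set G)) : t * zz ε i * t⁻¹ * (zz ε i)⁻¹ ∈ VG ε {i, j} := by
  obtain ⟨σ, hσ⟩ := ev.perm t htV
  have h1 : t * zz ε i * t⁻¹ = zz ε (σ i) := hσ.single i
  rw [h1]
  have h2 : σ i = i ∨ σ i = j := by
    by_contra hcon
    push Not at hcon
    have h3 : σ i ∉ ({i, j} : Finset (Fin n)) := by
      simp only [Finset.mem_insert, Finset.mem_singleton, not_or]
      exact hcon
    have h4 := acts_fix ev hn hσ ht h3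
    exact hcon.1 (σ.injective h4)
  rcases h2 with h2 | h2
  · rw [h2, mul_inv_cancel]
    exact one_mem _
  · rw [h2]
    exact zz_mul_zz_mem ev hij

/-- an element of `X_ij` which fixes `z_i V_ij` normalises `V` -/
theorem mem_normalizer_pair (ev : EvenSet n V L ε) {i j : Fin n} (hij : i ≠ j) {g : G} (hg : g ∈ YG ε {i, j})
    (hz : g * zz ε i * g⁻¹ * (zz ε i)⁻¹ ∈ VG ε {i, j}) [Finite G] : g ∈ normalizer (V : Set G) := by
  refine mem_normalizer_of_map_le ?_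
  have h0 : ∀ v ∈ VG ε {i, j}, g * v * g⁻¹ = v := by
    intro v hv
    have h1 := mem_centralizer_iff.1 hg v hv
    rw [← h1, mul_inv_cancel_right]
  have h1 : g * zz ε i * g⁻¹ ∈ V := by
    have h2 := mul_mem (VG_le ev _ hz) (ev.mem (Pi.single i 1))
    change g * zz ε i * g⁻¹ * (zz ε i)⁻¹ * zz ε i ∈ V at h2
    rwa [inv_mul_cancel_right] at h2
  rintro _ ⟨v, hv, rfl⟩
  change g * v * g⁻¹ ∈ V
  rcases mem_VG_or ev hij hv with h2 | h2
  · rw [h0 v h2]; exact hv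
  · have h3 := h0 _ h2
    have h4 : g * (v * zz ε i) * g⁻¹ = g * v * g⁻¹ * (g * zz ε i * g⁻¹) := by group
    rw [h4] at h3
    exact (mul_mem_cancel_right h1).1 (h3 ▸ VG_le ev _ h2)

end labels

section ml

variable [Finite G] {n : ℕ} {V A : Subgroup G} {ε : (Fin n → ZMod 2) → G}

/-- **(ML) on `W_ij / V_ij`** -/
theorem pair_ml (hML : ML.Final.MLK.{u, u}) (ev : EvenSet n V (normalizer (V : Set G)) ε) (hn : 3 ≤ n) {i j : Fin n}
    (hij : i ≠ j) (hK : IsKGroup (YG ε {i, j})) (hc : ∀ a ∈ UG V ε {i, j}, ∀ b ∈ UG V ε {i, j}, a * b = b * a)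
    (hs : ∀ a ∈ UG V ε {i, j}, a * a = 1)
    (hsyl : ∃ T : Subgroup G, T ≤ YG ε {i, j} ∧ T ≤ normalizer (V : Set G) ∧ IsPGroup 2 T ∧
      ¬ 2 ∣ T.relIndex (YG ε {i, j}))
    (hA : A ≤ o2 (centralizer (V : Set G))) (hsq : ∀ a ∈ A, a ^ 2 ∈ centralizer (UG V ε {i, j} : Set G))
    (hfix : ∀ a ∈ A, (∀ x ∈ UG V ε {i, j}, a * x * a⁻¹ * x⁻¹ ∈ VG ε {i, j}) →
      a ∈ centralizer (UG V ε {i, j} : Set G)) :
    (centralizer (UG V ε {i, j} : Set G)).relIndex A ≤ (centralizer (A : Set G)).relIndex (UG V ε {i, j}) := by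
  set Γ : Finset (Fin n) := {i, j} with hΓ
  have hVU : V ≤ UG V ε Γ := le_Cl _ _
  have hYU : YG ε Γ ≤ normalizer (UG V ε Γ : Set G) := le_normalizer_Cl _ _
  have hGV : VG ε Γ ≤ V := VG_le ev Γ
  have hAV : A ≤ centralizer (V : Set G) := hA.trans (o2_le _)
  have hAY : A ≤ YG ε Γ := hAV.trans (centralizer_le_YG ev Γ)
  obtain ⟨T, hT1, hT2, hT3, hT4⟩ := hsyl
  have D : ML.Final.GDat (YG ε Γ) (UG V ε Γ) (VG ε Γ) T (o2 (centralizer (V : Set G))) A (zz ε i) := by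
    refine
      { nW := hYU
        nY := centralizer_le_normalizer _
        YW := hGV.trans hVU
        WY := ?_
        sq := ?_
        mem := hVU (ev.mem _)
        gen := ?_
        TC := hT1
        two := hT3
        odd := hT4
        fixT := fun t ht => fix_pair ev hn hij (hT1 ht) (hT2 ht)
        QC := (o2_le _).trans (centralizer_le_YG ev Γ)
        Q2 := o2_isPGroup _
        fixQ := ?_
        nrmQ := ?_
        AQ := hA
        Asq := ?_ }
    · intro u hu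
      refine centralizer_le_normalizer _ (mem_centralizer_iff.2 fun v hv => ?_)
      exact hc v (hVU (hGV hv)) u hu
    · intro x hx
      rw [hs x hx]
      exact one_mem _
    · intro S hS1 hS2 hS3
      exact Cl_le (V_le_pair ev hij hS1 hS2) hS3
    · intro q hq
      have h1 := mem_centralizer_iff.1 (o2_le _ hq) _ (ev.mem (Pi.single i 1))
      change q * ε (Pi.single i 1) * q⁻¹ * (ε (Pi.single i 1))⁻¹ ∈ _
      rw [← h1, mul_inv_cancel_right, mul_inv_cancel]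
      exact one_mem _
    · intro g hg hgz q hq
      have h1 := mem_normalizer_pair ev hij hg hgz
      exact (mem_normalizer_iff.1 (norm_o2 (norm_cent h1)) q).1 hq
    · intro a ha x hx
      have h1 := mem_centralizer_iff.1 (hsq a ha) x hx
      have h2 : a * (a * x * a⁻¹) * a⁻¹ * x⁻¹ = a ^ 2 * x * (a ^ 2)⁻¹ * x⁻¹ := by
        rw [pow_two]
        group
      rw [h2, ← h1, mul_inv_cancel_right, mul_inv_cancel]
      exact one_mem _
  obtain ⟨CW, hCW⟩ := exists_cm hc (hGV.trans hVU) A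
  have h1 : (A ⊓ centralizer (UG V ε Γ : Set G)).relIndex A ≤ CW.relIndex (UG V ε Γ) := by
    refine hML.grp hK D ?_ hCW
    intro a
    constructor
    · rintro ⟨ha, ha2⟩
      refine ⟨ha, fun x hx => ?_⟩
      rw [← mem_centralizer_iff.1 ha2 x hx, mul_inv_cancel_right, mul_inv_cancel]
      exact one_mem _
    · rintro ⟨ha, ha2⟩
      exact ⟨ha, hfix a ha ha2⟩
  have e0 : (A ⊓ centralizer (UG V ε Γ : Set G)).relIndex A = (centralizer (UG V ε Γ : Set G)).relIndex A := by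
    rw [inf_comm, inf_relIndex_right]
  rw [e0] at h1
  refine h1.trans ?_
  rw [← inf_relIndex_right (centralizer (A : Set G))]
  refine relIndex_le_of_le_left ?_ index_ne_zero_of_finite
  rintro x ⟨hx1, hx2⟩
  refine (hCW x).2 ⟨hx2, fun a ha => ?_⟩
  rw [mem_centralizer_iff.1 hx1 a ha, mul_inv_cancel_right, mul_inv_cancel]
  exact one_mem _

end ml

section count

variable [Finite G] {K W U A : Subgroup G}

theorem card_mul_rel {B A : Subgroup G} (h : B ≤ A) : Nat.card B * B.relIndex A = Nat.card A := by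
  rw [← relIndex_bot_left (H := B), ← relIndex_bot_left (H := A)]
  exact relIndex_mul_relIndex _ _ _ bot_le h

/-- `f(B) = |B| |C_W(B)|`; `A` minimal with `f(A) = f(K)`, `K ≤ C(W)`, exact on `U`, moves `U`: then `C_A(U) = K` and
`W = U C_W(A)`. -/
theorem exact_of (hUW : U ≤ W) (hKA : K ≤ A) (hKW : K ≤ centralizer (W : Set G))
    (hmin : ∀ B : Subgroup G, K < B → B < A → Nat.card B * Nat.card ↥(W ⊓ centralizer (B : Set G)) <
      Nat.card A * Nat.card ↥(W ⊓ centralizer (A : Set G)))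
    (hf : Nat.card A * Nat.card ↥(W ⊓ centralizer (A : Set G)) = Nat.card K * Nat.card W)
    (hne : ¬ A ≤ centralizer (U : Set G))
    (hind : (centralizer (U : Set G)).relIndex A ≤ (centralizer (A : Set G)).relIndex U) :
    A ⊓ centralizer (U : Set G) = K ∧ W ≤ U ⊔ (W ⊓ centralizer (A : Set G)) := by
  set B : Subgroup G := A ⊓ centralizer (U : Set G) with hB
  set S : Subgroup G := W ⊓ centralizer (A : Set G) with hS
  have hBA : B ≤ A := inf_le_left
  have hlt : B < A := lt_of_le_of_ne hBA fun he => hne (by rw [← he]; exact inf_le_right)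
  have hKB : K ≤ B := le_inf hKA (hKW.trans (centralizer_le hUW))
  have e1 : B.relIndex A = (centralizer (U : Set G)).relIndex A := by rw [hB, inf_comm, inf_relIndex_right]
  have e2 : S.relIndex U = (centralizer (A : Set G)).relIndex U := by
    rw [← inf_relIndex_right S, ← inf_relIndex_right (centralizer (A : Set G)), hS]
    congr 1
    rw [inf_assoc, inf_comm, inf_assoc, inf_eq_left.2 hUW]
  rw [← e1, ← e2] at hind
  have e3 : S.relIndex U ≤ S.relIndex (U ⊔ S) := relIndex_le_of_le_right le_sup_left index_ne_zero_of_finite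
  have e4 : Nat.card S * S.relIndex (U ⊔ S) = Nat.card ↥(U ⊔ S) := card_mul_rel le_sup_right
  have e5 : Nat.card B * B.relIndex A = Nat.card A := card_mul_rel hBA
  have hSB : U ⊔ S ≤ W ⊓ centralizer (B : Set G) := by
    refine sup_le (le_inf hUW fun u hu => mem_centralizer_iff.2 fun b hb => ?_)
      (inf_le_inf_left _ (centralizer_le hBA))
    exact (mem_centralizer_iff.1 hb.2 u hu).symm
  have e6 : Nat.card ↥(U ⊔ S) ≤ Nat.card ↥(W ⊓ centralizer (B : Set G)) := card_le_of_le hSB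
  have e7 : Nat.card S * B.relIndex A ≤ Nat.card ↥(U ⊔ S) := by
    rw [← e4]
    exact Nat.mul_le_mul_left _ (hind.trans e3)
  have hBK : B = K := by
    by_contra hcon
    have h1 := hmin B (lt_of_le_of_ne hKB (Ne.symm hcon)) hlt
    have h2 : Nat.card A * Nat.card S ≤ Nat.card B * Nat.card ↥(W ⊓ centralizer (B : Set G)) := by
      rw [← e5, mul_assoc]
      refine Nat.mul_le_mul_left _ ?_
      rw [mul_comm]
      exact e7.trans e6
    omega
  refine ⟨hBK, ?_⟩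
  rw [hBK] at e5 e7
  have h3 : Nat.card K * (Nat.card S * K.relIndex A) = Nat.card K * Nat.card W := by
    rw [← hf, ← e5]
    ring
  have h4 : Nat.card S * K.relIndex A = Nat.card W := Nat.eq_of_mul_eq_mul_left Nat.card_pos h3
  have h5 : U ⊔ S ≤ W := sup_le hUW inf_le_left
  have h6 : U ⊔ S = W := eq_of_le_of_card_ge h5 (by rw [← h4]; exact e7)
  exact h6.ge

end count

end Cfsg.Agent.Omega.NO3S.SN.RTwo

end

section


/-!
# THEOREM R2 (helper695 #24008), (4) and (5)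

`V` is the line `l` of the text, `E ≤ O₂(C(V))` an atom which moves `W_ij(V)`.

* `AA V W ε k` : the join of the atoms in `QQ_k(V)`;
* `NrmS W` : (1), the normaliser trick; `EndS V W ε` : (3), the end (hypotheses here);
* `Fr.end_of` : `[W, E]` is centralised by all atoms of `QQ_k(s)`, `s ∈ V^{X_ij}`, (H0) at the pair `ij`: contradiction;
* `Fr.four` : (4) CASE 2; `Fr.five` : (5) CASE 1a.
-/

set_option autoImplicit false
set_option linter.unusedSectionVars false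

namespace Cfsg.Agent.Omega.NO3S.SN.RTwo

open Subgroup Cfsg Cfsg.Agent.ZN Cfsg.Agent.Omega.S5.Def
open Cfsg.Agent.Omega.NO3S.SN.R1
open Cfsg.Agent.Omega.FFThm (ElemM)
open Cfsg.Agent.MinSimple.VModule
open scoped Pointwise

universe u

variable {G : Type u} [Group G] {n : ℕ}

/-- the join of the atoms in `QQ_k(V)` -/
def AA (V W : Subgroup G) (ε : (Fin n → ZMod 2) → G) (k : Fin n) : Subgroup G :=
  sSup {A | At W A ∧ A ≤ QQ V W ε k}

/-- **(1)**, the normaliser trick -/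
def NrmS (W : Subgroup G) : Prop :=
  ∀ (A P : Subgroup G) (e : G), At W A → NOv W P → A ≤ P → MulAut.conj e • A ≤ P → e ∈ normalizer (W : Set G) →
    (∀ w ∈ W, e * w * e⁻¹ * w⁻¹ ∈ centralizer (A : Set G)) → MulAut.conj e • A = A

/-- **(3)**, the end -/
def EndS [NeZero n] (V W : Subgroup G) (ε : (Fin n → ZMod 2) → G) : Prop :=
  ∀ (E : Subgroup G) (i j : Fin n), At W E → E ≤ OV V W → i ≠ 0 → j ≠ 0 → i ≠ j →
    ¬ E ≤ centralizer (WI V ε i j : Set G) →
    (∀ x ∈ YG ε {i, j}, ∀ k : Fin n, k ≠ 0 → ∀ e ∈ E,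
      e ∈ normalizer (AA (MulAut.conj x • V) W (cε x ε) k : Set G)) → False

/-! ### Tools -/

theorem exists_mul_sup {A B : Subgroup G} (hn : B ≤ normalizer (A : Set G)) {x : G} (hx : x ∈ A ⊔ B) :
    ∃ a ∈ A, ∃ b ∈ B, x = a * b := by
  rw [sup_eq_closure] at hx
  refine closure_induction (p := fun x _ => ∃ a ∈ A, ∃ b ∈ B, x = a * b) ?_ ?_ ?_ ?_ hx
  · rintro y (hy | hy)
    · exact ⟨y, hy, 1, one_mem _, (mul_one y).symm⟩
    · exact ⟨1, one_mem _, y, hy, (one_mul y).symm⟩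
  · exact ⟨1, one_mem _, 1, one_mem _, (one_mul 1).symm⟩
  · rintro _ _ _ _ ⟨a, ha, b, hb, rfl⟩ ⟨a', ha', b', hb', rfl⟩
    refine ⟨a * (b * a' * b⁻¹), mul_mem ha ((mem_normalizer_iff.1 (hn hb) a').1 ha'), b * b', mul_mem hb hb', ?_⟩
    group
  · rintro _ _ ⟨a, ha, b, hb, rfl⟩
    refine ⟨b⁻¹ * a⁻¹ * b⁻¹⁻¹, (mem_normalizer_iff.1 (hn (inv_mem hb)) a⁻¹).1 (inv_mem ha), b⁻¹, inv_mem hb, ?_⟩
    group

theorem o2_cj_le (g : G) (L : Subgroup G) : MulAut.conj g • o2 L ≤ o2 (MulAut.conj g • L) := by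
  refine le_o2 (cj_mono (o2_le L)) ((o2_isPGroup L).map _) ?_
  rw [cj_normalizer]
  exact cj_mono (le_normalizer_o2 L)

theorem o2_cj (g : G) (L : Subgroup G) : o2 (MulAut.conj g • L) = MulAut.conj g • o2 L := by
  refine le_antisymm ?_ (o2_cj_le g L)
  have h1 := cj_mono (g := g) (o2_cj_le g⁻¹ (MulAut.conj g • L))
  rwa [cj_cj_inv, cj_inv_cj] at h1

theorem cj_sup (g : G) (A B : Subgroup G) : MulAut.conj g • (A ⊔ B) = MulAut.conj g • A ⊔ MulAut.conj g • B := by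
  apply le_antisymm
  · have h1 : A ⊔ B ≤ MulAut.conj g⁻¹ • (MulAut.conj g • A ⊔ MulAut.conj g • B) := by
      refine sup_le ?_ ?_
      · have h2 := cj_mono (g := g⁻¹) (le_sup_left : MulAut.conj g • A ≤ MulAut.conj g • A ⊔ MulAut.conj g • B)
        rwa [cj_inv_cj] at h2
      · have h2 := cj_mono (g := g⁻¹) (le_sup_right : MulAut.conj g • B ≤ MulAut.conj g • A ⊔ MulAut.conj g • B)
        rwa [cj_inv_cj] at h2
    have h3 := cj_mono (g := g) h1
    rwa [cj_cj_inv] at h3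
  · exact sup_le (cj_mono le_sup_left) (cj_mono le_sup_right)

theorem cj_QQ (g : G) (V W : Subgroup G) (ε : (Fin n → ZMod 2) → G) (k : Fin n) :
    QQ (MulAut.conj g • V) (MulAut.conj g • W) (cε g ε) k = MulAut.conj g • QQ V W ε k := by
  rw [QQ, QQ, cj_PM, o2_cj, cj_centralizer', cj_sup]

theorem cj_PP (g : G) (V W : Subgroup G) (ε : (Fin n → ZMod 2) → G) (i j : Fin n) :
    PP (MulAut.conj g • V) (MulAut.conj g • W) (cε g ε) i j = MulAut.conj g • PP V W ε i j := by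
  rw [PP, PP, cj_WI, cj_centralizer', o2_cj, cj_centralizer', cj_sup]

theorem relIndex_le_of_mul [Finite G] {H A B : Subgroup G} (hAB : A ≤ B) (h : ∀ b ∈ B, ∃ a ∈ A, ∃ c ∈ H, b = a * c) :
    H.relIndex B ≤ H.relIndex A := by
  refine Nat.card_le_card_of_surjective (quotientSubgroupOfEmbeddingOfLE H hAB) ?_
  intro q
  obtain ⟨b, rfl⟩ := QuotientGroup.mk_surjective q
  obtain ⟨a, ha, c, hc, he⟩ := h b.1 b.2
  refine ⟨QuotientGroup.mk ⟨a, ha⟩, ?_⟩
  rw [quotientSubgroupOfEmbeddingOfLE_apply_mk, QuotientGroup.eq, mem_subgroupOf]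
  change a⁻¹ * b.1 ∈ H
  rw [he, inv_mul_cancel_left]
  exact hc

/-- `W_ij(s) = W_ij(V)` for `s ∈ V^{X_ij}` -/
theorem WI_eq {V : Subgroup G} {ε : (Fin n → ZMod 2) → G} {i j : Fin n} {x : G} (hx : x ∈ YG ε {i, j}) :
    WI (MulAut.conj x • V) (cε x ε) i j = WI V ε i j := by
  have h : x ∈ normalizer (WI V ε i j : Set G) := le_normalizer_Cl V _ hx
  rw [cj_WI, cj_eq_of_mem h]

/-- `U_Γ(s) = U_Γ(V)` for `s ∈ V^{X_ij}`, `i, j ∈ Γ` -/
theorem PU_eq {V : Subgroup G} {ε : (Fin n → ZMod 2) → G} {Γ : Finset (Fin n)} {i j : Fin n} (hi : i ∈ Γ)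
    (hj : j ∈ Γ) (hij : i ≠ j) {x : G} (hx : x ∈ YG ε {i, j}) :
    PU (MulAut.conj x • V) (cε x ε) Γ = PU V ε Γ := by
  have h1 : x ∈ PY V ε Γ := _root_.Subgroup.subset_closure (Or.inr ⟨i, hi, j, hj, hij, hx⟩)
  have h2 : x ∈ normalizer (PU V ε Γ : Set G) := le_normalizer_Cl V _ h1
  rw [cj_PU, cj_eq_of_mem h2]

variable [Finite G] [NeZero n] {V W E : Subgroup G} {ε : (Fin n → ZMod 2) → G}

namespace Fr

theorem n3 (h : Fr V W ε) : 3 ≤ n := by have := h.n5; omega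

theorem CV_le_PM (h : Fr V W ε) (k : Fin n) : centralizer (V : Set G) ≤ PM V ε k := by
  intro g hg
  refine _root_.Subgroup.subset_closure (Or.inl ⟨centralizer_le_normalizer _ hg, ?_⟩)
  have h1 := mem_centralizer_iff.1 hg _ (h.ev.mem (Pi.single k 1))
  change g * ε (Pi.single k 1) * g⁻¹ = ε (Pi.single k 1)
  rw [← h1, mul_inv_cancel_right]

theorem YG_le_PM (ε : (Fin n → ZMod 2) → G) (V : Subgroup G) {i j k : Fin n} (hi : i ≠ k) (hj : j ≠ k)
    (hij : i ≠ j) : YG ε {i, j} ≤ PM V ε k := fun _ hg => _root_.Subgroup.subset_closure (Or.inr ⟨i, j, hi, hj, hij, hg⟩)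

theorem VW (h : Fr V W ε) : V ≤ W := by
  rw [h.Weq]
  exact le_Cl _ _

theorem PM_norm (h : Fr V W ε) : PM V ε 0 ≤ normalizer (W : Set G) := by
  rw [h.Weq]
  exact le_normalizer_Cl _ _

theorem WI_le (h : Fr V W ε) {i j : Fin n} (hi : i ≠ 0) (hj : j ≠ 0) (hij : i ≠ j) : WI V ε i j ≤ W :=
  Cl_le h.VW ((YG_le_PM ε V hi hj hij).trans h.PM_norm)

theorem OV_le (h : Fr V W ε) : OV V W ≤ centralizer (V : Set G) :=
  sup_le (o2_le _) (centralizer_le h.VW)

theorem YG_norm (h : Fr V W ε) {i j : Fin n} (hi : i ≠ 0) (hj : j ≠ 0) (hij : i ≠ j) {x : G}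
    (hx : x ∈ YG ε {i, j}) : x ∈ normalizer (W : Set G) := h.PM_norm (YG_le_PM ε V hi hj hij hx)

theorem kX (h : Fr V W ε) {i j : Fin n} (hi : i ≠ 0) (hj : j ≠ 0) : IsKGroup (YG ε {i, j}) := by
  have h1 : YG ε {i, j} ≤ centralizer ({zz ε 0} : Set G) := by
    refine centralizer_le ?_
    rw [Set.singleton_subset_iff]
    refine (mem_VG_iff h.ev).2 (cst_single ?_)
    simp only [Finset.mem_insert, Finset.mem_singleton, not_or]
    exact ⟨hi.symm, hj.symm⟩
  exact ML.Final.kgroup_of_surj h.kg ((YG ε {i, j}).subgroupOf _) (subgroupOfEquivOfLe h1).toMonoidHom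
    (subgroupOfEquivOfLe h1).surjective

/-- `QQ_k ∩ C(W_ij) ≤ P_ij` -/
theorem QQ_inf_le (h : Fr V W ε) {i j : Fin n} (k : Fin n) (hi : i ≠ 0) (hj : j ≠ 0) (hij : i ≠ j) :
    QQ V W ε k ⊓ centralizer (WI V ε i j : Set G) ≤ PP V W ε i j := by
  have h0 : centralizer (W : Set G) ≤ centralizer (WI V ε i j : Set G) := centralizer_le (h.WI_le hi hj hij)
  have h1 : centralizer (WI V ε i j : Set G) ≤ centralizer (V : Set G) := centralizer_le (le_Cl _ _)
  have h2 : o2 (PM V ε k) ⊓ centralizer (WI V ε i j : Set G) ≤ o2 (centralizer (WI V ε i j : Set G)) := by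
    refine le_o2 inf_le_right ((o2_isPGroup _).to_le inf_le_left) ?_
    intro g hg
    have h3 : g ∈ normalizer (o2 (PM V ε k) : Set G) := le_normalizer_o2 _ (h.CV_le_PM k (h1 hg))
    have h4 : g ∈ normalizer (centralizer (WI V ε i j : Set G) : Set G) := le_normalizer hg
    rw [mem_normalizer_iff]
    intro x
    rw [mem_inf, mem_inf, mem_normalizer_iff.1 h3 x, mem_normalizer_iff.1 h4 x]
  have hN : centralizer (W : Set G) ≤ normalizer (o2 (PM V ε k) : Set G) :=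
    ((centralizer_le h.VW).trans (h.CV_le_PM k)).trans (le_normalizer_o2 _)
  intro x hx
  obtain ⟨a, ha, b, hb, rfl⟩ := exists_mul_sup hN hx.1
  have h5 : a ∈ centralizer (WI V ε i j : Set G) := by
    have h7 : b ∈ centralizer (WI V ε i j : Set G) := h0 hb
    have h6 : a * b ∈ centralizer (WI V ε i j : Set G) := hx.2
    exact (mul_mem_cancel_right h7).1 h6
  exact mul_mem (mem_sup_left (h2 ⟨ha, h5⟩)) (mem_sup_right hb)

/-- elements of `X_ij` normalise `P_ij` -/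
theorem norm_PP (h : Fr V W ε) {i j : Fin n} (hi : i ≠ 0) (hj : j ≠ 0) (hij : i ≠ j) {x : G}
    (hx : x ∈ YG ε {i, j}) : MulAut.conj x • PP V W ε i j = PP V W ε i j := by
  rw [← cj_PP, cj_eq_of_mem (h.YG_norm hi hj hij hx), PP, WI_eq hx, PP]

/-- atoms of `QQ_k(s)` centralising `W_ij` are in `P_ij`, `s ∈ V^{X_ij}` -/
theorem le_PP (h : Fr V W ε) {i j k : Fin n} (hi : i ≠ 0) (hj : j ≠ 0) (hij : i ≠ j) {x : G}
    (hx : x ∈ YG ε {i, j}) {A : Subgroup G} (hA : A ≤ QQ (MulAut.conj x • V) W (cε x ε) k)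
    (hAc : A ≤ centralizer (WI V ε i j : Set G)) : A ≤ PP V W ε i j := by
  have hxW : MulAut.conj x • W = W := cj_eq_of_mem (h.YG_norm hi hj hij hx)
  have h1 : A ≤ MulAut.conj x • QQ V W ε k := by
    rw [← cj_QQ, hxW]
    exact hA
  have h2 : MulAut.conj x • centralizer (WI V ε i j : Set G) = centralizer (WI V ε i j : Set G) := by
    have h : x ∈ normalizer (WI V ε i j : Set G) := le_normalizer_Cl V _ hx
    rw [← cj_centralizer', cj_eq_of_mem h]
  have h3 : MulAut.conj x⁻¹ • A ≤ QQ V W ε k ⊓ centralizer (WI V ε i j : Set G) := by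
    refine le_inf ?_ ?_
    · have h4 := cj_mono (g := x⁻¹) h1
      rwa [cj_inv_cj] at h4
    · have h4 := cj_mono (g := x⁻¹) hAc
      rw [← h2, cj_inv_cj] at h4
      exact h4
  have h5 := cj_mono (g := x) (h3.trans (h.QQ_inf_le k hi hj hij))
  rw [cj_cj_inv, h.norm_PP hi hj hij hx] at h5
  exact h5

/-- `E` normalises all atoms of all `QQ_k(s)`: the end -/
theorem end_of (h : Fr V W ε) (hN : NrmS W) (hEnd : EndS V W ε) {i j : Fin n} (hi : i ≠ 0) (hj : j ≠ 0)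
    (hij : i ≠ j) (hno : NOv W (PP V W ε i j)) (hE : At W E) (hOV : E ≤ OV V W)
    (hmv : ¬ E ≤ centralizer (WI V ε i j : Set G))
    (hH0 : ∀ x ∈ YG ε {i, j}, ∀ k : Fin n, k ≠ 0 → ∀ A : Subgroup G, At W A →
      A ≤ QQ (MulAut.conj x • V) W (cε x ε) k → A ≤ centralizer (WI V ε i j : Set G))
    (hc : ∀ x ∈ YG ε {i, j}, ∀ k : Fin n, k ≠ 0 → ∀ A : Subgroup G, At W A →
      A ≤ QQ (MulAut.conj x • V) W (cε x ε) k → ∀ e ∈ E, ∀ w ∈ W, e * w * e⁻¹ * w⁻¹ ∈ centralizer (A : Set G)) :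
    False := by
  have hEY : E ≤ YG ε {i, j} := (hOV.trans h.OV_le).trans (centralizer_le_YG h.ev _)
  refine hEnd E i j hE hOV hi hj hij hmv fun x hx k hk e he => ?_
  have key : ∀ A : Subgroup G, At W A → A ≤ QQ (MulAut.conj x • V) W (cε x ε) k → MulAut.conj e • A = A := by
    intro A hA hAQ
    have h1 : A ≤ PP V W ε i j := h.le_PP hi hj hij hx hAQ (hH0 x hx k hk A hA hAQ)
    refine hN A _ e hA hno h1 ?_ (h.YG_norm hi hj hij (hEY he)) (hc x hx k hk A hA hAQ e he)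
    rw [← h.norm_PP hi hj hij (hEY he)]
    exact cj_mono h1
  refine mem_norm_of_cj (le_antisymm ?_ ?_)
  · have h3 : AA (MulAut.conj x • V) W (cε x ε) k ≤
        MulAut.conj e⁻¹ • AA (MulAut.conj x • V) W (cε x ε) k := by
      refine sSup_le fun A hA => ?_
      have h2 : MulAut.conj e⁻¹ • MulAut.conj e • A ≤ MulAut.conj e⁻¹ • AA (MulAut.conj x • V) W (cε x ε) k := by
        rw [key A hA.1 hA.2]
        exact cj_mono (le_sSup hA)
      rwa [cj_inv_cj] at h2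
    have h4 := cj_mono (g := e) h3
    rwa [cj_cj_inv] at h4
  · refine sSup_le fun A hA => ?_
    rw [← key A hA.1 hA.2]
    exact cj_mono (le_sSup hA)

/-- **(4)** -/
theorem four (h : Fr V W ε) (hN : NrmS W) (hEnd : EndS V W ε) {Γ : Finset (Fin n)} {i j : Fin n} (hiΓ : i ∈ Γ)
    (hjΓ : j ∈ Γ) (hi : i ≠ 0) (hj : j ≠ 0) (hij : i ≠ j) (hno : NOv W (PP V W ε i j)) (hE : At W E)
    (hOV : E ≤ OV V W) (hmv : ¬ E ≤ centralizer (WI V ε i j : Set G))
    (hH0 : ∀ x ∈ YG ε {i, j}, ∀ k : Fin n, k ≠ 0 → ∀ A : Subgroup G, At W A →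
      A ≤ QQ (MulAut.conj x • V) W (cε x ε) k → A ≤ centralizer (WI (MulAut.conj x • V) (cε x ε) i j : Set G))
    (hU : ∀ x ∈ YG ε {i, j}, ∀ k : Fin n, k ≠ 0 → ∀ A : Subgroup G, At W A →
      A ≤ QQ (MulAut.conj x • V) W (cε x ε) k → A ≤ centralizer (PU (MulAut.conj x • V) (cε x ε) Γ : Set G))
    (hcm : ∀ e ∈ E, ∀ w ∈ W, e * w * e⁻¹ * w⁻¹ ∈ PU V ε Γ) : False := by
  refine h.end_of hN hEnd hi hj hij hno hE hOV hmv ?_ ?_
  · intro x hx k hk A hA hAQ
    have h1 := hH0 x hx k hk A hA hAQ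
    rwa [WI_eq hx] at h1
  · intro x hx k hk A hA hAQ e he w hw
    have h1 := hU x hx k hk A hA hAQ
    rw [PU_eq hiΓ hjΓ hij hx] at h1
    refine mem_centralizer_iff.2 fun a ha => ?_
    exact (mem_centralizer_iff.1 (h1 ha) _ (hcm e he w hw)).symm

/-- **(5)** -/
theorem five (hML : ML.Final.MLK.{u, u}) (h : Fr V W ε) (hN : NrmS W) (hEnd : EndS V W ε) {i j : Fin n}
    (hi : i ≠ 0) (hj : j ≠ 0) (hij : i ≠ j) (hno : NOv W (PP V W ε i j)) (hE : At W E) (hOV : E ≤ OV V W)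
    (hmv : ¬ E ≤ centralizer (WI V ε i j : Set G))
    (hH0 : ∀ x ∈ YG ε {i, j}, ∀ k : Fin n, k ≠ 0 → ∀ A : Subgroup G, At W A →
      A ≤ QQ (MulAut.conj x • V) W (cε x ε) k → A ≤ centralizer (WI (MulAut.conj x • V) (cε x ε) i j : Set G))
    (hNC : ∀ x ∈ YG ε {i, j}, ∀ e ∈ E, e ∈ normalizer ((MulAut.conj x • V : Subgroup G) : Set G) →
      e ∈ centralizer ((MulAut.conj x • V : Subgroup G) : Set G)) : False := by
  have hUW : WI V ε i j ≤ W := h.WI_le hi hj hij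
  have hKU : centralizer (W : Set G) ≤ centralizer (WI V ε i j : Set G) := centralizer_le hUW
  have hKV : centralizer (W : Set G) ≤ centralizer (V : Set G) := centralizer_le h.VW
  -- `E = E₁ C(W)`
  set E₁ : Subgroup G := E ⊓ o2 (centralizer (V : Set G)) with hE₁
  have hEE : ∀ e ∈ E, ∃ a ∈ E₁, ∃ b ∈ centralizer (W : Set G), e = a * b := by
    intro e he
    obtain ⟨a, ha, b, hb, rfl⟩ := exists_mul_sup (A := o2 (centralizer (V : Set G))) (B := centralizer (W : Set G))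
      (hKV.trans (le_normalizer_o2 _)) (hOV he)
    exact ⟨a, ⟨(mul_mem_cancel_right (hE.le hb)).1 he, ha⟩, b, hb, rfl⟩
  have hsup : E = E₁ ⊔ centralizer (W : Set G) := by
    refine le_antisymm (fun e he => ?_) (sup_le inf_le_left hE.le)
    obtain ⟨a, ha, b, hb, rfl⟩ := hEE e he
    exact mul_mem (mem_sup_left ha) (mem_sup_right hb)
  have hVG : VG ε {i, j} ≤ V := VG_le h.ev _
  -- `(ML)` on `W_ij / V_ij`
  have hml : (centralizer (WI V ε i j : Set G)).relIndex E₁ ≤ (centralizer (E₁ : Set G)).relIndex (WI V ε i j) := by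
    refine pair_ml hML h.ev h.n3 hij (h.kX hi hj) (fun a ha b hb => h.Wc a (hUW ha) b (hUW hb))
      (fun a ha => h.Ws a (hUW ha)) (h.syl {i, j} ?_) inf_le_right (fun a ha => hKU (hE.el.sq a ha.1)) ?_
    · simp only [Finset.mem_insert, Finset.mem_singleton, not_or]
      exact ⟨hi.symm, hj.symm⟩
    · intro a ha hfix
      have key : ∀ x ∈ YG ε {i, j}, a ∈ centralizer ((MulAut.conj x • V : Subgroup G) : Set G) := by
        intro x hx
        refine hNC x hx a ha.1 (mem_normalizer_of_map_le ?_)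
        rintro _ ⟨v, hv, rfl⟩
        change a * v * a⁻¹ ∈ MulAut.conj x • V
        have h1 : v ∈ WI V ε i j := by
          have h2 : x⁻¹ * v * x ∈ V := mem_cj.1 hv
          have h3 : v = x * (x⁻¹ * v * x) * x⁻¹ := by group
          rw [h3]
          exact conj_mem_Cl hx h2
        have h2 : VG ε {i, j} ≤ MulAut.conj x • V := by
          intro y hy
          have h3 : x * y * x⁻¹ = y := by rw [← mem_centralizer_iff.1 hx y hy, mul_inv_cancel_right]
          rw [← h3]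
          exact cj_mem (hVG hy)
        have h4 := mul_mem (h2 (hfix v h1)) hv
        rwa [inv_mul_cancel_right] at h4
      rw [mem_centralizer_iff]
      have h5 : WI V ε i j ≤ centralizer ({a} : Set G) := by
        rw [WI, Cl, closure_le]
        rintro _ ⟨x, hx, v, hv, rfl⟩
        rw [SetLike.mem_coe, mem_centralizer_singleton_iff]
        exact mem_centralizer_iff.1 (key x hx) _ (cj_mem hv)
      intro u hu
      exact mem_centralizer_singleton_iff.1 (h5 hu)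
  -- transfer to `E`
  have hcE : WI V ε i j ⊓ centralizer (E₁ : Set G) ≤ centralizer (E : Set G) := by
    rintro u ⟨hu, hu2⟩
    refine mem_centralizer_iff.2 fun e he => ?_
    obtain ⟨a, ha, b, hb, rfl⟩ := hEE e he
    have h1 := mem_centralizer_iff.1 hu2 a ha
    have h2 := mem_centralizer_iff.1 hb u (hUW hu)
    rw [mul_assoc, ← h2, ← mul_assoc, h1, mul_assoc]
  have hind : (centralizer (WI V ε i j : Set G)).relIndex E ≤ (centralizer (E : Set G)).relIndex (WI V ε i j) := by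
    have e1 : (centralizer (WI V ε i j : Set G)).relIndex E ≤ (centralizer (WI V ε i j : Set G)).relIndex E₁ :=
      relIndex_le_of_mul inf_le_left fun e he => by
        obtain ⟨a, ha, b, hb, rfl⟩ := hEE e he
        exact ⟨a, ha, b, hKU hb, rfl⟩
    have e2 : (centralizer (E : Set G)).relIndex (WI V ε i j) = (centralizer (E₁ : Set G)).relIndex (WI V ε i j) := by
      rw [← inf_relIndex_right (centralizer (E : Set G)), ← inf_relIndex_right (centralizer (E₁ : Set G))]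
      congr 1
      refine le_antisymm (inf_le_inf_right _ (centralizer_le inf_le_left)) (le_inf ?_ inf_le_right)
      rw [inf_comm]
      exact hcE
    rw [e2]
    exact e1.trans hml
  have hex := (exact_of hUW hE.le le_rfl (fun B h1 h2 => (hE.min B h1 h2).trans_eq hE.tight.symm) hE.tight hmv hind).2
  have hcm : ∀ e ∈ E, ∀ w ∈ W, e * w * e⁻¹ * w⁻¹ ∈ WI V ε i j := by
    obtain ⟨C, hC⟩ := exists_cm h.Wc hUW E
    have hWC : W ≤ C := by
      refine hex.trans (sup_le ?_ ?_)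
      · intro u hu
        refine (hC u).2 ⟨hUW hu, fun e he => ?_⟩
        have hn : e ∈ normalizer (WI V ε i j : Set G) :=
          le_normalizer_Cl V _ (centralizer_le_YG h.ev _ (h.OV_le (hOV he)))
        exact mul_mem ((mem_normalizer_iff.1 hn u).1 hu) (inv_mem hu)
      · rintro w ⟨hw, hw2⟩
        refine (hC w).2 ⟨hw, fun e he => ?_⟩
        rw [mem_centralizer_iff.1 hw2 e he, mul_inv_cancel_right, mul_inv_cancel]
        exact one_mem _
    exact fun e he w hw => ((hC w).1 (hWC hw)).2 e he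
  refine h.end_of hN hEnd hi hj hij hno hE hOV hmv ?_ ?_
  · intro x hx k hk A hA hAQ
    have h1 := hH0 x hx k hk A hA hAQ
    rwa [WI_eq hx] at h1
  · intro x hx k hk A hA hAQ e he w hw
    have h1 := hH0 x hx k hk A hA hAQ
    rw [WI_eq hx] at h1
    refine mem_centralizer_iff.2 fun a ha => ?_
    exact (mem_centralizer_iff.1 (h1 ha) _ (hcm e he w hw)).symm

end Fr

end Cfsg.Agent.Omega.NO3S.SN.RTwo

end

section


/-!
# THEOREM R1 (helper430 #22327), step (2): relative form (helper237 #22246, helper695 #24008 (0))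

`V_Γ`, `Γ = {i,j,k}`; `Y ≤ C_G(V_Γ)` is any group with `N_G(V) ∩ C_G(V_Γ) ≤ Y` and `C_G(V_ij), C_G(V_ik) ≤ Y` (e.g.
generated by these groups).  `W` is any elementary abelian group normalised by `Y` with `V ≤ W`.

* `YDat` : the data;
* `YDat.cent` : `C_Y(U/V_Γ) = C_Y(U)`, `U = ⟨V^Y⟩`;
* `YDat.off` : for `B ≤ O₂(C_G(V))` centralising `U_ij`, with `B² ≤ C(U)`: `|B : C_B(U)| ≤ |U : C_U(B)|`;
* `YDat.two` : the conclusion of `Ln.two` for `Cl V Y` in place of `UG V ε Γ`.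
-/

set_option autoImplicit false
set_option linter.unusedSectionVars false

namespace Cfsg.Agent.Omega.NO3S.SN.R1

open Subgroup Cfsg Cfsg.Agent.ZN Cfsg.Agent.Omega.S5.Def
open Cfsg.Agent.Omega.FFThm (ElemM)
open Cfsg.Agent.MinSimple.VModule

universe u

variable {G : Type u} [Group G] {n : ℕ}

/-- the data for `Y` -/
structure YDat (V : Subgroup G) (ε : (Fin n → ZMod 2) → G) (W Y : Subgroup G) (i j k : Fin n) : Prop where
  n5 : 5 ≤ n
  ev : EvenSet n V (normalizer (V : Set G)) ε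
  ij : i ≠ j
  ik : i ≠ k
  jk : j ≠ k
  /-- `Y ≤ C_G(V_Γ)` -/
  YV : Y ≤ YG ε {i, j, k}
  /-- `N_G(V) ∩ C_G(V_Γ) ≤ Y` -/
  NY : normalizer (V : Set G) ⊓ YG ε {i, j, k} ≤ Y
  VW : V ≤ W
  YW : Y ≤ normalizer (W : Set G)
  Wc : ∀ a ∈ W, ∀ b ∈ W, a * b = b * a
  Ws : ∀ a ∈ W, a * a = 1
  fus : ∀ g ∈ Y, g * zz ε k * g⁻¹ ∈ V → ∃ m, g * zz ε k * g⁻¹ = zz ε m
  syl : ∃ T : Subgroup G, T ≤ Y ∧ T ≤ normalizer (V : Set G) ∧ IsPGroup 2 T ∧ ¬ 2 ∣ T.relIndex Y
  kg : IsKGroup Y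

section facts

variable [Finite G] {V W Y A B : Subgroup G} {ε : (Fin n → ZMod 2) → G} {i j k : Fin n}

theorem YDat.n3 (h : YDat V ε W Y i j k) : 3 ≤ n := by have := h.n5; omega

theorem YDat.card (h : YDat V ε W Y i j k) : ({i, j, k} : Finset (Fin n)).card = 3 :=
  Finset.card_eq_three.2 ⟨i, j, k, h.ij, h.ik, h.jk, rfl⟩

theorem YDat.UW (h : YDat V ε W Y i j k) : Cl V Y ≤ W := Cl_le h.VW h.YW

/-- a permutation of `{i,j,k}` is induced by an element of `Y` -/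
theorem YDat.exists_acts (h : YDat V ε W Y i j k) {a b : Fin n} (ha : a ∈ ({i, j, k} : Finset (Fin n)))
    (hb : b ∈ ({i, j, k} : Finset (Fin n))) :
    ∃ g ∈ Y, g ∈ normalizer (V : Set G) ∧ Acts ε g (Equiv.swap a b) := by
  obtain ⟨g, hg, hσ⟩ := h.ev.full (Equiv.swap a b)
  refine ⟨g, h.NY ⟨hg, mem_YG_of_acts h.ev hσ fun m hm => ?_⟩, hg, hσ⟩
  refine Equiv.swap_apply_of_ne_of_ne ?_ ?_
  · rintro rfl
    exact hm ha
  · rintro rfl
    exact hm hb

theorem YDat.exists_syl (h : YDat V ε W Y i j k) :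
    ∃ T : Subgroup G, T ≤ Y ∧ T ≤ normalizer (V : Set G) ∧ IsPGroup 2 T ∧ ¬ 2 ∣ T.relIndex Y ∧
      ∀ t ∈ T, t * zz ε k * t⁻¹ = zz ε k := by
  obtain ⟨T, h1, h2, h3, h4⟩ := h.syl
  obtain ⟨c, hc, h5⟩ := exists_fix h.ev h.n3 (by rw [h.card]; decide) h3 (h1.trans h.YV) h2
  obtain ⟨g, hgY, hg, hσ⟩ := h.exists_acts (a := c) (b := k) hc (by simp)
  have e1 : Y.map (MulAut.conj g).toMonoidHom = Y :=
    mem_normalizer_iff_map_conj_eq.mp (le_normalizer hgY)
  refine ⟨T.map (MulAut.conj g).toMonoidHom, ?_, ?_, h3.map _, ?_, ?_⟩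
  · rintro _ ⟨t, ht, rfl⟩
    exact mul_mem (mul_mem hgY (h1 ht)) (inv_mem hgY)
  · rintro _ ⟨t, ht, rfl⟩
    exact mul_mem (mul_mem hg (h2 ht)) (inv_mem hg)
  · intro h6
    rw [← e1, relIndex_map_map_of_injective _ _ (MulAut.conj g).injective] at h6
    exact h4 h6
  · rintro _ ⟨t, ht, rfl⟩
    change g * t * g⁻¹ * zz ε k * (g * t * g⁻¹)⁻¹ = zz ε k
    have h6 : g * zz ε c * g⁻¹ = zz ε k := by
      have h7 := hσ.single c
      rw [Equiv.swap_apply_left] at h7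
      exact h7
    rw [← h6]
    calc g * t * g⁻¹ * (g * zz ε c * g⁻¹) * (g * t * g⁻¹)⁻¹ = g * (t * zz ε c * t⁻¹) * g⁻¹ := by group
      _ = g * zz ε c * g⁻¹ := by rw [h5 t ht]

/-- `C_Y(U / V_Γ) = C_Y(U)` -/
theorem YDat.cent (h : YDat V ε W Y i j k) {a : G} (ha : a ∈ Y)
    (hc : ∀ x ∈ Cl V Y, a * x * a⁻¹ * x⁻¹ ∈ VG ε {i, j, k}) : a ∈ centralizer (Cl V Y : Set G) := by
  have key : ∀ y ∈ Y, ∀ v ∈ V, a * (y * v * y⁻¹) = y * v * y⁻¹ * a := by
    intro y hy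
    set b := y⁻¹ * a * y with hb
    have hbY : b ∈ Y := mul_mem (mul_mem (inv_mem hy) ha) hy
    have h1 : ∀ v ∈ V, b * v * b⁻¹ * v⁻¹ ∈ VG ε {i, j, k} := by
      intro v hv
      have h2 := hc _ (conj_mem_Cl hy hv)
      obtain ⟨x, hx, he⟩ := (mem_VG h.ev).1 h2
      have h3 := (mem_YG h.ev).1 (h.YV (inv_mem hy)) x hx
      rw [he] at h3
      have h4 : b * v * b⁻¹ * v⁻¹ =
          y⁻¹ * (a * (y * v * y⁻¹) * a⁻¹ * (y * v * y⁻¹)⁻¹) * y⁻¹⁻¹ := by rw [hb]; group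
      rw [h4, h3]
      exact h2
    have h2 : b ∈ normalizer (V : Set G) := by
      refine mem_normalizer_of_map_le ?_
      rintro _ ⟨v, hv, rfl⟩
      change b * v * b⁻¹ ∈ V
      have h3 := mul_mem (VG_le h.ev {i, j, k} (h1 v hv)) hv
      rwa [inv_mul_cancel_right] at h3
    obtain ⟨σ, hσ⟩ := h.ev.perm b h2
    have h3 : σ = 1 := by
      ext m
      congr 1
      change σ m = m
      by_cases hm : m ∈ ({i, j, k} : Finset (Fin n))
      · refine eq_of_mem_VG h.ev h.card.ge hm ?_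
        have h4 := h1 _ (h.ev.mem (Pi.single m 1))
        rw [hσ.single, h.ev.inv] at h4
        exact h4
      · exact acts_fix h.ev h.n3 hσ (h.YV hbY) hm
    subst h3
    have h4 := h.ev.acts_one_iff.1 hσ
    intro v hv
    have h5 := mem_centralizer_iff.1 h4 v hv
    calc a * (y * v * y⁻¹) = y * (b * v) * y⁻¹ := by rw [hb]; group
      _ = y * (v * b) * y⁻¹ := by rw [h5]
      _ = y * v * y⁻¹ * a := by rw [hb]; group
  rw [mem_centralizer_iff]
  intro x hx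
  refine closure_induction (p := fun x _ => x * a = a * x) ?_ ?_ ?_ ?_ hx
  · rintro _ ⟨y, hy, v, hv, rfl⟩
    exact (key y hy v hv).symm
  · rw [one_mul, mul_one]
  · intro x y _ _ h1 h2
    rw [mul_assoc, h2, ← mul_assoc, h1, mul_assoc]
  · intro x _ h1
    have h2 : Commute x a := h1
    exact h2.inv_left

/-- the data of (ML) for `Y` on `U / V_Γ`, for `B ≤ O₂(C_G(V))` centralising `U_ij` -/
theorem YDat.gdat (h : YDat V ε W Y i j k) (hB : B ≤ o2 (centralizer (V : Set G)))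
    (hf : B ≤ centralizer (UG V ε {i, j} : Set G))
    (hsq : ∀ b ∈ B, b ^ 2 ∈ centralizer (Cl V Y : Set G)) {T : Subgroup G} (hT1 : T ≤ Y) (hT3 : IsPGroup 2 T)
    (hT4 : ¬ 2 ∣ T.relIndex Y) (hT5 : ∀ t ∈ T, t * zz ε k * t⁻¹ = zz ε k) :
    ML.Final.GDat Y (Cl V Y) (VG ε {i, j, k}) T (o2 (centralizer (UG V ε {i, j} : Set G))) B (zz ε k) := by
  have hGV : VG ε {i, j, k} ≤ V := VG_le h.ev _
  have hVU : V ≤ Cl V Y := le_Cl _ _
  have hQV : o2 (centralizer (UG V ε {i, j} : Set G)) ≤ centralizer (V : Set G) :=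
    (o2_le _).trans (centralizer_le (le_Cl _ _))
  have hCY : centralizer (V : Set G) ≤ Y :=
    (le_inf (centralizer_le_normalizer _) (centralizer_le_YG h.ev _)).trans h.NY
  refine
    { nW := le_normalizer_Cl _ _
      nY := ?_
      YW := hGV.trans hVU
      WY := ?_
      sq := ?_
      mem := hVU (h.ev.mem _)
      gen := ?_
      TC := hT1
      two := hT3
      odd := hT4
      fixT := ?_
      QC := hQV.trans hCY
      Q2 := o2_isPGroup _
      fixQ := ?_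
      nrmQ := ?_
      AQ := le_o2_cent (le_Cl _ _) hB hf
      Asq := ?_ }
  · exact h.YV.trans (centralizer_le_normalizer _)
  · intro u hu
    refine centralizer_le_normalizer _ (mem_centralizer_iff.2 fun v hv => ?_)
    exact h.Wc v (h.VW (hGV hv)) u (h.UW hu)
  · intro x hx
    rw [h.Ws x (h.UW hx)]
    exact one_mem _
  · intro S hS1 hS2 hS3
    refine Cl_le ?_ hS3
    obtain ⟨g, hgY, -, hσ⟩ := h.exists_acts (a := k) (b := i) (by simp) (by simp)
    refine V_le_of h.ev h.ij h.ik h.jk ?_ hS1 hS2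
    have h7 := hσ.single k
    rw [Equiv.swap_apply_left] at h7
    change ε (Pi.single i 1) ∈ S
    rw [← h7]
    exact (mem_normalizer_iff.1 (hS3 hgY) _).1 hS1
  · intro t ht
    rw [hT5 t ht, mul_inv_cancel]
    exact one_mem _
  · intro q hq
    have h1 := mem_centralizer_iff.1 (hQV hq) _ (h.ev.mem (Pi.single k 1))
    change q * ε (Pi.single k 1) * q⁻¹ * (ε (Pi.single k 1))⁻¹ ∈ _
    rw [← h1, mul_inv_cancel_right, mul_inv_cancel]
    exact one_mem _
  · intro g hg hgz q hq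
    have h1 : g * zz ε k * g⁻¹ ∈ V := by
      have h2 := mul_mem (hGV hgz) (h.ev.mem (Pi.single k 1))
      have h3 : g * zz ε k * g⁻¹ * (zz ε k)⁻¹ * zz ε k = g * zz ε k * g⁻¹ := inv_mul_cancel_right _ _
      rw [← h3]
      exact h2
    obtain ⟨m, hm⟩ := h.fus g hg h1
    have h4 : m = k := by
      refine eq_of_mem_VG h.ev h.card.ge (by simp) ?_
      rw [← hm]
      have h5 : (zz ε k)⁻¹ = zz ε k := h.ev.inv _
      rw [h5] at hgz
      exact hgz
    rw [h4] at hm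
    have h5 : g ∈ YG ε {i, j} := mem_YG_pair h.ev h.ij h.ik h.jk (h.YV hg) hm
    have h6 : g ∈ normalizer (UG V ε {i, j} : Set G) := le_normalizer_Cl _ _ h5
    exact (mem_normalizer_iff.1 (norm_o2 (norm_cent h6)) q).1 hq
  · intro a ha x hx
    have h1 := mem_centralizer_iff.1 (hsq a ha) x hx
    have h2 : a * (a * x * a⁻¹) * a⁻¹ * x⁻¹ = a ^ 2 * x * (a ^ 2)⁻¹ * x⁻¹ := by
      rw [pow_two]
      group
    rw [h2, ← h1, mul_inv_cancel_right, mul_inv_cancel]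
    exact one_mem _

/-- **(ML) for `Y` on `U / V_Γ`**, strong form: `CW / V_Γ = C_{U/V_Γ}(B)` -/
theorem YDat.offS (h : YDat V ε W Y i j k) (hML : ML.Final.MLK.{u, u}) (hB : B ≤ o2 (centralizer (V : Set G)))
    (hf : B ≤ centralizer (UG V ε {i, j} : Set G)) (hsq : ∀ b ∈ B, b ^ 2 ∈ centralizer (Cl V Y : Set G))
    {CW : Subgroup G} (hCW : ∀ x, x ∈ CW ↔ x ∈ Cl V Y ∧ ∀ b ∈ B, b * x * b⁻¹ * x⁻¹ ∈ VG ε {i, j, k}) :
    (centralizer (Cl V Y : Set G)).relIndex B ≤ CW.relIndex (Cl V Y) := by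
  obtain ⟨T, hT1, -, hT3, hT4, hT5⟩ := h.exists_syl
  have hCY : centralizer (V : Set G) ≤ Y :=
    (le_inf (centralizer_le_normalizer _) (centralizer_le_YG h.ev _)).trans h.NY
  have hBY : B ≤ Y := (hB.trans (o2_le _)).trans hCY
  rw [← inf_relIndex_right]
  refine hML.grp h.kg (h.gdat hB hf hsq hT1 hT3 hT4 hT5) ?_ hCW
  intro a
  constructor
  · rintro ⟨ha2, ha⟩
    refine ⟨ha, fun x hx => ?_⟩
    rw [← mem_centralizer_iff.1 ha2 x hx, mul_inv_cancel_right, mul_inv_cancel]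
    exact one_mem _
  · rintro ⟨ha, ha2⟩
    exact ⟨h.cent (hBY ha) ha2, ha⟩

/-- **(ML) for `Y` on `U / V_Γ`**: `|B : C_B(U)| ≤ |U : C_U(B)|` -/
theorem YDat.off (h : YDat V ε W Y i j k) (hML : ML.Final.MLK.{u, u}) (hB : B ≤ o2 (centralizer (V : Set G)))
    (hf : B ≤ centralizer (UG V ε {i, j} : Set G)) (hsq : ∀ b ∈ B, b ^ 2 ∈ centralizer (Cl V Y : Set G)) :
    (centralizer (Cl V Y : Set G)).relIndex B ≤ (centralizer (B : Set G)).relIndex (Cl V Y) := by
  have hWc : ∀ a ∈ Cl V Y, ∀ b ∈ Cl V Y, a * b = b * a := fun a ha b hb => h.Wc a (h.UW ha) b (h.UW hb)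
  obtain ⟨CW, hCW⟩ := exists_cm hWc ((VG_le h.ev {i, j, k}).trans (le_Cl V Y)) B
  refine (h.offS hML hB hf hsq hCW).trans ?_
  rw [← inf_relIndex_right (centralizer (B : Set G))]
  refine relIndex_le_of_le_left ?_ index_ne_zero_of_finite
  rintro x ⟨hx1, hx2⟩
  refine (hCW x).2 ⟨hx2, fun a ha => ?_⟩
  rw [mem_centralizer_iff.1 hx1 a ha, mul_inv_cancel_right, mul_inv_cancel]
  exact one_mem _

/-- the index argument: a minimal best offender `A` on `W` which is not an over-offender on `U ≤ W`, moves `U` -/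
theorem Best.split {U : Subgroup G} (hUW : U ≤ W) (hA : Best W A) (hm : ¬ A ≤ centralizer (U : Set G))
    (key : (centralizer (U : Set G)).relIndex A ≤ (centralizer (A : Set G)).relIndex U) :
    W ≤ U ⊔ (W ⊓ centralizer (A : Set G)) ∧ A ⊓ centralizer (U : Set G) ≤ centralizer (W : Set G) := by
  set B : Subgroup G := A ⊓ centralizer (U : Set G) with hBdef
  have hBA : B ≤ A := inf_le_left
  have key' : B.relIndex A ≤ (centralizer (A : Set G)).relIndex U := by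
    rw [hBdef, inf_comm, inf_relIndex_right]
    exact key
  have hUB : U ≤ W ⊓ centralizer (B : Set G) := by
    refine le_inf hUW fun u hu => mem_centralizer_iff.2 fun b hb => ?_
    exact (mem_centralizer_iff.1 hb.2 u hu).symm
  have hlt : B < A := by
    refine lt_of_le_of_ne hBA fun he => hm ?_
    rw [← he]
    exact inf_le_right
  have hWB : A ⊓ centralizer (W : Set G) ≤ B := inf_le_inf_left _ (centralizer_le hUW)
  have heq : A ⊓ centralizer (W : Set G) = B := by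
    rcases hWB.eq_or_lt with h1 | h1
    · exact h1
    · exfalso
      have h2 := hA.min B h1 hlt
      have h3 := relIndex_le_of_le_right (H := centralizer (A : Set G)) hUB index_ne_zero_of_finite
      omega
  have h3 : B ≤ centralizer (W : Set G) := by
    rw [← heq]
    exact inf_le_right
  refine ⟨?_, h3⟩
  set S := W ⊓ centralizer (A : Set G) with hS
  have e1 : S.relIndex W = (centralizer (A : Set G)).relIndex W := by
    rw [hS, inf_comm, inf_relIndex_right]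
  have e2 : S.relIndex U = (centralizer (A : Set G)).relIndex U := by
    rw [← inf_relIndex_right S, ← inf_relIndex_right (centralizer (A : Set G)), hS]
    congr 1
    rw [inf_assoc, inf_comm, inf_assoc, inf_eq_left.2 hUW]
  have e3 : (centralizer (W : Set G)).relIndex A = B.relIndex A := by
    rw [← heq, inf_comm, inf_relIndex_right]
  have e4 := hA.off
  have e5 : S.relIndex U ≤ S.relIndex (U ⊔ S) :=
    relIndex_le_of_le_right le_sup_left index_ne_zero_of_finite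
  have e6 : S.relIndex (U ⊔ S) * (U ⊔ S).relIndex W = S.relIndex W :=
    relIndex_mul_relIndex _ _ _ le_sup_right (sup_le hUW inf_le_left)
  have e7 : 0 < S.relIndex (U ⊔ S) := Nat.pos_of_ne_zero index_ne_zero_of_finite
  have e8 : (U ⊔ S).relIndex W ≤ 1 := by
    by_contra hcon
    have h5 : S.relIndex (U ⊔ S) * 2 ≤ S.relIndex (U ⊔ S) * (U ⊔ S).relIndex W :=
      Nat.mul_le_mul_left _ (by omega)
    omega
  have e9 : (U ⊔ S).relIndex W ≠ 0 := index_ne_zero_of_finite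
  exact relIndex_eq_one.1 (by omega)

/-- ... and `A` is exact on `W` -/
theorem Best.exact {U : Subgroup G} (hUW : U ≤ W) (hA : Best W A) (hm : ¬ A ≤ centralizer (U : Set G))
    (key : (centralizer (U : Set G)).relIndex A ≤ (centralizer (A : Set G)).relIndex U) :
    (centralizer (W : Set G)).relIndex A = (centralizer (A : Set G)).relIndex W := by
  have h1 := (hA.split hUW hm key).2
  have h2 : (centralizer (W : Set G)).relIndex A = (centralizer (U : Set G)).relIndex A := by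
    have h5 : centralizer (W : Set G) ⊓ A = centralizer (U : Set G) ⊓ A := by
      refine le_antisymm (inf_le_inf_right _ (centralizer_le hUW)) ?_
      rw [inf_comm]
      exact le_inf h1 inf_le_left
    rw [← inf_relIndex_right (centralizer (W : Set G)), ← inf_relIndex_right (centralizer (U : Set G)), h5]
  have h3 := relIndex_le_of_le_right (H := centralizer (A : Set G)) hUW index_ne_zero_of_finite
  have h4 := hA.off
  omega

/-- if `W = U C_W(A)`, `A` normalises `U`, then `[W, A] ≤ U` -/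
theorem comm_le_of_split {U : Subgroup G} (hWc : ∀ a ∈ W, ∀ b ∈ W, a * b = b * a) (hUW : U ≤ W)
    (hAU : A ≤ normalizer (U : Set G)) (h4 : W ≤ U ⊔ (W ⊓ centralizer (A : Set G))) :
    ∀ a ∈ A, ∀ w ∈ W, a * w * a⁻¹ * w⁻¹ ∈ U := by
  obtain ⟨C, hC⟩ := exists_cm hWc hUW A
  intro a ha w hw
  have h5 : U ⊔ (W ⊓ centralizer (A : Set G)) ≤ C := by
    refine sup_le ?_ ?_
    · intro u hu
      refine (hC u).2 ⟨hUW hu, fun b hb => ?_⟩
      exact mul_mem ((mem_normalizer_iff.1 (hAU hb) u).1 hu) (inv_mem hu)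
    · rintro u ⟨hu, hu2⟩
      refine (hC u).2 ⟨hu, fun b hb => ?_⟩
      rw [mem_centralizer_iff.1 hu2 b hb, mul_inv_cancel_right, mul_inv_cancel]
      exact one_mem _
  exact ((hC w).1 (h5 (h4 hw))).2 a ha

/-- **THEOREM R1, step (2), relative form** -/
theorem YDat.two (h : YDat V ε W Y i j k) (hML : ML.Final.MLK.{u, u}) (hA : A ≤ o2 (centralizer (V : Set G)))
    (hB : Best W A) (hf : A ≤ centralizer (UG V ε {i, j} : Set G)) (hm : ¬ A ≤ centralizer (Cl V Y : Set G)) :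
    (∀ a ∈ A, ∀ w ∈ W, a * w * a⁻¹ * w⁻¹ ∈ Cl V Y) ∧ W ≤ Cl V Y ⊔ (W ⊓ centralizer (A : Set G)) ∧
      A ⊓ centralizer (Cl V Y : Set G) ≤ centralizer (W : Set G) := by
  have hCY : centralizer (V : Set G) ≤ Y :=
    (le_inf (centralizer_le_normalizer _) (centralizer_le_YG h.ev _)).trans h.NY
  have hAY : A ≤ Y := (hA.trans (o2_le _)).trans hCY
  obtain ⟨h4, h3⟩ := hB.split h.UW hm
    (h.off hML hA hf fun a ha => centralizer_le h.UW (hB.el.sq a ha))
  exact ⟨comm_le_of_split h.Wc h.UW (hAY.trans (le_normalizer_Cl _ _)) h4, h4, h3⟩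

/-- ... and `A` is exact on `W` -/
theorem YDat.exact (h : YDat V ε W Y i j k) (hML : ML.Final.MLK.{u, u}) (hA : A ≤ o2 (centralizer (V : Set G)))
    (hB : Best W A) (hf : A ≤ centralizer (UG V ε {i, j} : Set G)) (hm : ¬ A ≤ centralizer (Cl V Y : Set G)) :
    (centralizer (W : Set G)).relIndex A = (centralizer (A : Set G)).relIndex W :=
  hB.exact h.UW hm (h.off hML hA hf fun a ha => centralizer_le h.UW (hB.el.sq a ha))

end facts

end Cfsg.Agent.Omega.NO3S.SN.R1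

end

section


/-!
# `r = 1` at every level (helper763 #23689; helper430 #22327 (3), (5); helper358 #22753 (1)-(4)): the frame

`V` a line on `z = z_0`, `W = ⟨V^M⟩`, `Q k` the conjugates of `O₂(M)` (`k` a letter).  Only the groups
`X_ij = C_G(V_ij)` occur (relative form: nothing is said about `C_G(z)`).

* `Fr V W ε Q` : the frame;
* `Sh W P b` : `b` normalises `P` and `[κ, u]^b = [κ^b, u]` for all `κ ∈ P`, `u ∈ W`;
* `Fr.sh` : the conjugates of `A` have this property for `P = Q k` if `[W, A]` is centralised by `Q k`.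
-/

set_option autoImplicit false
set_option linter.unusedSectionVars false

namespace Cfsg.Agent.Omega.NO3S.SN.ROne

open Subgroup Cfsg Cfsg.Agent.ZN Cfsg.Agent.Omega.S5.Def Cfsg.Agent.Omega.NO3S.SN.R1
open Cfsg.Agent.MinSimple.VModule

universe u

variable {G : Type u} [Group G]

/-- the frame -/
structure Fr {n : ℕ} [NeZero n] (V W : Subgroup G) (ε : (Fin n → ZMod 2) → G) (Q : Fin n → Subgroup G) : Prop where
  n5 : 5 ≤ n
  ev : EvenSet n V (normalizer (V : Set G)) ε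
  VW : V ≤ W
  Wc : ∀ a ∈ W, ∀ b ∈ W, a * b = b * a
  Ws : ∀ a ∈ W, a * a = 1
  WL : ∀ g ∈ normalizer (V : Set G), g * zz ε 0 * g⁻¹ = zz ε 0 → g ∈ normalizer (W : Set G)
  WX : ∀ i j : Fin n, i ≠ j → i ≠ 0 → j ≠ 0 → YG ε {i, j} ≤ normalizer (W : Set G)
  /-- fusion of the heavy vectors in `V` -/
  fus : ∀ (i : Fin n) (g : G), g * zz ε i * g⁻¹ ∈ V → ∃ j, g * zz ε i * g⁻¹ = zz ε j
  /-- (B2) -/
  syl : ∀ i j : Fin n, i ≠ j → i ≠ 0 → j ≠ 0 → ∃ T : Subgroup G, T ≤ YG ε {i, j} ∧ T ≤ normalizer (V : Set G) ∧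
    IsPGroup 2 T ∧ ¬ 2 ∣ T.relIndex (YG ε {i, j})
  kg : ∀ i j : Fin n, i ≠ j → i ≠ 0 → j ≠ 0 → IsKGroup (YG ε {i, j})
  Q2 : ∀ k, IsPGroup 2 (Q k)
  QV : ∀ k, Q k ≤ centralizer (V : Set G)
  QX : ∀ i j k : Fin n, i ≠ j → k ≠ i → k ≠ j → YG ε {i, j} ≤ normalizer (Q k : Set G)
  QL : ∀ (g : G) (σ : Equiv.Perm (Fin n)), Acts ε g σ → ∀ k, ∀ q ∈ Q k, g * q * g⁻¹ ∈ Q (σ k)
  /-- `C_W(T) = V` for `T ∈ Syl₂(C_G(V))` -/
  cV : ∀ T : Subgroup G, T ≤ centralizer (V : Set G) → IsPGroup 2 T → ¬ 2 ∣ T.relIndex (centralizer (V : Set G)) →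
    ∀ w ∈ W, (∀ t ∈ T, t * w * t⁻¹ = w) → w ∈ V

/-- `b` normalises `P` and `[κ, u]^b = [κ^b, u]` -/
def Sh (W P : Subgroup G) (b : G) : Prop :=
  b ∈ normalizer (P : Set G) ∧ ∀ κ ∈ P, ∀ u ∈ W,
    b * (κ * u * κ⁻¹ * u⁻¹) * b⁻¹ = (b * κ * b⁻¹) * u * (b * κ * b⁻¹)⁻¹ * u⁻¹

theorem Sh.one (W P : Subgroup G) : Sh W P 1 := ⟨one_mem _, fun κ _ u _ => by group⟩

theorem Sh.mul {W P : Subgroup G} {b c : G} (hb : Sh W P b) (hc : Sh W P c) : Sh W P (b * c) := by
  refine ⟨mul_mem hb.1 hc.1, fun κ hκ u hu => ?_⟩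
  have h1 := hc.2 κ hκ u hu
  have h2 := hb.2 _ ((mem_normalizer_iff.1 hc.1 κ).1 hκ) u hu
  calc b * c * (κ * u * κ⁻¹ * u⁻¹) * (b * c)⁻¹ = b * (c * (κ * u * κ⁻¹ * u⁻¹) * c⁻¹) * b⁻¹ := by group
    _ = _ := by rw [h1, h2]; group

theorem Sh.inv {W P : Subgroup G} {b : G} (hb : Sh W P b) : Sh W P b⁻¹ := by
  refine ⟨inv_mem hb.1, fun κ hκ u hu => ?_⟩
  have h0 := (mem_normalizer_iff.1 (inv_mem hb.1) κ).1 hκ
  have h1 := hb.2 _ h0 u hu
  have h2 : b * (b⁻¹ * κ * b⁻¹⁻¹) * b⁻¹ = κ := by group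
  rw [h2] at h1
  rw [← h1]
  group

/-- `Sh` is preserved by conjugation -/
theorem Sh.conj {W P P' : Subgroup G} {b g : G} (hb : Sh W P b) (hW : g ∈ normalizer (W : Set G))
    (hP : ∀ x, x ∈ P ↔ g * x * g⁻¹ ∈ P') : Sh W P' (g * b * g⁻¹) := by
  have hP' : ∀ x, x ∈ P' ↔ g⁻¹ * x * g ∈ P := by
    intro x
    rw [hP]
    have e : g * (g⁻¹ * x * g) * g⁻¹ = x := by group
    rw [e]
  constructor
  · rw [mem_normalizer_iff]
    intro x
    rw [hP', hP', mem_normalizer_iff.1 hb.1 (g⁻¹ * x * g)]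
    have e : g⁻¹ * (g * b * g⁻¹ * x * (g * b * g⁻¹)⁻¹) * g = b * (g⁻¹ * x * g) * b⁻¹ := by group
    rw [e]
  · intro κ hκ u hu
    have h1 := (hP' κ).1 hκ
    have h2 : g⁻¹ * u * g ∈ W := by
      have := (mem_normalizer_iff.1 (inv_mem hW) u).1 hu
      rwa [inv_inv] at this
    have h3 := hb.2 _ h1 _ h2
    calc g * b * g⁻¹ * (κ * u * κ⁻¹ * u⁻¹) * (g * b * g⁻¹)⁻¹ =
        g * (b * ((g⁻¹ * κ * g) * (g⁻¹ * u * g) * (g⁻¹ * κ * g)⁻¹ * (g⁻¹ * u * g)⁻¹) * b⁻¹) * g⁻¹ := by group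
      _ = _ := by rw [h3]; group

section frame

variable {n : ℕ} [NeZero n] {V W A : Subgroup G} {ε : (Fin n → ZMod 2) → G} {Q : Fin n → Subgroup G}

theorem Fr.n3 (h : Fr V W ε Q) : 3 ≤ n := le_trans (by norm_num) h.n5

/-- three letters -/
theorem Fr.exists_letter (h : Fr V W ε Q) (a b c : Fin n) : ∃ k : Fin n, k ≠ 0 ∧ k ≠ a ∧ k ≠ b ∧ k ≠ c := by
  have h1 : ({0, a, b, c} : Finset (Fin n)).card < (Finset.univ : Finset (Fin n)).card := by
    rw [Finset.card_univ, Fintype.card_fin]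
    exact lt_of_le_of_lt Finset.card_le_four (by have := h.n5; omega)
  obtain ⟨k, -, hk⟩ := Finset.exists_mem_notMem_of_card_lt_card h1
  simp only [Finset.mem_insert, Finset.mem_singleton, not_or] at hk
  exact ⟨k, hk.1, hk.2.1, hk.2.2.1, hk.2.2.2⟩

theorem Fr.cent_Q (h : Fr V W ε Q) (k : Fin n) : centralizer (V : Set G) ≤ normalizer (Q k : Set G) := by
  obtain ⟨i, -, hi, -, -⟩ := h.exists_letter k k k
  obtain ⟨j, -, hj, hji, -⟩ := h.exists_letter k i i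
  exact (centralizer_le_YG h.ev {i, j}).trans (h.QX i j k hji.symm hi.symm hj.symm)

theorem Fr.cent_W (h : Fr V W ε Q) : centralizer (V : Set G) ≤ normalizer (W : Set G) := by
  intro g hg
  refine h.WL g (centralizer_le_normalizer _ hg) ?_
  have h1 := mem_centralizer_iff.1 hg _ (h.ev.mem (Pi.single 0 1))
  change g * ε (Pi.single 0 1) * g⁻¹ = ε (Pi.single 0 1)
  rw [← h1, mul_inv_cancel_right]

/-- `Q k` centralises `U_ij`, `k ∉ {i, j}` -/
theorem Fr.Q_cent (h : Fr V W ε Q) {i j k : Fin n} (hij : i ≠ j) (hki : k ≠ i) (hkj : k ≠ j) :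
    Q k ≤ centralizer (UG V ε {i, j} : Set G) := by
  intro q hq
  rw [mem_centralizer_iff]
  intro u hu
  refine closure_induction (p := fun x _ => x * q = q * x) ?_ ?_ ?_ ?_ hu
  · rintro _ ⟨y, hy, v, hv, rfl⟩
    have h1 : y⁻¹ * q * y ∈ Q k := by
      have := (mem_normalizer_iff.1 (inv_mem (h.QX i j k hij hki hkj hy)) q).1 hq
      rwa [inv_inv] at this
    have h2 := mem_centralizer_iff.1 (h.QV k h1) v hv
    calc y * v * y⁻¹ * q = y * (v * (y⁻¹ * q * y)) * y⁻¹ := by group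
      _ = y * ((y⁻¹ * q * y) * v) * y⁻¹ := by rw [h2]
      _ = q * (y * v * y⁻¹) := by group
  · rw [one_mul, mul_one]
  · intro x y _ _ h1 h2
    rw [mul_assoc, h2, ← mul_assoc, h1, mul_assoc]
  · intro x _ h1
    have h2 : Commute x q := h1
    exact h2.inv_left

theorem Fr.UG_le (h : Fr V W ε Q) {i j : Fin n} (hij : i ≠ j) (hi : i ≠ 0) (hj : j ≠ 0) : UG V ε {i, j} ≤ W :=
  Cl_le h.VW (h.WX i j hij hi hj)

/-- the conjugates of `A` by `X_ij` have the property `Sh` for `Q k`, if `[W, A]` is centralised by `Q k` -/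
theorem Fr.sh (h : Fr V W ε Q) (hA : A ≤ centralizer (V : Set G)) {i j k : Fin n} (hij : i ≠ j) (hi : i ≠ 0)
    (hj : j ≠ 0) (hki : k ≠ i) (hkj : k ≠ j) (hc : ∀ a ∈ A, ∀ u ∈ W, ∀ κ ∈ Q k, κ * (a * u * a⁻¹ * u⁻¹) =
      (a * u * a⁻¹ * u⁻¹) * κ) {x a : G} (hx : x ∈ YG ε {i, j}) (ha : a ∈ A) : Sh W (Q k) (x * a * x⁻¹) := by
  have haQ := h.cent_Q k (hA ha)
  have haW := h.cent_W (hA ha)
  have hxQ := h.QX i j k hij hki hkj hx
  have hxW := h.WX i j hij hi hj hx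
  have h1 : Sh W (Q k) a := by
    refine ⟨haQ, fun κ hκ u hu => ?_⟩
    obtain ⟨m, hm⟩ : ∃ m, m = a * u * a⁻¹ * u⁻¹ := ⟨_, rfl⟩
    have hmW : m ∈ W := by
      rw [hm]
      exact mul_mem ((mem_normalizer_iff.1 haW u).1 hu) (inv_mem hu)
    have hau : a * u * a⁻¹ = m * u := by rw [hm]; group
    obtain ⟨κ', hκ'⟩ : ∃ κ', κ' = a * κ * a⁻¹ := ⟨_, rfl⟩
    have hκ'Q : κ' ∈ Q k := by
      rw [hκ']
      exact (mem_normalizer_iff.1 haQ κ).1 hκ
    have hκm : κ' * m = m * κ' := by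
      rw [hm]
      exact hc a ha u hu κ' hκ'Q
    have hcW : κ' * u * κ'⁻¹ * u⁻¹ ∈ W :=
      mul_mem ((mem_normalizer_iff.1 (h.cent_W (h.QV k hκ'Q)) u).1 hu) (inv_mem hu)
    calc a * (κ * u * κ⁻¹ * u⁻¹) * a⁻¹
        = (a * κ * a⁻¹) * (a * u * a⁻¹) * (a * κ * a⁻¹)⁻¹ * (a * u * a⁻¹)⁻¹ := by group
      _ = κ' * (m * u) * κ'⁻¹ * (m * u)⁻¹ := by rw [hau, hκ']
      _ = (κ' * m) * u * κ'⁻¹ * u⁻¹ * m⁻¹ := by group
      _ = m * (κ' * u * κ'⁻¹ * u⁻¹) * m⁻¹ := by rw [hκm]; group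
      _ = (κ' * u * κ'⁻¹ * u⁻¹) * m * m⁻¹ := by rw [h.Wc m hmW _ hcW]
      _ = κ' * u * κ'⁻¹ * u⁻¹ := by group
      _ = _ := by rw [hκ']
  exact h1.conj hxW fun y => mem_normalizer_iff.1 hxQ y

end frame

end Cfsg.Agent.Omega.NO3S.SN.ROne

end

section


/-!
# `r = 1`: (M1) in the relative frame (helper430 #22327 (3))

`A ≤ Q p`, `[W, A]` centralised by `Q k`, `k ∉ {0, p, q}`; `x ∈ X_pq`, `a ∈ A`, `x⁻¹ a x ∈ N(V)`: then `x⁻¹ a x ∈ C(V)`.
-/

set_option autoImplicit false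
set_option linter.unusedSectionVars false

namespace Cfsg.Agent.Omega.NO3S.SN.ROne

open Subgroup Cfsg Cfsg.Agent.ZN Cfsg.Agent.Omega.S5.Def Cfsg.Agent.Omega.NO3S.SN.R1
open Cfsg.Agent.MinSimple.VModule

universe u

variable {G : Type u} [Group G] {n : ℕ} [NeZero n] {V W A : Subgroup G} {ε : (Fin n → ZMod 2) → G}
  {Q : Fin n → Subgroup G}

omit [NeZero n] in
/-- `σ` fixing all letters outside `{a, b}` -/
theorem perm_eq_of_fix {σ : Equiv.Perm (Fin n)} {a b : Fin n} (hab : a ≠ b)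
    (h : ∀ c, c ≠ a → c ≠ b → σ c = c) : σ = 1 ∨ σ = Equiv.swap a b := by
  by_cases ha : σ a = a
  · left
    ext c
    by_cases hca : c = a
    · rw [hca, ha]; rfl
    · by_cases hcb : c = b
      · subst hcb
        have h1 : σ c = c := by
          by_contra hne
          have h2 : σ c ≠ a := fun h3 => hca (σ.injective (h3.trans ha.symm))
          exact hne (σ.injective (h (σ c) h2 hne))
        rw [h1]; rfl
      · rw [h c hca hcb]; rfl
  · right
    have h1 : σ a = b := by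
      by_contra hne
      exact ha (σ.injective (h (σ a) ha hne))
    have h2 : σ b = a := by
      by_contra hne
      have h3 : σ b ≠ b := fun h4 => hab (σ.injective (h1.trans h4.symm))
      exact h3 (σ.injective (h (σ b) hne h3))
    ext c
    by_cases hca : c = a
    · rw [hca, h1, Equiv.swap_apply_left]
    · by_cases hcb : c = b
      · rw [hcb, h2, Equiv.swap_apply_right]
      · rw [h c hca hcb, Equiv.swap_apply_of_ne_of_ne hca hcb]

omit [NeZero n] in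
/-- an element of `X_ab` normalising `V` -/
theorem one_or_swap (hn : 3 ≤ n) (ev : EvenSet n V (normalizer (V : Set G)) ε) {a b : Fin n} (hab : a ≠ b) {y : G}
    (hy : y ∈ YG ε {a, b}) (hN : y ∈ normalizer (V : Set G)) :
    y ∈ centralizer (V : Set G) ∨ Acts ε y (Equiv.swap a b) := by
  obtain ⟨σ, hσ⟩ := ev.perm y hN
  have h1 : ∀ c, c ≠ a → c ≠ b → σ c = c := fun c hca hcb =>
    acts_fix ev hn hσ hy (by simp [hca, hcb])
  rcases perm_eq_of_fix hab h1 with h2 | h2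
  · left
    rw [h2] at hσ
    exact ev.acts_one_iff.mp hσ
  · right
    rwa [h2] at hσ

omit [NeZero n] in
theorem single_add_cst {a b : Fin n} (hab : a ≠ b) :
    Cst ({a, b} : Finset (Fin n)) (Pi.single a 1 + Pi.single b 1 : Fin n → ZMod 2) := by
  intro p hp q hq
  simp only [Finset.mem_insert, Finset.mem_singleton] at hp hq
  rcases hp with rfl | rfl <;> rcases hq with rfl | rfl <;> simp [hab, hab.symm]

omit [NeZero n] in
theorem single_add_cst' {a b i j : Fin n} (hia : i ≠ a) (hib : i ≠ b) (hja : j ≠ a) (hjb : j ≠ b) :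
    Cst ({a, b} : Finset (Fin n)) (Pi.single i 1 + Pi.single j 1 : Fin n → ZMod 2) := by
  refine Cst.add (cst_single ?_) (cst_single ?_) <;> simp [hia, hib, hja, hjb]

/-- the hypothesis on the centralisers of `[W, A]` -/
def Co (W A : Subgroup G) (Q : Fin n → Subgroup G) (p q : Fin n) : Prop :=
  ∀ k : Fin n, k ≠ 0 → k ≠ p → k ≠ q → ∀ a ∈ A, ∀ u ∈ W, ∀ κ ∈ Q k,
    κ * (a * u * a⁻¹ * u⁻¹) = (a * u * a⁻¹ * u⁻¹) * κ

/-- **(M1) for `r = 1`** -/
theorem Fr.m1 (h : Fr V W ε Q) {p q : Fin n} (hp : p ≠ 0) (hq : q ≠ 0) (hpq : p ≠ q) (hA : A ≤ Q p)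
    (hc : Co W A Q p q) {x a : G} (hx : x ∈ YG ε {p, q}) (ha : a ∈ A)
    (hN : x⁻¹ * a * x ∈ normalizer (V : Set G)) : x⁻¹ * a * x ∈ centralizer (V : Set G) := by
  have hn3 := h.n3
  have hAV : A ≤ centralizer (V : Set G) := hA.trans (h.QV p)
  have haY : a ∈ YG ε {p, q} := centralizer_le_YG h.ev _ (hAV ha)
  have hbY : x⁻¹ * a * x ∈ YG ε {p, q} := mul_mem (mul_mem (inv_mem hx) haY) hx
  rcases one_or_swap hn3 h.ev hpq hbY hN with h0 | hs
  · exact h0
  exfalso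
  obtain ⟨b, hb⟩ : ∃ b, b = x⁻¹ * a * x := ⟨_, rfl⟩
  rw [← hb] at hs hbY
  have hab : a = x * b * x⁻¹ := by rw [hb]; group
  -- `b` has the property `Sh` for `Q k`
  have hSh : ∀ k : Fin n, k ≠ 0 → k ≠ p → k ≠ q → Sh W (Q k) b := by
    intro k hk0 hkp hkq
    have h1 := h.sh hAV hpq hp hq hkp hkq (hc k hk0 hkp hkq) (inv_mem hx) ha
    rwa [inv_inv, ← hb] at h1
  obtain ⟨w, hw⟩ : ∃ w, w = x * zz ε p * x⁻¹ := ⟨_, rfl⟩
  have hwW : w ∈ W := by
    rw [hw]
    exact (mem_normalizer_iff.1 (h.WX p q hpq hp hq hx) _).1 (h.VW (h.ev.mem _))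
  -- `[a, w] = z_q z_p`
  have h1 : a * w * a⁻¹ * w⁻¹ = ε (Pi.single p 1 + Pi.single q 1) := by
    have h2 : b * zz ε p * b⁻¹ = zz ε q := by
      have h3 := hs.single p
      rwa [Equiv.swap_apply_left] at h3
    have h3 : a * w * a⁻¹ * w⁻¹ = x * (b * zz ε p * b⁻¹ * (zz ε p)⁻¹) * x⁻¹ := by
      rw [hw, hab]; group
    rw [h3, h2]
    have h4 : zz ε q * (zz ε p)⁻¹ = ε (Pi.single p 1 + Pi.single q 1) := by
      rw [zz, zz, h.ev.inv, h.ev.add, h.ev.comm]
    rw [h4]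
    exact (mem_YG h.ev).1 hx _ (single_add_cst hpq)
  -- `[q_j, w] = z_j z_p`
  have key : ∀ j : Fin n, j ≠ 0 → j ≠ p → j ≠ q →
      ∃ r ∈ centralizer (V : Set G), r * w * r⁻¹ * w⁻¹ = ε (Pi.single p 1 + Pi.single j 1) := by
    intro j hj0 hjp hjq
    -- the 3-cycle `p → q → j → p`
    obtain ⟨g, hg, hσ⟩ := h.ev.full (Equiv.swap p j * Equiv.swap p q)
    set σ : Equiv.Perm (Fin n) := Equiv.swap p j * Equiv.swap p q with hσd
    have e1 : σ p = q := by
      rw [hσd, Equiv.Perm.mul_apply, Equiv.swap_apply_left, Equiv.swap_apply_of_ne_of_ne hpq.symm hjq.symm]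
    have e2 : σ q = j := by
      rw [hσd, Equiv.Perm.mul_apply, Equiv.swap_apply_right, Equiv.swap_apply_left]
    have e3 : σ j = p := by
      rw [hσd, Equiv.Perm.mul_apply, Equiv.swap_apply_of_ne_of_ne hjp hjq, Equiv.swap_apply_right]
    have e0 : σ 0 = 0 := by
      rw [hσd, Equiv.Perm.mul_apply, Equiv.swap_apply_of_ne_of_ne hp.symm hq.symm,
        Equiv.swap_apply_of_ne_of_ne hp.symm hj0.symm]
    have hgW : g ∈ normalizer (W : Set G) := by
      refine h.WL g hg ?_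
      have h5 := hσ.single 0
      rwa [e0] at h5
    have hPP : ∀ y, y ∈ Q j ↔ g * y * g⁻¹ ∈ Q p := by
      intro y
      constructor
      · intro hy
        have h5 := h.QL g σ hσ j y hy
        rwa [e3] at h5
      · intro hy
        have h5 := h.QL g⁻¹ σ⁻¹ hσ.inv p _ hy
        have e4 : σ⁻¹ p = j := by rw [← e3]; exact σ.symm_apply_apply j
        rw [e4] at h5
        have e5 : g⁻¹ * (g * y * g⁻¹) * g⁻¹⁻¹ = y := by group
        rwa [e5] at h5
    have hd := (hSh j hj0 hjp hjq).conj hgW hPP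
    have hdσ : Acts ε (g * b * g⁻¹) (Equiv.swap q j) := by
      have h5 := hσ.conj hs
      have h6 : σ * Equiv.swap p q * σ⁻¹ = Equiv.swap q j := by
        rw [← e1, ← e2, Equiv.swap_apply_apply, e1]
      rwa [h6] at h5
    obtain ⟨d, hdd⟩ : ∃ d, d = g * b * g⁻¹ := ⟨_, rfl⟩
    rw [← hdd] at hd hdσ
    refine ⟨d * a * d⁻¹, h.QV p ((mem_normalizer_iff.1 hd.1 a).1 (hA ha)), ?_⟩
    rw [← hd.2 a (hA ha) w hwW, h1, hdσ]
    congr 1
    funext t
    simp only [Function.comp, Equiv.symm_swap, Pi.add_apply, Pi.single_apply]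
    have e6 : (Equiv.swap q j t = p) = (t = p) := by
      rw [Equiv.swap_apply_eq_iff, Equiv.swap_apply_of_ne_of_ne hpq hjp.symm]
    have e7 : (Equiv.swap q j t = q) = (t = j) := by
      rw [Equiv.swap_apply_eq_iff, Equiv.swap_apply_left]
    simp only [e6, e7]
  obtain ⟨j, hj0, hjp, hjq, -⟩ := h.exists_letter p q q
  obtain ⟨k, hk0, hkp, hkq, hkj⟩ := h.exists_letter p q j
  obtain ⟨r, hr, hr1⟩ := key j hj0 hjp hjq
  obtain ⟨s, hs', hs1⟩ := key k hk0 hkp hkq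
  -- `[r s, w] = z_j z_k`
  have hq1 : (r * s) * w * (r * s)⁻¹ * w⁻¹ = ε (Pi.single k 1 + Pi.single j 1) := by
    have h5 : s * w * s⁻¹ = ε (Pi.single p 1 + Pi.single k 1) * w := by rw [← hs1]; group
    have h6 : r * w * r⁻¹ = ε (Pi.single p 1 + Pi.single j 1) * w := by rw [← hr1]; group
    have h7 := mem_centralizer_iff.mp hr _ (h.ev.mem (Pi.single p 1 + Pi.single k 1))
    calc (r * s) * w * (r * s)⁻¹ * w⁻¹ = r * (s * w * s⁻¹) * r⁻¹ * w⁻¹ := by group
      _ = r * (ε (Pi.single p 1 + Pi.single k 1) * w) * r⁻¹ * w⁻¹ := by rw [h5]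
      _ = (r * ε (Pi.single p 1 + Pi.single k 1)) * w * r⁻¹ * w⁻¹ := by group
      _ = ε (Pi.single p 1 + Pi.single k 1) * (r * w * r⁻¹) * w⁻¹ := by rw [← h7]; group
      _ = ε (Pi.single p 1 + Pi.single k 1) * ε (Pi.single p 1 + Pi.single j 1) := by rw [h6]; group
      _ = ε (Pi.single p 1 + Pi.single k 1 + (Pi.single p 1 + Pi.single j 1)) := (h.ev.add _ _).symm
      _ = _ := by
        congr 1
        have h8 : (Pi.single p 1 + Pi.single k 1 + (Pi.single p 1 + Pi.single j 1) : Fin n → ZMod 2) =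
            (Pi.single p 1 + Pi.single p 1) + (Pi.single k 1 + Pi.single j 1) := by abel
        rw [h8, add_self, zero_add]
  have hpp : (x⁻¹ * (r * s) * x) * zz ε p * (x⁻¹ * (r * s) * x)⁻¹ =
      ε (Pi.single k 1 + Pi.single j 1 + Pi.single p 1) := by
    have h5 : (x⁻¹ * (r * s) * x) * zz ε p * (x⁻¹ * (r * s) * x)⁻¹ =
        x⁻¹ * (((r * s) * w * (r * s)⁻¹ * w⁻¹) * w) * x⁻¹⁻¹ := by rw [hw]; group
    rw [h5, hq1]
    have h6 : x⁻¹ * ε (Pi.single k 1 + Pi.single j 1) * x⁻¹⁻¹ = ε (Pi.single k 1 + Pi.single j 1) :=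
      (mem_YG h.ev).1 (inv_mem hx) _ (single_add_cst' hkp hkq hjp hjq)
    calc x⁻¹ * (ε (Pi.single k 1 + Pi.single j 1) * w) * x⁻¹⁻¹
        = (x⁻¹ * ε (Pi.single k 1 + Pi.single j 1) * x⁻¹⁻¹) * (x⁻¹ * w * x⁻¹⁻¹) := by group
      _ = ε (Pi.single k 1 + Pi.single j 1) * zz ε p := by rw [h6, hw]; group
      _ = _ := by rw [zz, ← h.ev.add]
  obtain ⟨i, hi⟩ := h.fus p (x⁻¹ * (r * s) * x) (by rw [hpp]; exact h.ev.mem _)
  rw [hpp, zz] at hi
  rcases h.ev.eq_iff.mp hi with h5 | h5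
  · have h6 := congrFun h5 k
    have h7 := congrFun h5 j
    simp only [Pi.add_apply, Pi.single_apply] at h6 h7
    simp only [hkj, hkj.symm, hkp, hjp, ↓ _root_.reduceIte, _root_.add_zero, _root_.left_eq_ite_iff, _root_.one_ne_zero, _root_.imp_false, _root_.Decidable.not_not, _root_.zero_add] at h6 h7
    exact hkj (h6.trans h7.symm)
  · have h6 := congrFun h5 0
    have h7 := congrFun h5 q
    simp only [Pi.add_apply, Pi.single_apply, Pi.one_apply] at h6 h7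
    simp only [hj0.symm, hk0.symm, hp.symm, hjq.symm, hkq.symm, hpq.symm, if_false, add_zero] at h6 h7
    have h8 : (0 : Fin n) = i := by
      by_contra hne
      rw [if_neg hne, zero_add] at h6
      exact zero_ne_one h6
    have h9 : q = i := by
      by_contra hne
      rw [if_neg hne, zero_add] at h7
      exact zero_ne_one h7
    exact hq (h9.trans h8.symm)

end Cfsg.Agent.Omega.NO3S.SN.ROne

end

section


/-!
# LightL at levels, `r = 1` (helper763 #23689): the group form of `SwR`, `AtR`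

`Y` acts on the elementary abelian `W` by conjugation and centralises `R ≤ W`.

* `GSw Y W R T O θ` : the hypotheses of the reduction (69's `SwR`) for the image of `Y` in `Aut(W)`;
* `GAt Y W R O A θ` : `A ≤ O` acts on `W` as a minimal best offender, `|A : C_A(W)| ≥ 4`, and `A` centralises the
  conjugates of `θ` which it normalises modulo `R`.
-/

set_option autoImplicit false

namespace Cfsg.Agent.Omega.NO3S.SN.ROne

open Subgroup Cfsg

universe u

variable {G : Type u} [Group G]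

/-- **The group form of `SwR`.** -/
structure GSw (Y W R T O : Subgroup G) (θ : G) : Prop where
  kY : IsKGroup Y
  WY : Y ≤ normalizer (W : Set G)
  Wc : ∀ a ∈ W, ∀ b ∈ W, a * b = b * a
  Ws : ∀ a ∈ W, a * a = 1
  RW : R ≤ W
  RY : Y ≤ centralizer (R : Set G)
  faith : ∀ y ∈ Y, (∀ w ∈ W, y * w * y⁻¹ * w⁻¹ ∈ R) → y ∈ centralizer (W : Set G)
  TY : T ≤ Y
  T2 : IsPGroup 2 T
  syl : ¬ 2 ∣ T.relIndex Y
  fixT : ∀ w ∈ W, (∀ t ∈ T, t * w * t⁻¹ = w) → w ∈ R
  θW : θ ∈ W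
  θR : θ ∉ R
  Tθ : ∀ t ∈ T, t * θ * t⁻¹ * θ⁻¹ ∈ R
  gen : ∀ U : Subgroup G, R ≤ U → (∀ y ∈ Y, y * θ * y⁻¹ ∈ U) → W ≤ U
  OY : O ≤ Y
  O2 : IsPGroup 2 O
  Oθ : ∀ o ∈ O, o * θ * o⁻¹ * θ⁻¹ ∈ R
  On : ∀ y ∈ Y, y * θ * y⁻¹ * θ⁻¹ ∈ R → y ∈ normalizer (O : Set G)

/-- **`A` is a minimal best offender of order at least 4 in `O`**, type (c) absent. -/
structure GAt (Y W R O A : Subgroup G) (θ : G) : Prop where
  AO : A ≤ O
  sq : ∀ a ∈ A, a * a ∈ centralizer (W : Set G)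
  quad : ∀ a ∈ A, ∀ b ∈ A, ∀ w ∈ W, a * (b * w * b⁻¹ * w⁻¹) * a⁻¹ = b * w * b⁻¹ * w⁻¹
  four : 4 ≤ (centralizer (W : Set G)).relIndex A
  off : (centralizer (A : Set G)).relIndex W ≤ (centralizer (W : Set G)).relIndex A
  min : ∀ B : Subgroup G, A ⊓ centralizer (W : Set G) < B → B < A →
    (centralizer (W : Set G)).relIndex B < (centralizer (B : Set G)).relIndex W
  m1 : ∀ a ∈ A, ∀ y ∈ Y, a * (y * θ * y⁻¹) * a⁻¹ * (y * θ * y⁻¹)⁻¹ ∈ R →
    a * (y * θ * y⁻¹) * a⁻¹ = y * θ * y⁻¹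

end Cfsg.Agent.Omega.NO3S.SN.ROne

end

section


/-!
# `r = 1`: the frame gives `GSw` (helper763 #23689 (1))

`Y = X_pq = C_G(V_pq)` on `W_pq = ⟨V^Y⟩`, `R = V_pq`, `θ = z_p`, `O = O₂(C_G(V))`.
-/

set_option autoImplicit false
set_option linter.unusedSectionVars false

namespace Cfsg.Agent.Omega.NO3S.SN.ROne

open Subgroup Cfsg Cfsg.Agent.ZN Cfsg.Agent.Omega.S5.Def Cfsg.Agent.Omega.NO3S.SN.R1
open Cfsg.Agent.MinSimple.VModule

universe u

variable {G : Type u} [Group G]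

/-- a Sylow subgroup meets a normal subgroup in a Sylow subgroup -/
theorem not_dvd_of_normal [Finite G] {N X T : Subgroup G} (hT : IsPGroup 2 T)
    (hs : ¬ 2 ∣ T.relIndex N) (hX : X ≤ N) (hn : N ≤ normalizer (X : Set G)) : ¬ 2 ∣ T.relIndex X := by
  have : Fact (Nat.Prime 2) := ⟨Nat.prime_two⟩
  have hT' : IsPGroup 2 (T.subgroupOf N) := hT.comap_of_injective _ N.subtype_injective
  have : (X.subgroupOf N).Normal := normal_subgroupOf_of_le_normalizer hn
  have h1 := Lib.SylowNormalInf.not_dvd_relIndex (hT'.toSylow hs) (X.subgroupOf N)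
  have h2 : (((hT'.toSylow hs : Sylow 2 N) : Subgroup N)).relIndex (X.subgroupOf N) = T.relIndex X := by
    change (T.subgroupOf N).relIndex (X.subgroupOf N) = T.relIndex X
    rw [Subgroup.relIndex_subgroupOf hX]
  rwa [h2] at h1

theorem not_dvd_of_le [Finite G] {T B Y : Subgroup G} (hT : T ≤ B) (hB : B ≤ Y) (hs : ¬ 2 ∣ T.relIndex Y) :
    ¬ 2 ∣ T.relIndex B := fun h => hs (h.trans (Dvd.intro _ (relIndex_mul_relIndex _ _ _ hT hB)))

variable {n : ℕ} [NeZero n] {V W A : Subgroup G} {ε : (Fin n → ZMod 2) → G} {Q : Fin n → Subgroup G}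

omit [NeZero n] in
/-- a vector of `V` centralised by an element inducing `(p q)` lies in `V_pq` -/
theorem mem_VG_of_swap (hn : 3 ≤ n) (ev : EvenSet n V (normalizer (V : Set G)) ε) {p q : Fin n} (hpq : p ≠ q) {t v : G}
    (ht : Acts ε t (Equiv.swap p q)) (hv : v ∈ V) (h : t * v * t⁻¹ = v) : v ∈ VG ε {p, q} := by
  obtain ⟨x, rfl⟩ := ev.surj v hv
  rw [ht x] at h
  rw [mem_VG_iff ev]
  have h3 : x p = x q := by
    rcases ev.eq_iff.1 h with h1 | h1
    · have h2 := congrFun h1 p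
      simp only [Function.comp, Equiv.symm_swap, Equiv.swap_apply_left] at h2
      exact h2.symm
    · exfalso
      obtain ⟨c, hc⟩ : ∃ c : Fin n, c ≠ p ∧ c ≠ q := by
        have h2 : ({p, q} : Finset (Fin n)).card < (Finset.univ : Finset (Fin n)).card := by
          rw [Finset.card_univ, Fintype.card_fin]
          exact lt_of_le_of_lt Finset.card_le_two (by omega)
        obtain ⟨k, -, hk⟩ := Finset.exists_mem_notMem_of_card_lt_card h2
        simp only [Finset.mem_insert, Finset.mem_singleton, not_or] at hk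
        exact ⟨k, hk⟩
      have h2 := congrFun h1 c
      simp only [Function.comp, Equiv.symm_swap, Equiv.swap_apply_of_ne_of_ne hc.1 hc.2, Pi.add_apply,
        Pi.one_apply] at h2
      exact one_ne_zero (left_eq_add.1 h2)
  intro i hi j hj
  simp only [Finset.mem_insert, Finset.mem_singleton] at hi hj
  rcases hi with rfl | rfl <;> rcases hj with rfl | rfl <;> simp [h3]

/-- an element of `L ∩ X_pq` inducing `(p q)` -/
theorem Fr.exists_swap (h : Fr V W ε Q) {p q : Fin n} :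
    ∃ t ∈ normalizer (V : Set G), t ∈ YG ε {p, q} ∧ Acts ε t (Equiv.swap p q) := by
  obtain ⟨t, ht, hσ⟩ := h.ev.full (Equiv.swap p q)
  refine ⟨t, ht, mem_YG_of_acts h.ev hσ fun m hm => ?_, hσ⟩
  simp only [Finset.mem_insert, Finset.mem_singleton, not_or] at hm
  exact Equiv.swap_apply_of_ne_of_ne hm.1 hm.2

/-- `C_(W_pq)(T) ≤ V_pq` -/
theorem Fr.fixT [Finite G] (h : Fr V W ε Q) {p q : Fin n} (hp : p ≠ 0) (hq : q ≠ 0) (hpq : p ≠ q) {T : Subgroup G}
    (hTY : T ≤ YG ε {p, q}) (hTN : T ≤ normalizer (V : Set G)) (hT2 : IsPGroup 2 T)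
    (hTs : ¬ 2 ∣ T.relIndex (YG ε {p, q})) {w : G} (hw : w ∈ UG V ε {p, q}) (hf : ∀ t ∈ T, t * w * t⁻¹ = w) :
    w ∈ VG ε {p, q} := by
  have hn3 := h.n3
  have hB : T.relIndex (YG ε {p, q} ⊓ normalizer (V : Set G)) ∣ T.relIndex (YG ε {p, q}) :=
    Dvd.intro _ (relIndex_mul_relIndex _ _ _ (le_inf hTY hTN) inf_le_left)
  have h1 : ¬ 2 ∣ T.relIndex (YG ε {p, q} ⊓ normalizer (V : Set G)) := fun hd => hTs (hd.trans hB)
  have hCB : centralizer (V : Set G) ≤ YG ε {p, q} ⊓ normalizer (V : Set G) :=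
    le_inf (centralizer_le_YG h.ev _) (centralizer_le_normalizer _)
  have hBC : YG ε {p, q} ⊓ normalizer (V : Set G) ≤ normalizer (centralizer (V : Set G) : Set G) :=
    fun g hg => norm_cent hg.2
  have h2 := not_dvd_of_normal hT2 h1 hCB hBC
  have hwV : w ∈ V := by
    refine h.cV (T ⊓ centralizer (V : Set G)) inf_le_right (hT2.to_le inf_le_left) ?_ w
      (h.UG_le hpq hp hq hw) fun t ht => hf t ht.1
    rwa [inf_relIndex_right]
  -- `T` is not contained in `C(V)`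
  obtain ⟨t, htN, htY, htσ⟩ := h.exists_swap (p := p) (q := q)
  by_cases hc : T ≤ centralizer (V : Set G)
  · exfalso
    apply h1
    have h3 : (centralizer (V : Set G)).relIndex (YG ε {p, q} ⊓ normalizer (V : Set G)) = 2 := by
      rw [relIndex, index_eq_two_iff]
      refine ⟨⟨t, htY, htN⟩, fun b => ?_⟩
      have hb : ∀ c : G, c ∈ YG ε {p, q} → c ∈ normalizer (V : Set G) → Acts ε c (Equiv.swap p q) →
          c ∉ centralizer (V : Set G) := by
        intro c _ _ hc1 hc2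
        have h4 := h.ev.acts_unique hn3 hc1 (h.ev.acts_one_iff.2 hc2)
        have h5 : Equiv.swap p q p = p := by rw [h4]; rfl
        rw [Equiv.swap_apply_left] at h5
        exact hpq h5.symm
      rcases one_or_swap hn3 h.ev hpq b.2.1 b.2.2 with h4 | h4
      · right
        refine ⟨h4, ?_⟩
        rw [mem_subgroupOf]
        change (b : G) * t ∉ _
        intro h5
        have h6 : t ∈ centralizer (V : Set G) := (mul_mem_cancel_left h4).1 h5
        exact hb t htY htN htσ h6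
      · left
        refine ⟨?_, hb _ b.2.1 b.2.2 h4⟩
        rw [mem_subgroupOf]
        change (b : G) * t ∈ _
        refine h.ev.acts_one_iff.1 ?_
        have h5 := h4.mul htσ
        rwa [Equiv.swap_mul_self] at h5
    have h4 := relIndex_mul_relIndex T (centralizer (V : Set G)) _ hc hCB
    rw [← h4, h3]
    exact Dvd.intro_left _ rfl
  · rw [SetLike.not_le_iff_exists] at hc
    obtain ⟨s, hs, hsc⟩ := hc
    rcases one_or_swap hn3 h.ev hpq (hTY hs) (hTN hs) with h4 | h4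
    · exact absurd h4 hsc
    · exact mem_VG_of_swap hn3 h.ev hpq h4 hwV (hf s hs)

end Cfsg.Agent.Omega.NO3S.SN.ROne

end

private theorem dce_39ac7859929b : _root_.True := by
  try have : _root_.True := by simp only [_root_.Cfsg.Agent.Omega.NO3S.SN.RTwo.OV.eq_1]
  try have : _root_.True := by simp only [_root_.Cfsg.Agent.Omega.NO3S.SN.RTwo.PU.eq_1]
  try have : _root_.True := by simp only [_root_.Cfsg.Agent.Omega.NO3S.SN.RTwo.PY.eq_1]
  try have : _root_.True := by simp only [_root_.Cfsg.Agent.Omega.NO3S.SN.R1.VG.eq_1]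
  try have : _root_.True := by simp only [_root_.Cfsg.Agent.Omega.NO3S.SN.RTwo.PP.eq_1]
  try have : _root_.True := by simp only [_root_.Cfsg.Agent.Omega.NO3S.SN.RTwo.WI.eq_1]
  try have : _root_.True := by simp only [_root_.Cfsg.Agent.Omega.NO3S.SN.R1.YG.eq_1]
  try have : _root_.True := by simp only [_root_.Cfsg.Agent.Omega.NO3S.SN.RTwo.QQ.eq_1]
  try have : _root_.True := by simp only [_root_.Cfsg.Agent.Omega.NO3S.SN.R1.UG.eq_1]
  try have : _root_.True := by simp only [_root_.Cfsg.Agent.Omega.NO3S.SN.R1.zz.eq_1]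
  try have : _root_.True := by simp only [_root_.Cfsg.Agent.Omega.NO3S.SN.RTwo.PM.eq_1]
  try have : _root_.True := by simp only [_root_.Cfsg.Agent.Omega.NO3S.SN.R1.Cl.eq_1]
  exact _root_.True.intro
end

-- part: Mrg/Omega/IId/SymHalf
section
prune_inst 0xc0000000002200000000000000003c428a000002006b0001c1000a04068089000000072180001010000228040030000002880040001000000000000001180481000000020000a000000000000004000000000000000000000000000000000000000000000
set_option linter.all false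
open scoped Cfsg.Agent.FastGrp

section


/-!
# II.d, mixed pairs: HALF LEMMA, APPLICATION 2 of helper7 #11954, one natural `O₄⁻(2)`-module

`M : FiveMod V L`, `S ≤ L` a Sylow 2-subgroup of `G` which induces `D₈ = C((0 1)(2 3))` on `V` (`Adapt`),
`n = M.e nn` the pair `{0, 1}`, `vn M` the even subsets of `{2, 3, 4}`, `C = C_G(n)`:

* `vn_le` : `vn M ≤ O₂(C)`, `O₂(C)` centralises `vn M`;
* `o2_le` : `O₂(C) ≤ C_S(n)`;
* `comm` : `[v, x] ∈ ⟨n⟩` for `v ∈ V`, `x ∈ O₂(C)`.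
-/

set_option autoImplicit false
set_option linter.unusedSectionVars false

namespace Cfsg.Agent.Omega.IId.Sym

open Subgroup Cfsg Cfsg.Agent.ZN.ChoiceBase
open Cfsg.Agent.ZN (o2 zc zl)
open Cfsg.Agent.MinSimple.VModule (mem_zc zc_le o2_isPGroup le_normalizer_o2)
open Cfsg.Agent.Omega.S5.Mod Cfsg.Agent.Omega.S5.TT Cfsg.Agent.Omega.S5.Types

universe u

variable {G : Type u} [Group G]

/-! ### Permutations -/

/-- `{2, 4}` -/
def bb : Vec := ![0, 0, 1, 0, 1]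

/-- `{3, 4}` -/
def cc : Vec := ![0, 0, 0, 1, 1]

/-- the even subsets of `{2, 3, 4}` -/
def InU (x : Vec) : Prop := x = 0 ∨ x = aa ∨ x = bb ∨ x = cc

instance : DecidablePred InU := fun _ => by unfold InU; infer_instance

theorem inU_add : ∀ x : Vec, InU x → ∀ y : Vec, InU y → InU (x + y) := by
  rintro x (rfl | rfl | rfl | rfl) y (rfl | rfl | rfl | rfl) <;> decide

theorem inU_fix : ∀ p : Equiv.Perm (Fin 5), (nn ∘ p.symm = nn ∨ nn ∘ p.symm = nn + 1) →
    InU (aa ∘ p.symm) ∧ InU (bb ∘ p.symm) ∧ InU (cc ∘ p.symm) := by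
  decide +kernel

theorem ttp_mul : ∀ p q : Equiv.Perm (Fin 5), TTp (p * S5.TT.tt) → TTp (q * S5.TT.tt) → TTp (p * q) := by
  have e : S5.TT.tt * S5.TT.tt = 1 := by decide
  have key : ∀ p r : Equiv.Perm (Fin 5), p * S5.TT.tt = r → p = r * S5.TT.tt := by
    rintro p _ rfl
    rw [mul_assoc, e, mul_one]
  rintro p q (h1 | h1 | h1 | h1) (h2 | h2 | h2 | h2) <;> rw [key p _ h1, key q _ h2] <;> decide

theorem ss_not : ∀ p : Equiv.Perm (Fin 5), nn ∘ p.symm ≠ ss ∧ nn ∘ p.symm ≠ ss + 1 ∧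
    nn ∘ p.symm ≠ 0 ∧ nn ∘ p.symm ≠ 1 := by
  decide +kernel

/-! ### The group `V_n` -/

section

variable {V L : Subgroup G} (M : FiveMod V L)

/-- `V_n`, the even subsets of `{2, 3, 4}`. -/
def vn : Subgroup G where
  carrier := {v | ∃ x : Vec, InU x ∧ M.e x = v}
  one_mem' := ⟨0, Or.inl rfl, M.e_zero⟩
  mul_mem' := by
    rintro _ _ ⟨x, hx, rfl⟩ ⟨y, hy, rfl⟩
    exact ⟨x + y, inU_add x hx y hy, M.e_add x y⟩
  inv_mem' := by
    rintro _ ⟨x, hx, rfl⟩
    exact ⟨x, hx, (M.e_inv x).symm⟩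

theorem vn_le_V : vn M ≤ V := by
  rintro _ ⟨x, -, rfl⟩
  exact M.e_mem x

theorem aa_mem : M.e aa ∈ vn M := ⟨aa, Or.inr (Or.inl rfl), rfl⟩

theorem bb_mem : M.e bb ∈ vn M := ⟨bb, Or.inr (Or.inr (Or.inl rfl)), rfl⟩

theorem cc_mem : M.e cc ∈ vn M := ⟨cc, Or.inr (Or.inr (Or.inr rfl)), rfl⟩

theorem n_sq : M.e nn ^ 2 = 1 := by rw [pow_two, M.e_sq]

theorem n_ne_one : M.e nn ≠ 1 := by
  intro h
  rcases (M.ker nn).1 h with h1 | h1
  · revert h1; decide
  · revert h1; decide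

/-- `C_L(n)` -/
def lz : Subgroup G := L ⊓ centralizer ({M.e nn} : Set G)

theorem mem_lz {g : G} : g ∈ lz M ↔ g ∈ L ∧ g * M.e nn = M.e nn * g := by
  rw [lz, mem_inf, mem_centralizer_singleton_iff]

variable {M} in
/-- An element of `C(n)` permutes `{2, 3, 4}`. -/
theorem conj_vn {g : G} {p : Equiv.Perm (Fin 5)} (hg : M.Ind g p)
    (hn : nn ∘ p.symm = nn ∨ nn ∘ p.symm = nn + 1) {v : G} (hv : v ∈ vn M) : g * v * g⁻¹ ∈ vn M := by
  obtain ⟨x, hx, rfl⟩ := hv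
  obtain ⟨h1, h2, h3⟩ := inU_fix p hn
  rw [hg x]
  rcases hx with rfl | rfl | rfl | rfl
  · exact ⟨0, Or.inl rfl, rfl⟩
  · exact ⟨_, h1, rfl⟩
  · exact ⟨_, h2, rfl⟩
  · exact ⟨_, h3, rfl⟩

theorem lz_normalizes : lz M ≤ normalizer (vn M : Set G) := by
  have key : ∀ g ∈ lz M, ∀ v ∈ vn M, g * v * g⁻¹ ∈ vn M := by
    intro g hg v hv
    obtain ⟨h1, h2⟩ := (mem_lz M).1 hg
    obtain ⟨p, hp⟩ := M.exists_ind h1
    exact conj_vn hp ((hp.commute_iff nn).1 h2) hv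
  intro g hg
  rw [mem_normalizer_iff]
  intro v
  refine ⟨key g hg v, fun h => ?_⟩
  have h1 := key g⁻¹ (inv_mem hg) _ h
  have e : g⁻¹ * (g * v * g⁻¹) * g⁻¹⁻¹ = v := by group
  rwa [e] at h1

/-- A permutation fixing `0` and `1` is induced by an element of `C_L(n)`. -/
theorem exists_lz {p : Equiv.Perm (Fin 5)} (hp : nn ∘ p.symm = nn) : ∃ g ∈ lz M, M.Ind g p := by
  obtain ⟨g, hg, hi⟩ := M.exists_lift p
  exact ⟨g, (mem_lz M).2 ⟨hg, (hi.commute_iff nn).2 (Or.inl hp)⟩, hi⟩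

theorem trans_vn {v w : G} (hv : v ∈ vn M) (hv1 : v ≠ 1) (hw : w ∈ vn M) (hw1 : w ≠ 1) :
    ∃ g ∈ lz M, g * v * g⁻¹ = w := by
  have key : ∀ x y : Vec, InU x → x ≠ 0 → InU y → y ≠ 0 →
      ∃ p : Equiv.Perm (Fin 5), nn ∘ p.symm = nn ∧ x ∘ p.symm = y := by
    have h1 : ∀ x : Vec, InU x → x ≠ 0 → x = aa ∨ x = bb ∨ x = cc := by
      rintro x (rfl | rfl | rfl | rfl) h
      · exact absurd rfl h
      · exact Or.inl rfl
      · exact Or.inr (Or.inl rfl)
      · exact Or.inr (Or.inr rfl)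
    intro x y hx hx0 hy hy0
    rcases h1 x hx hx0 with rfl | rfl | rfl <;> rcases h1 y hy hy0 with rfl | rfl | rfl
    · exact ⟨1, by decide, by decide⟩
    · exact ⟨Equiv.swap 3 4, by decide, by decide⟩
    · exact ⟨Equiv.swap 2 4, by decide, by decide⟩
    · exact ⟨Equiv.swap 3 4, by decide, by decide⟩
    · exact ⟨1, by decide, by decide⟩
    · exact ⟨Equiv.swap 2 3, by decide, by decide⟩
    · exact ⟨Equiv.swap 2 4, by decide, by decide⟩
    · exact ⟨Equiv.swap 2 3, by decide, by decide⟩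
    · exact ⟨1, by decide, by decide⟩
  obtain ⟨x, hx, rfl⟩ := hv
  obtain ⟨y, hy, rfl⟩ := hw
  have hx0 : x ≠ 0 := fun h => hv1 (by rw [h, M.e_zero])
  have hy0 : y ≠ 0 := fun h => hw1 (by rw [h, M.e_zero])
  obtain ⟨p, hp, hxy⟩ := key x y hx hx0 hy hy0
  obtain ⟨g, hg, hi⟩ := exists_lz M hp
  exact ⟨g, hg, by rw [hi x, hxy]⟩

theorem vn_irr (X : Subgroup G) (hX : X ≤ vn M) (hn : lz M ≤ normalizer (X : Set G)) :
    X = ⊥ ∨ X = vn M := by
  by_cases h : X = ⊥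
  · exact Or.inl h
  right
  obtain ⟨x, hx1⟩ := ne_bot_iff_exists_ne_one.1 h
  have hx2 : (x : G) ≠ 1 := fun h => hx1 (Subtype.ext h)
  refine le_antisymm hX fun w hw => ?_
  by_cases hw1 : w = 1
  · rw [hw1]; exact one_mem _
  obtain ⟨l, hl, rfl⟩ := trans_vn M (hX x.2) hx2 hw hw1
  exact (mem_normalizer_iff.1 (hn hl) _).1 x.2

theorem vn_cent : vn M ⊓ centralizer (lz M : Set G) = ⊥ := by
  rw [eq_bot_iff]
  rintro v ⟨hv, hc⟩
  rw [mem_bot]
  by_contra hv1
  have ha : M.e aa ≠ 1 := by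
    intro h
    rcases (M.ker aa).1 h with h1 | h1
    · revert h1; decide
    · revert h1; decide
  have hb : M.e bb ≠ 1 := by
    intro h
    rcases (M.ker bb).1 h with h1 | h1
    · revert h1; decide
    · revert h1; decide
  have hab : M.e aa ≠ M.e bb := by
    intro h
    rcases M.e_eq_iff.1 h with h1 | h1
    · revert h1; decide
    · revert h1; decide
  obtain ⟨g, hg, h1⟩ := trans_vn M hv hv1 (aa_mem M) ha
  obtain ⟨k, hk, h2⟩ := trans_vn M hv hv1 (bb_mem M) hb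
  apply hab
  rw [← h1, ← h2, mem_centralizer_iff.1 hc g hg, mem_centralizer_iff.1 hc k hk]
  group

end

/-! ### Adapted labels -/

/-- `S ≤ L` induces `D₈ = C((0 1)(2 3))` on `V`. -/
structure Adapt {V L : Subgroup G} (S : Subgroup G) (M : FiveMod V L) : Prop where
  SL : S ≤ L
  d8 : ∀ g ∈ S, ∀ p, M.Ind g p → p * dd = dd * p
  ex : ∀ p, p * dd = dd * p → ∃ g ∈ S, M.Ind g p
  zc : zc S ≤ V

section adapt

variable [Finite G] {V L : Subgroup G} {S : Sylow 2 G} {M : FiveMod V L} (h : Adapt (S : Subgroup G) M)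

include h

/-- `C_S(n)` -/
theorem mem_T {g : G} (hg : g ∈ (S : Subgroup G)) {p : Equiv.Perm (Fin 5)} (hp : M.Ind g p) :
    g * M.e nn = M.e nn * g ↔ TTp p := by
  rw [hp.commute_iff nn]
  exact ⟨fun h1 => ttp_of p (h.d8 g hg p hp) h1, fun h1 => Or.inl (ttp_nn p h1)⟩

theorem exists_t : ∃ t ∈ (S : Subgroup G), M.Ind t tt ∧ t * M.e nn * t⁻¹ = M.e aa := by
  obtain ⟨t, ht, hi⟩ := h.ex tt (by decide)
  have e : nn ∘ (S5.TT.tt).symm = aa := by decide
  exact ⟨t, ht, hi, by rw [hi nn, e]⟩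

/-- `T = C_S(n)` has index 2 in `S`. -/
theorem two_T {a b : G} (ha : a ∈ (S : Subgroup G)) (hb : b ∈ (S : Subgroup G))
    (hna : ¬ a * M.e nn = M.e nn * a) (hnb : ¬ b * M.e nn = M.e nn * b) :
    a * b * M.e nn = M.e nn * (a * b) := by
  obtain ⟨p, hp⟩ := M.exists_ind (h.SL ha)
  obtain ⟨q, hq⟩ := M.exists_ind (h.SL hb)
  rw [mem_T h ha hp] at hna
  rw [mem_T h hb hq] at hnb
  rw [mem_T h (mul_mem ha hb) (hp.mul hq)]
  exact ttp_mul _ _ ((ttp_or p (h.d8 a ha p hp)).resolve_left hna)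
    ((ttp_or q (h.d8 b hb q hq)).resolve_left hnb)

/-- `C_S(n)` -/
theorem card_T : Nat.card (S : Subgroup G) =
    2 * Nat.card ((S : Subgroup G) ⊓ centralizer ({M.e nn} : Set G) : Subgroup G) := by
  set T := (S : Subgroup G) ⊓ centralizer ({M.e nn} : Set G) with hT
  have hmem : ∀ x, x ∈ T ↔ x ∈ (S : Subgroup G) ∧ x * M.e nn = M.e nn * x := by
    intro x
    rw [hT, mem_inf, mem_centralizer_singleton_iff]
  obtain ⟨t, ht, -, htn⟩ := exists_t h
  have htT : t ∉ T := by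
    intro h1
    have h2 := ((hmem t).1 h1).2
    rw [h2, mul_inv_cancel_right] at htn
    rcases M.e_eq_iff.1 htn with h3 | h3
    · revert h3; decide
    · revert h3; decide
  have hrel : T.relIndex (S : Subgroup G) = 2 := by
    rw [relIndex, index_eq_two_iff]
    refine ⟨⟨t, ht⟩, fun b => ?_⟩
    simp only [mem_subgroupOf, Subgroup.coe_mul]
    by_cases hb : (b : G) ∈ T
    · right
      refine ⟨hb, fun h1 => htT ?_⟩
      rwa [Subgroup.mul_mem_cancel_left _ hb] at h1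
    · left
      refine ⟨(hmem _).2 ⟨mul_mem b.2 ht, two_T h b.2 ht (fun h1 => hb ((hmem _).2 ⟨b.2, h1⟩))
        (fun h1 => htT ((hmem _).2 ⟨ht, h1⟩))⟩, hb⟩
  rw [← Half.card_mul_relIndex (inf_le_left : T ≤ (S : Subgroup G)), hrel, mul_comm]

/-- `|Ω₁Z(S)| = 2` -/
theorem zc_cases {x : G} (hx : x ∈ ZN.zc (S : Subgroup G)) : x = 1 ∨ x = M.e ss :=
  zc_le_of M S h.zc h.ex hx

theorem card_zc_le : Nat.card (ZN.zc (S : Subgroup G)) ≤ 2 := by
  classical
  have h1 : (ZN.zc (S : Subgroup G) : Set G) ⊆ (({1, M.e ss} : Finset G) : Set G) := by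
    intro x hx
    rw [Finset.coe_insert, Finset.coe_singleton]
    exact zc_cases h hx
  have h2 : Nat.card (ZN.zc (S : Subgroup G)) = (ZN.zc (S : Subgroup G) : Set G).ncard :=
    Nat.card_coe_set_eq _
  rw [h2]
  refine (Set.ncard_le_ncard h1 (Set.toFinite _)).trans ?_
  rw [Set.ncard_coe_finset]
  exact Finset.card_le_two

/-- **HALF LEMMA, APPLICATION 2** (one `O₄⁻(2)`-module). -/
theorem half (hG : IsCharacteristicTwoType G) :
    vn M ≤ o2 (centralizer ({M.e nn} : Set G)) ∧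
      o2 (centralizer ({M.e nn} : Set G)) ≤ centralizer (vn M : Set G) := by
  have hVS := V_le_S M S h.SL
  have hVT : V ≤ (S : Subgroup G) ⊓ centralizer ({M.e nn} : Set G) := fun v hv =>
    ⟨hVS hv, mem_centralizer_singleton_iff.2 (M.comm hv (M.e_mem nn))⟩
  refine Half.gen hG S (P := L) (So := (S : Subgroup G) ⊓ centralizer ({M.e nn} : Set G)) (L := lz M)
    (U := vn M) (z := M.e nn) h.SL inf_le_left (card_T h) (n_ne_one M) (n_sq M) (hVT (M.e_mem nn))
    (inf_le_inf_right _ h.SL) inf_le_left (fun x hx => ((mem_lz M).1 hx).2) ?_ ((vn_le_V M).trans hVT)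
    (lz_normalizes M) (fun a ha b hb => M.comm (vn_le_V M ha) (vn_le_V M hb))
    (fun a ha => by rw [pow_two]; exact M.sq (vn_le_V M ha)) (vn_irr M) (vn_cent M) ?_
  · intro g hg hc
    obtain ⟨p, hp⟩ := M.exists_ind hg
    have h1 : g * M.e nn * g⁻¹ ∈ ZN.zc (S : Subgroup G) := by
      refine mem_zc.2 ⟨?_, hc, ?_⟩
      · rw [hp nn]
        exact hVS (M.e_mem _)
      · rw [hp nn, pow_two, M.e_sq]
    obtain ⟨h3, h4, h5, h6⟩ := ss_not p
    rcases zc_cases h h1 with h2 | h2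
    · rw [hp nn, M.ker] at h2
      exact h2.elim h5 h6
    · rw [hp nn, M.e_eq_iff] at h2
      exact h2.elim h3 h4
  · refine (card_zc_le h).trans ?_
    have h1 : M.e aa ∈ (vn M ⊓ centralizer (((S : Subgroup G) ⊓ centralizer ({M.e nn} : Set G) : Subgroup G) :
        Set G) : Subgroup G) := by
      refine ⟨aa_mem M, mem_centralizer_iff.2 fun g hg => ?_⟩
      obtain ⟨p, hp⟩ := M.exists_ind (h.SL hg.1)
      have h2 : TTp p := (mem_T h hg.1 hp).1 (mem_centralizer_singleton_iff.1 hg.2)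
      exact (hp.commute_iff aa).2 (Or.inl (ttp_aa p h2))
    have h2 : M.e aa ≠ 1 := by
      intro h
      rcases (M.ker aa).1 h with h1 | h1
      · revert h1; decide
      · revert h1; decide
    by_contra hcon
    push Not at hcon
    have h3 : Nat.card (vn M ⊓ centralizer (((S : Subgroup G) ⊓ centralizer ({M.e nn} : Set G) : Subgroup G) :
        Set G) : Subgroup G) = 1 := by
      have h4 : 0 < Nat.card (vn M ⊓ centralizer (((S : Subgroup G) ⊓ centralizer ({M.e nn} : Set G) :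
        Subgroup G) : Set G) : Subgroup G) := Nat.card_pos
      omega
    rw [card_eq_one] at h3
    rw [h3, mem_bot] at h1
    exact h2 h1

/-- `O₂(C_G(n)) ≤ C_S(n)` -/
theorem o2_le (hG : IsCharacteristicTwoType G) : o2 (centralizer ({M.e nn} : Set G)) ≤ (S : Subgroup G) := by
  set C := centralizer ({M.e nn} : Set G) with hC
  set T := (S : Subgroup G) ⊓ C with hT
  obtain ⟨h1, h2⟩ := half h hG
  have hTC : T ≤ C := inf_le_right
  have hT2 : IsPGroup 2 T := S.isPGroup'.to_le inf_le_left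
  -- `O₂(C) T` is a 2-group
  have hR2 : IsPGroup 2 (T ⊔ o2 C : Subgroup G) :=
    IsPGroup.to_sup_of_normal_right' hT2 (o2_isPGroup C) (hTC.trans (le_normalizer_o2 C))
  by_contra hcon
  -- it is a Sylow subgroup of `G`
  have hlt : T < T ⊔ o2 C := by
    refine lt_of_le_of_ne le_sup_left fun h3 => hcon ?_
    have h4 : o2 C ≤ T := by rw [h3]; exact le_sup_right
    exact h4.trans inf_le_left
  have hcard : Nat.card (S : Subgroup G) ≤ Nat.card (T ⊔ o2 C : Subgroup G) := by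
    have h3 := Half.card_mul_relIndex (le_sup_left : T ≤ T ⊔ o2 C)
    have h4 : T.relIndex (T ⊔ o2 C) ≠ 1 := by
      intro h5
      rw [relIndex_eq_one] at h5
      exact absurd h5 (not_le_of_gt hlt)
    have h5 : T.relIndex (T ⊔ o2 C) ≠ 0 := by
      intro h5
      rw [h5, mul_zero] at h3
      exact Nat.card_pos.ne h3
    rw [card_T h, ← h3, mul_comm]
    exact Nat.mul_le_mul_left _ (by omega)
  have hcard' : Nat.card (T ⊔ o2 C : Subgroup G) = Nat.card (S : Subgroup G) :=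
    le_antisymm (Half.card_le_sylow S hR2) hcard
  have hzc := Half.card_zc_of_card_eq S hR2 hcard'
  -- but `n` and `{2, 3}` are central
  have hn : M.e nn ∈ ZN.zc (T ⊔ o2 C) := by
    refine mem_zc.2 ⟨mem_sup_left ⟨V_le_S M S h.SL (M.e_mem nn), mem_centralizer_singleton_iff.2 rfl⟩,
      fun y hy => ?_, n_sq M⟩
    exact mem_centralizer_singleton_iff.1 (sup_le hTC (MinSimple.VModule.o2_le C) hy)
  have ha : M.e aa ∈ ZN.zc (T ⊔ o2 C) := by
    have h3 : T ⊔ o2 C ≤ centralizer ({M.e aa} : Set G) := by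
      refine sup_le ?_ ?_
      · intro g hg
        obtain ⟨p, hp⟩ := M.exists_ind (h.SL hg.1)
        have h2 : TTp p := (mem_T h hg.1 hp).1 (mem_centralizer_singleton_iff.1 hg.2)
        exact mem_centralizer_singleton_iff.2 ((hp.commute_iff aa).2 (Or.inl (ttp_aa p h2)))
      · intro g hg
        exact mem_centralizer_singleton_iff.2 (mem_centralizer_iff.1 (h2 hg) _ (aa_mem M)).symm
    refine mem_zc.2 ⟨mem_sup_right (h1 (aa_mem M)), fun y hy =>
      mem_centralizer_singleton_iff.1 (h3 hy), by rw [pow_two, M.e_sq]⟩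
  have hle : Nat.card (ZN.zc (T ⊔ o2 C)) ≤ 2 := by
    rw [hzc]; exact card_zc_le h
  have h3 : ({1, M.e nn, M.e aa} : Set G) ⊆ (ZN.zc (T ⊔ o2 C) : Set G) := by
    rintro x (rfl | rfl | rfl)
    · exact one_mem _
    · exact hn
    · exact ha
  have h4 : ({1, M.e nn, M.e aa} : Set G).ncard = 3 := by
    have e1 : M.e aa ≠ 1 := by
      intro h
      rcases (M.ker aa).1 h with h1 | h1
      · revert h1; decide
      · revert h1; decide
    have e2 : M.e nn ≠ M.e aa := by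
      intro h
      rcases M.e_eq_iff.1 h with h1 | h1
      · revert h1; decide
      · revert h1; decide
    rw [Set.ncard_insert_of_notMem _ (Set.toFinite _), Set.ncard_pair e2]
    rintro (h5 | h5)
    · exact n_ne_one M h5.symm
    · exact e1 h5.symm
  have h5 := Set.ncard_le_ncard h3 (Set.toFinite _)
  rw [h4] at h5
  have h6 : Nat.card (ZN.zc (T ⊔ o2 C)) = (ZN.zc (T ⊔ o2 C) : Set G).ncard := Nat.card_coe_set_eq _
  omega

/-- An element of `O₂(C_G(n))` acts on `V` trivially or as `(0 1)`. -/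
theorem o2_act (hG : IsCharacteristicTwoType G) {x : G} (hx : x ∈ o2 (centralizer ({M.e nn} : Set G))) :
    M.Ind x 1 ∨ M.Ind x (Equiv.swap 0 1) := by
  have hS := o2_le h hG hx
  obtain ⟨p, hp⟩ := M.exists_ind (h.SL hS)
  have hxn : x * M.e nn = M.e nn * x :=
    mem_centralizer_singleton_iff.1 (MinSimple.VModule.o2_le _ hx)
  have h1 : TTp p := (mem_T h hS hp).1 hxn
  have h2 := mem_centralizer_iff.1 ((half h hG).2 hx) _ (cc_mem M)
  rcases ttp_fix p h1 ((hp.commute_iff cc).1 h2.symm) with h3 | h3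
  · left; rw [← h3]; exact hp
  · right; rw [← h3]; exact hp

/-- **Supply**: `[v, x] ∈ ⟨n⟩` for `v ∈ V`, `x ∈ O₂(C_G(n))`. -/
theorem supply (hG : IsCharacteristicTwoType G) {x v : G} (hx : x ∈ o2 (centralizer ({M.e nn} : Set G)))
    (hv : v ∈ V) : v * x * v⁻¹ * x⁻¹ = 1 ∨ v * x * v⁻¹ * x⁻¹ = M.e nn := by
  obtain ⟨y, rfl⟩ := (M.mem_iff v).1 hv
  rcases o2_act h hG hx with h1 | h1
  · left
    have h2 := h1 y
    have h3 : x * M.e y = M.e y * x := mul_inv_eq_iff_eq_mul.1 h2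
    rw [← h3]; group
  · have h2 := h1 y
    have h3 : M.e y * x * (M.e y)⁻¹ * x⁻¹ = M.e (y ∘ (Equiv.swap 0 1 : Equiv.Perm (Fin 5)).symm + y) := by
      rw [M.e_add, M.e_comm, ← h2, M.e_inv]
      group
    rw [h3, M.ker, M.e_eq_iff]
    exact swap_comm y

end adapt

end Cfsg.Agent.Omega.IId.Sym

end

section


/-!
# II.d, `q = 2`, CASE 1 (helper478 #12430, helper895 #13722): the configuration

`v₁`, `v₂` commuting involutions, `T` a Sylow 2-subgroup of `Cᵢ = C_G(vᵢ)` with `Ω₁Z(T) = {1, v₁, v₂, v₁v₂}`,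
`Vᵢ ∋ vᵢ` four-groups normal in `T`, `Lᵢ` transitive on `Vᵢ#` and trivial on `V₃₋ᵢ`, `s` interchanges `(vᵢ, Vᵢ)` and
normalises `T` (`Base`).  `Kk v = {g ∈ C_G(v) : [O₂(C_G(v)), g] ≤ ⟨v⟩}`, `nc v A = ⟨A^{C_G(v)}⟩`.  `One`: moreover
`Kk vᵢ` does not centralise `Vᵢ` and `Cᵢ` does not normalise `V₃₋ᵢ`.

* `Base.one_of_mut`: `Base` and `[V₁, V₁^c] ≠ 1`, `c ∈ C₁` (mutual pair), give `One`;
* `Base.one_of_mixed`: the version for mixed pairs.
-/

set_option autoImplicit false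
set_option linter.dupNamespace false
set_option linter.unusedSectionVars false

namespace Cfsg.Agent.Omega.IId.One

open Subgroup Cfsg Cfsg.Agent.ZN Cfsg.Agent.Omega.MinPar Cfsg.Agent.MinSimple.VModule
open Cfsg.Agent.MinSimple.Basic
open Cfsg.Agent.Omega.IId.Two (le_normalizer_of)

universe u

variable {G : Type u} [Group G]

/-- `C_G(v)`. -/
abbrev cz (v : G) : Subgroup G := centralizer ({v} : Set G)

theorem mem_cz {v x : G} : x ∈ cz v ↔ x * v = v * x := mem_centralizer_singleton_iff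

/-- `{g ∈ C_G(v) : [O₂(C_G(v)), g] ≤ ⟨v⟩}`. -/
def Kk (v : G) : Subgroup G where
  carrier := {g | g ∈ cz v ∧ ∀ x ∈ ZN.o2 (cz v), g * x * g⁻¹ * x⁻¹ ∈ zpowers v}
  one_mem' := ⟨one_mem _, fun x _ => by
    have e : (1 : G) * x * 1⁻¹ * x⁻¹ = 1 := by group
    rw [e]; exact one_mem _⟩
  mul_mem' := by
    rintro a b ⟨ha, ha'⟩ ⟨hb, hb'⟩
    refine ⟨mul_mem ha hb, fun x hx => ?_⟩
    have h1 : ∀ y ∈ zpowers v, a * y * a⁻¹ = y := by
      rintro _ ⟨k, rfl⟩
      have h2 : Commute a v := mem_cz.1 ha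
      change a * v ^ k * a⁻¹ = v ^ k
      rw [(h2.zpow_right k).eq, mul_inv_cancel_right]
    have e : a * b * x * (a * b)⁻¹ * x⁻¹ = (a * (b * x * b⁻¹ * x⁻¹) * a⁻¹) * (a * x * a⁻¹ * x⁻¹) := by
      group
    rw [e, h1 _ (hb' x hx)]
    exact mul_mem (hb' x hx) (ha' x hx)
  inv_mem' := by
    rintro a ⟨ha, ha'⟩
    refine ⟨inv_mem ha, fun x hx => ?_⟩
    have h1 : ∀ y ∈ zpowers v, a⁻¹ * y * a = y := by
      rintro _ ⟨k, rfl⟩
      have h2 : Commute a v := mem_cz.1 ha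
      change a⁻¹ * v ^ k * a = v ^ k
      rw [mul_assoc, ← (h2.zpow_right k).eq, inv_mul_cancel_left]
    have e : a⁻¹ * x * a⁻¹⁻¹ * x⁻¹ = a⁻¹ * (a * x * a⁻¹ * x⁻¹)⁻¹ * a := by group
    rw [e, h1 _ (inv_mem (ha' x hx))]
    exact inv_mem (ha' x hx)

theorem mem_Kk {v g : G} :
    g ∈ Kk v ↔ g ∈ cz v ∧ ∀ x ∈ ZN.o2 (cz v), g * x * g⁻¹ * x⁻¹ ∈ zpowers v := Iff.rfl

theorem Kk_le (v : G) : Kk v ≤ cz v := fun _ h => h.1

theorem le_normalizer_Kk (v : G) : cz v ≤ normalizer (Kk v : Set G) := by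
  apply le_normalizer_of
  intro c hc g hg
  refine ⟨mul_mem (mul_mem hc hg.1) (inv_mem hc), fun x hx => ?_⟩
  have h1 : c⁻¹ * x * c ∈ ZN.o2 (cz v) := by
    have := (mem_normalizer_iff.1 (inv_mem (le_normalizer_o2 (cz v) hc)) x).1 hx
    rwa [inv_inv] at this
  have h2 := hg.2 _ h1
  have h3 : ∀ y ∈ zpowers v, c * y * c⁻¹ = y := by
    rintro _ ⟨k, rfl⟩
    have h2 : Commute c v := mem_cz.1 hc
    change c * v ^ k * c⁻¹ = v ^ k
    rw [(h2.zpow_right k).eq, mul_inv_cancel_right]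
  have e : c * g * c⁻¹ * x * (c * g * c⁻¹)⁻¹ * x⁻¹ =
      c * (g * (c⁻¹ * x * c) * g⁻¹ * (c⁻¹ * x * c)⁻¹) * c⁻¹ := by group
  rw [e, h3 _ h2]
  exact h2

theorem mem_zp {v y : G} (hv : v * v = 1) (hy : y ∈ zpowers v) : y = 1 ∨ y = v := by
  obtain ⟨k, rfl⟩ := mem_zpowers_iff.1 hy
  have h2 : v ^ (2 : ℤ) = 1 := by rw [zpow_two, hv]
  rcases Int.even_or_odd' k with ⟨m, hm | hm⟩
  · left
    rw [hm, zpow_mul, h2, one_zpow]
  · right
    rw [hm, zpow_add, zpow_mul, h2, one_zpow, one_mul, zpow_one]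

/-- `[Q, g] ≤ ⟨v⟩`, `v` an involution: `g` fixes `x` or maps it to `v x`. -/
theorem Kk_conj {v g x : G} (hv : v * v = 1) (hg : g ∈ Kk v) (hx : x ∈ ZN.o2 (cz v)) :
    g * x * g⁻¹ = x ∨ g * x * g⁻¹ = v * x := by
  have e : g * x * g⁻¹ = (g * x * g⁻¹ * x⁻¹) * x := by group
  rcases mem_zp hv (hg.2 x hx) with h1 | h1
  · left; rw [e, h1, one_mul]
  · right; rw [e, h1]

/-- `⟨A^{C_G(v)}⟩`. -/
def nc (v : G) (A : Set G) : Subgroup G :=
  closure {y : G | ∃ g ∈ cz v, ∃ a ∈ A, y = g * a * g⁻¹}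

theorem conj_mem_nc {v : G} {A : Set G} {g a : G} (hg : g ∈ cz v) (ha : a ∈ A) :
    g * a * g⁻¹ ∈ nc v A := subset_closure ⟨g, hg, a, ha, rfl⟩

theorem subset_nc (v : G) (A : Set G) : A ⊆ nc v A := fun a ha => by
  have := conj_mem_nc (one_mem (cz v)) ha
  simpa using this

theorem nc_le {v : G} {A : Set G} {B : Subgroup G} (hA : A ⊆ B) (hB : cz v ≤ normalizer (B : Set G)) :
    nc v A ≤ B := by
  rw [nc, closure_le]
  rintro _ ⟨g, hg, a, ha, rfl⟩
  exact (mem_normalizer_iff.1 (hB hg) a).1 (hA ha)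

theorem le_normalizer_nc (v : G) (A : Set G) : cz v ≤ normalizer (nc v A : Set G) := by
  apply le_normalizer_of
  intro c hc x hx
  induction hx using Subgroup.closure_induction with
  | mem x hx =>
    obtain ⟨g, hg, a, ha, rfl⟩ := hx
    have e : c * (g * a * g⁻¹) * c⁻¹ = (c * g) * a * (c * g)⁻¹ := by group
    rw [e]
    exact conj_mem_nc (mul_mem hc hg) ha
  | one => simp
  | mul x y _ _ hx hy =>
    have e : c * (x * y) * c⁻¹ = (c * x * c⁻¹) * (c * y * c⁻¹) := by group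
    rw [e]
    exact mul_mem hx hy
  | inv x _ hx =>
    have e : c * x⁻¹ * c⁻¹ = (c * x * c⁻¹)⁻¹ := by group
    rw [e]
    exact inv_mem hx

/-- `s nc(v, A) s⁻¹ = nc(v^s, A^s)`. -/
theorem conj_nc {v w s : G} {A B : Set G} (hv : s * v * s⁻¹ = w) (hA : ∀ a ∈ A, s * a * s⁻¹ ∈ B)
    {x : G} (hx : x ∈ nc v A) : s * x * s⁻¹ ∈ nc w B := by
  induction hx using Subgroup.closure_induction with
  | mem x hx =>
    obtain ⟨g, hg, a, ha, rfl⟩ := hx
    have e : s * (g * a * g⁻¹) * s⁻¹ = (s * g * s⁻¹) * (s * a * s⁻¹) * (s * g * s⁻¹)⁻¹ := by group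
    rw [e]
    refine conj_mem_nc ?_ (hA a ha)
    rw [mem_cz] at hg ⊢
    rw [← hv]
    calc s * g * s⁻¹ * (s * v * s⁻¹) = s * (g * v) * s⁻¹ := by group
      _ = s * (v * g) * s⁻¹ := by rw [hg]
      _ = s * v * s⁻¹ * (s * g * s⁻¹) := by group
  | one => simp
  | mul x y _ _ hx hy =>
    have e : s * (x * y) * s⁻¹ = (s * x * s⁻¹) * (s * y * s⁻¹) := by group
    rw [e]
    exact mul_mem hx hy
  | inv x _ hx =>
    have e : s * x⁻¹ * s⁻¹ = (s * x * s⁻¹)⁻¹ := by group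
    rw [e]
    exact inv_mem hx

theorem conj_cz {v w s : G} (hv : s * v * s⁻¹ = w) {x : G} (hx : x ∈ cz v) : s * x * s⁻¹ ∈ cz w := by
  rw [mem_cz] at hx ⊢
  rw [← hv]
  calc s * x * s⁻¹ * (s * v * s⁻¹) = s * (x * v) * s⁻¹ := by group
    _ = s * (v * x) * s⁻¹ := by rw [hx]
    _ = s * v * s⁻¹ * (s * x * s⁻¹) := by group

theorem cz_map {v w s : G} (hv : s * v * s⁻¹ = w) :
    (cz v).map (MulAut.conj s).toMonoidHom = cz w := by
  ext x
  constructor
  · rintro ⟨y, hy, rfl⟩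
    exact conj_cz hv hy
  · intro hx
    refine ⟨s⁻¹ * x * s, ?_, by simp [mul_assoc]⟩
    have h1 : s⁻¹ * w * s⁻¹⁻¹ = v := by rw [← hv]; group
    have := conj_cz h1 hx
    rwa [inv_inv] at this

theorem conj_o2_cz {v w s : G} (hv : s * v * s⁻¹ = w) {x : G} (hx : x ∈ ZN.o2 (cz v)) :
    s * x * s⁻¹ ∈ ZN.o2 (cz w) := by
  rw [← cz_map hv, ZN.o2_map _ (MulAut.conj s).injective]
  exact ⟨x, hx, rfl⟩

theorem conj_Kk {v w s : G} (hv : s * v * s⁻¹ = w) {x : G} (hx : x ∈ Kk v) :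
    s * x * s⁻¹ ∈ Kk w := by
  refine ⟨conj_cz hv hx.1, fun y hy => ?_⟩
  have h1 : s⁻¹ * w * s⁻¹⁻¹ = v := by rw [← hv]; group
  have h2 : s⁻¹ * y * s ∈ ZN.o2 (cz v) := by
    have := conj_o2_cz h1 hy
    rwa [inv_inv] at this
  obtain ⟨k, hk⟩ := mem_zpowers_iff.1 (hx.2 _ h2)
  rw [mem_zpowers_iff]
  refine ⟨k, ?_⟩
  have e : s * x * s⁻¹ * y * (s * x * s⁻¹)⁻¹ * y⁻¹ =
      s * (x * (s⁻¹ * y * s) * x⁻¹ * (s⁻¹ * y * s)⁻¹) * s⁻¹ := by group
  rw [e, ← hk, ← hv, conj_zpow]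

/-! ### The structure -/

/-- The configuration of CASE 1. -/
structure Base (T V₁ V₂ L₁ L₂ : Subgroup G) (v₁ v₂ s : G) : Prop where
  /-- `G` has characteristic 2 type -/
  C2T : IsCharacteristicTwoType G
  pT : IsPGroup 2 T
  V1T : V₁ ≤ T
  V2T : V₂ ≤ T
  card1 : Nat.card V₁ = 4
  card2 : Nat.card V₂ = 4
  c1 : ∀ x ∈ V₁, ∀ y ∈ V₁, x * y = y * x
  c2 : ∀ x ∈ V₂, ∀ y ∈ V₂, x * y = y * x
  q1 : ∀ x ∈ V₁, x * x = 1
  q2 : ∀ x ∈ V₂, x * x = 1
  c12 : ∀ x ∈ V₁, ∀ y ∈ V₂, x * y = y * x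
  inf : ∀ x ∈ V₁, x ∈ V₂ → x = 1
  vV1 : v₁ ∈ V₁
  vV2 : v₂ ∈ V₂
  v1 : v₁ ≠ 1
  v2 : v₂ ≠ 1
  Tv1 : ∀ x ∈ T, x * v₁ = v₁ * x
  Tv2 : ∀ x ∈ T, x * v₂ = v₂ * x
  T1 : ∀ x ∈ T, ∀ v ∈ V₁, x * v * x⁻¹ ∈ V₁
  T2 : ∀ x ∈ T, ∀ v ∈ V₂, x * v * x⁻¹ ∈ V₂
  L1 : ∀ l ∈ L₁, ∀ v ∈ V₁, l * v * l⁻¹ ∈ V₁
  L2 : ∀ l ∈ L₂, ∀ v ∈ V₂, l * v * l⁻¹ ∈ V₂
  L12 : ∀ l ∈ L₁, ∀ v ∈ V₂, l * v = v * l
  L21 : ∀ l ∈ L₂, ∀ v ∈ V₁, l * v = v * l
  t1 : ∀ v ∈ V₁, v ≠ 1 → ∀ w ∈ V₁, w ≠ 1 → ∃ l ∈ L₁, l * v * l⁻¹ = w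
  t2 : ∀ v ∈ V₂, v ≠ 1 → ∀ w ∈ V₂, w ≠ 1 → ∃ l ∈ L₂, l * v * l⁻¹ = w
  /-- `Ω₁Z(T) = {1, v₁, v₂, v₁v₂}` -/
  fix : ∀ x ∈ T, x * x = 1 → (∀ t ∈ T, t * x = x * t) → x = 1 ∨ x = v₁ ∨ x = v₂ ∨ x = v₁ * v₂
  /-- `T` is a Sylow 2-subgroup of `C_G(v₁)` -/
  syl1 : ∀ U : Subgroup G, IsPGroup 2 U → T ≤ U → (∀ x ∈ U, x * v₁ = v₁ * x) → U ≤ T
  syl2 : ∀ U : Subgroup G, IsPGroup 2 U → T ≤ U → (∀ x ∈ U, x * v₂ = v₂ * x) → U ≤ T
  /-- HALF LEMMA -/
  half1 : V₂ ≤ ZN.o2 (cz v₁)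
  half2 : V₁ ≤ ZN.o2 (cz v₂)
  halfc1 : ∀ x ∈ ZN.o2 (cz v₁), ∀ v ∈ V₂, x * v = v * x
  halfc2 : ∀ x ∈ ZN.o2 (cz v₂), ∀ v ∈ V₁, x * v = v * x
  sT : ∀ x ∈ T, s * x * s⁻¹ ∈ T
  s1 : ∀ v ∈ V₁, s * v * s⁻¹ ∈ V₂
  s2 : ∀ v ∈ V₂, s * v * s⁻¹ ∈ V₁
  sv1 : s * v₁ * s⁻¹ = v₂
  sv2 : s * v₂ * s⁻¹ = v₁

/-- The configuration of CASE 1, with `[V₁, Kk v₁] ≠ 1`. -/
structure One (T V₁ V₂ L₁ L₂ : Subgroup G) (v₁ v₂ s : G) : Prop
    extends Base T V₁ V₂ L₁ L₂ v₁ v₂ s where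
  k1 : ∃ w ∈ Kk v₁, ∃ v ∈ V₁, w * v ≠ v * w
  k2 : ∃ w ∈ Kk v₂, ∃ v ∈ V₂, w * v ≠ v * w
  n1 : ¬ cz v₁ ≤ normalizer (V₂ : Set G)
  n2 : ¬ cz v₂ ≤ normalizer (V₁ : Set G)

theorem Base.symm {T V₁ V₂ L₁ L₂ : Subgroup G} {v₁ v₂ s : G} (h : Base T V₁ V₂ L₁ L₂ v₁ v₂ s) :
    Base T V₂ V₁ L₂ L₁ v₂ v₁ s where
  C2T := h.C2T
  pT := h.pT
  V1T := h.V2T
  V2T := h.V1T
  card1 := h.card2
  card2 := h.card1
  c1 := h.c2
  c2 := h.c1
  q1 := h.q2
  q2 := h.q1
  c12 := fun x hx y hy => (h.c12 y hy x hx).symm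
  inf := fun x hx hy => h.inf x hy hx
  vV1 := h.vV2
  vV2 := h.vV1
  v1 := h.v2
  v2 := h.v1
  Tv1 := h.Tv2
  Tv2 := h.Tv1
  T1 := h.T2
  T2 := h.T1
  L1 := h.L2
  L2 := h.L1
  L12 := h.L21
  L21 := h.L12
  t1 := h.t2
  t2 := h.t1
  fix := fun x hx hx2 hc => by
    rcases h.fix x hx hx2 hc with h1 | h1 | h1 | h1
    · exact Or.inl h1
    · exact Or.inr (Or.inr (Or.inl h1))
    · exact Or.inr (Or.inl h1)
    · exact Or.inr (Or.inr (Or.inr (h1.trans (h.c12 _ h.vV1 _ h.vV2))))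
  syl1 := h.syl2
  syl2 := h.syl1
  half1 := h.half2
  half2 := h.half1
  halfc1 := h.halfc2
  halfc2 := h.halfc1
  sT := h.sT
  s1 := h.s2
  s2 := h.s1
  sv1 := h.sv2
  sv2 := h.sv1

theorem One.symm {T V₁ V₂ L₁ L₂ : Subgroup G} {v₁ v₂ s : G} (h : One T V₁ V₂ L₁ L₂ v₁ v₂ s) :
    One T V₂ V₁ L₂ L₁ v₂ v₁ s where
  toBase := h.toBase.symm
  k1 := h.k2
  k2 := h.k1
  n1 := h.n2
  n2 := h.n1

namespace Base

variable {T V₁ V₂ L₁ L₂ : Subgroup G} {v₁ v₂ s : G}

section basic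

variable (h : Base T V₁ V₂ L₁ L₂ v₁ v₂ s)
include h

theorem vc : v₁ * v₂ = v₂ * v₁ := h.c12 _ h.vV1 _ h.vV2

theorem vq1 : v₁ * v₁ = 1 := h.q1 _ h.vV1

theorem vq2 : v₂ * v₂ = 1 := h.q2 _ h.vV2

theorem ne : v₁ ≠ v₂ := fun e => h.v1 (h.inf _ h.vV1 (e ▸ h.vV2))

theorem z1 : v₁ * v₂ ≠ 1 := fun e => h.ne (by
  calc v₁ = v₁ * v₂ * v₂ := by rw [mul_assoc, h.vq2, mul_one]
    _ = v₂ := by rw [e, one_mul])

theorem T_le : T ≤ cz v₁ := fun x hx => mem_cz.2 (h.Tv1 x hx)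

theorem T_le2 : T ≤ cz v₂ := fun x hx => mem_cz.2 (h.Tv2 x hx)

theorem T_leM : T ≤ cz v₁ ⊓ cz v₂ := le_inf h.T_le h.T_le2

theorem V1_le : V₁ ≤ cz v₁ := h.V1T.trans h.T_le

theorem L2_le : L₂ ≤ cz v₁ := fun l hl => mem_cz.2 (h.L21 l hl _ h.vV1)

theorem L1_le : L₁ ≤ cz v₂ := fun l hl => mem_cz.2 (h.L12 l hl _ h.vV2)

/-- The fixed points of `T` in `V₁`. -/
theorem fix1 {x : G} (hx : x ∈ V₁) (hc : ∀ t ∈ T, t * x = x * t) : x = 1 ∨ x = v₁ := by
  rcases h.fix x (h.V1T hx) (h.q1 x hx) hc with h1 | h1 | h1 | h1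
  · exact Or.inl h1
  · exact Or.inr h1
  · exact absurd (h.inf _ hx (h1 ▸ h.vV2)) (h1 ▸ h.v2)
  · exfalso
    apply h.v2
    apply h.inf _ ?_ h.vV2
    have e : v₂ = v₁⁻¹ * x := by rw [h1]; group
    rw [e]
    exact mul_mem (inv_mem h.vV1) hx

theorem T_norm1 : T ≤ normalizer (V₁ : Set G) := le_normalizer_of h.T1

theorem T_norm2 : T ≤ normalizer (V₂ : Set G) := le_normalizer_of h.T2

theorem L_norm1 : L₁ ≤ normalizer (V₁ : Set G) := le_normalizer_of h.L1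

theorem L_norm2 : L₂ ≤ normalizer (V₂ : Set G) := le_normalizer_of h.L2

/-- `V₁ = ⟨v₁^{L₁}⟩`: an `L₁`-invariant subgroup containing `v₁` contains `V₁`. -/
theorem V1_le_of {A : Subgroup G} (hA : L₁ ≤ normalizer (A : Set G)) (hv : v₁ ∈ A) : V₁ ≤ A := by
  intro x hx
  by_cases hx1 : x = 1
  · rw [hx1]; exact one_mem _
  obtain ⟨l, hl, rfl⟩ := h.t1 v₁ h.vV1 h.v1 x hx hx1
  exact (mem_normalizer_iff.1 (hA hl) _).1 hv

theorem V1_ne_bot : V₁ ≠ ⊥ := fun h0 => h.v1 (by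
  have := h.vV1
  rwa [h0, mem_bot] at this)

/-- An element `v ∈ V₁ - ⟨v₁⟩` generates `V₁` together with `v₁`. -/
theorem mem_V1 [Finite G] {x v : G} (hx : x ∈ V₁) (hv : v ∈ V₁) (hv1 : v ≠ 1) (hv2 : v ≠ v₁) :
    x = 1 ∨ x = v₁ ∨ x = v ∨ x = v₁ * v := by
  classical
  by_contra hcon
  push Not at hcon
  have ne3 : v₁ * v ≠ 1 := fun e => hv2 (by
    calc v = v₁ * (v₁ * v) := by rw [← mul_assoc, h.vq1, one_mul]
      _ = v₁ := by rw [e, mul_one])
  have h5 : ({1, v₁, v, v₁ * v, x} : Finset G).card ≤ 4 := by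
    have e1 : Nat.card V₁ = (V₁ : Set G).ncard := rfl
    rw [← h.card1, e1, ← Set.ncard_coe_finset]
    apply Set.ncard_le_ncard _ (Set.toFinite _)
    intro y hy
    simp only [Finset.coe_insert, Finset.coe_singleton, Set.mem_insert_iff, Set.mem_singleton_iff] at hy
    rcases hy with rfl | rfl | rfl | rfl | rfl
    · exact one_mem _
    · exact h.vV1
    · exact hv
    · exact mul_mem h.vV1 hv
    · exact hx
  have c3 : v₁ ≠ v₁ * v := fun e => hv1 (by
    calc v = v₁ * (v₁ * v) := by rw [← mul_assoc, h.vq1, one_mul]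
      _ = 1 := by rw [← e, h.vq1])
  have c4 : v ≠ v₁ * v := fun e => h.v1 (by
    calc v₁ = v₁ * v * v⁻¹ := by group
      _ = 1 := by rw [← e, mul_inv_cancel])
  have : ({1, v₁, v, v₁ * v, x} : Finset G).card = 5 := by
    rw [Finset.card_insert_of_notMem, Finset.card_insert_of_notMem, Finset.card_insert_of_notMem,
      Finset.card_insert_of_notMem, Finset.card_singleton]
    · simpa using Ne.symm hcon.2.2.2
    · simp only [Finset.mem_insert, Finset.mem_singleton, not_or]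
      exact ⟨c4, Ne.symm hcon.2.2.1⟩
    · simp only [Finset.mem_insert, Finset.mem_singleton, not_or]
      exact ⟨Ne.symm hv2, c3, Ne.symm hcon.2.1⟩
    · simp only [Finset.mem_insert, Finset.mem_singleton, not_or]
      exact ⟨Ne.symm h.v1, Ne.symm hv1, Ne.symm ne3, Ne.symm hcon.1⟩
  omega

/-- `t v t⁻¹ ∈ {v, v₁ v}` for `t ∈ N_G(V₁) ∩ C_G(v₁)`, `v ∈ V₁`. -/
theorem conj1 [Finite G] {t v : G} (ht1 : t ∈ cz v₁) (ht : t * v * t⁻¹ ∈ V₁) (hv : v ∈ V₁) :
    t * v * t⁻¹ = v ∨ t * v * t⁻¹ = v₁ * v := by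
  have tv1 : t * v₁ * t⁻¹ = v₁ := by rw [mem_cz.1 ht1, mul_inv_cancel_right]
  by_cases ne1 : v = 1
  · left; rw [ne1]; group
  by_cases ne2 : v = v₁
  · left; rw [ne2]; exact tv1
  have e0 : v = t⁻¹ * (t * v * t⁻¹) * t := by group
  rcases h.mem_V1 ht hv ne1 ne2 with h1 | h1 | h1 | h1
  · exfalso; apply ne1; rw [e0, h1]; group
  · exfalso; apply ne2; rw [e0, h1]
    calc t⁻¹ * v₁ * t = t⁻¹ * (t * v₁ * t⁻¹) * t := by rw [tv1]
      _ = v₁ := by group
  · exact Or.inl h1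
  · exact Or.inr h1

theorem T_conj1 [Finite G] {t v : G} (ht : t ∈ T) (hv : v ∈ V₁) :
    t * v * t⁻¹ = v ∨ t * v * t⁻¹ = v₁ * v :=
  h.conj1 (h.T_le ht) (h.T1 t ht v hv) hv

end basic

end Base

end Cfsg.Agent.Omega.IId.One

end

section


/-!
# II.d, the triangle (helper113 #13363 (2), helper612 #13524 (1)(a)), `|Z| ≥ 4`

`h : Two S So V₁ V₂ L₁ L₂`, `Zᵢ = C_{Vᵢ}(So)`, `|Zᵢ| ≥ 3`; `Tor h T₁ T₂` : `Tᵢ ≤ N_G(So)` normalises `Zᵢ`, is
transitive on `Zᵢ#` and centralises `Z₃₋ᵢ`.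

* `zc_prod` : `Ω₁Z(So) = Z₁Z₂`;
* `trivial_of` : an element of `N_G(So)` which centralises `Z₁` and `Ω₁Z(So)/Z₁` centralises `Ω₁Z(So)`;
* `norm_two` : an element of `N_G(So)` which normalises `Z₁` normalises `Z₂`;
* `le_So` : a 2-subgroup `T ≥ So` of `G` which normalises `Z₁` is `So` (in particular `So` is a Sylow
  2-subgroup of `N_G(Z₁)`).
-/

set_option autoImplicit false
set_option linter.unusedSectionVars false

namespace Cfsg.Agent.Omega.IId.TriangleQ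

open Subgroup Cfsg Cfsg.Agent.ZN Cfsg.Agent.Omega.MinPar Cfsg.Agent.Omega.IId.Two
open Cfsg.Agent.MinSimple.VModule

universe u

variable {G : Type u} [Group G]

/-- The tori: `Tᵢ ≤ N_G(So)` normalises `Zᵢ = C_{Vᵢ}(So)`, is transitive on `Zᵢ#` and centralises `Z₃₋ᵢ`. -/
structure Tor (So V₁ V₂ T₁ T₂ : Subgroup G) : Prop where
  n1 : T₁ ≤ normalizer (So : Set G)
  n2 : T₂ ≤ normalizer (So : Set G)
  a1 : ∀ a ∈ T₁, ∀ v ∈ V₁ ⊓ centralizer (So : Set G), a * v * a⁻¹ ∈ V₁ ⊓ centralizer (So : Set G)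
  a2 : ∀ a ∈ T₂, ∀ v ∈ V₂ ⊓ centralizer (So : Set G), a * v * a⁻¹ ∈ V₂ ⊓ centralizer (So : Set G)
  t1 : ∀ v ∈ V₁ ⊓ centralizer (So : Set G), v ≠ 1 → ∀ w ∈ V₁ ⊓ centralizer (So : Set G), w ≠ 1 →
    ∃ a ∈ T₁, a * v * a⁻¹ = w
  t2 : ∀ v ∈ V₂ ⊓ centralizer (So : Set G), v ≠ 1 → ∀ w ∈ V₂ ⊓ centralizer (So : Set G), w ≠ 1 →
    ∃ a ∈ T₂, a * v * a⁻¹ = w
  c12 : ∀ a ∈ T₁, ∀ v ∈ V₂ ⊓ centralizer (So : Set G), a * v = v * a
  c21 : ∀ a ∈ T₂, ∀ v ∈ V₁ ⊓ centralizer (So : Set G), a * v = v * a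
  big1 : 2 < Nat.card (V₁ ⊓ centralizer (So : Set G) : Subgroup G)
  big2 : 2 < Nat.card (V₂ ⊓ centralizer (So : Set G) : Subgroup G)

/-- Three elements: besides `1` and `x` there is another one. -/
theorem exists_third [Finite G] {A : Subgroup G} (h : 2 < Nat.card A) (x : G) :
    ∃ y ∈ A, y ≠ 1 ∧ y ≠ x := by
  classical
  by_contra hcon
  push Not at hcon
  have h1 : (A : Set G) ⊆ (({1, x} : Finset G) : Set G) := by
    intro y hy
    rw [Finset.mem_coe, Finset.mem_insert, Finset.mem_singleton]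
    by_cases hy1 : y = 1
    · exact Or.inl hy1
    · exact Or.inr (hcon y hy hy1)
  have h2 := Set.ncard_le_ncard h1 (Finset.finite_toSet _)
  rw [Set.ncard_coe_finset, ← Nat.card_coe_set_eq] at h2
  have h3 : ({1, x} : Finset G).card ≤ 2 := Finset.card_le_two
  have h4 : Nat.card A ≤ 2 := h2.trans h3
  omega

section

variable [Finite G] {S : Sylow 2 G} {So V₁ V₂ L₁ L₂ : Subgroup G}
  (h : IId.Two (S : Subgroup G) So V₁ V₂ L₁ L₂)

include h

theorem z1_le : V₁ ⊓ centralizer (So : Set G) ≤ zc So := fun x hx =>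
  mem_zc.2 ⟨h.V1So hx.1, fun y hy => mem_centralizer_iff.1 hx.2 y hy, h.q1 x hx.1⟩

theorem z2_le : V₂ ⊓ centralizer (So : Set G) ≤ zc So := fun x hx =>
  mem_zc.2 ⟨h.V2So hx.1, fun y hy => mem_centralizer_iff.1 hx.2 y hy, h.q2 x hx.1⟩

theorem S_norm : (S : Subgroup G) ≤ normalizer (So : Set G) :=
  le_normalizer_of fun _ hk _ hy => conj_mem_of_two h.SoS (two_cosets h.SoS h.card) hk hy

theorem conj_cent {s x : G} (hs : s ∈ (S : Subgroup G)) (hx : x ∈ centralizer (So : Set G)) :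
    s * x * s⁻¹ ∈ centralizer (So : Set G) := by
  rw [mem_centralizer_iff] at hx ⊢
  intro y hy
  have h1 : s⁻¹ * y * s ∈ So := by
    have := conj_mem_of_two h.SoS (two_cosets h.SoS h.card) (inv_mem hs) hy
    rwa [inv_inv] at this
  have h2 := hx _ h1
  calc y * (s * x * s⁻¹) = s * (s⁻¹ * y * s * x) * s⁻¹ := by group
    _ = s * x * s⁻¹ * y := by rw [h2]; group

/-- `Ω₁Z(So) = Z₁Z₂` -/
theorem zc_prod {x : G} (hx : x ∈ zc So) : ∃ c ∈ V₁ ⊓ centralizer (So : Set G),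
    ∃ d ∈ V₂ ⊓ centralizer (So : Set G), x = c * d := by
  obtain ⟨s, hs, hsS⟩ := exists_not_mem h.SoS h.card
  have two := two_cosets h.SoS h.card
  have hss : s * s ∈ So := by
    have h1 := two s⁻¹ (inv_mem hs) s hs (fun h1 => hsS (inv_mem_iff.1 h1)) hsS
    rwa [inv_inv] at h1
  have hcc := zc_comm So
  have hsN : s ∈ normalizer (So : Set G) := S_norm h hs
  have hsx : ∀ y ∈ zc So, s * y * s⁻¹ ∈ zc So := fun y hy =>
    (mem_normalizer_iff.1 (normalizer_le_normalizer_zc _ hsN) y).1 hy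
  have key : ∀ y ∈ zc So, s * y * s⁻¹ = y → y ∈ zc (S : Subgroup G) := by
    intro y hy hys
    obtain ⟨hy1, hy2, hy3⟩ := mem_zc.1 hy
    refine mem_zc.2 ⟨h.SoS hy1, ?_, hy3⟩
    intro a ha
    by_cases haS : a ∈ So
    · exact hy2 a haS
    · have h1 := hy2 _ (two s hs a ha hsS haS)
      have h2 : s * y = y * s := mul_inv_eq_iff_eq_mul.1 hys
      calc a * y = s * (s⁻¹ * a * y) := by group
        _ = (s * y) * (s⁻¹ * a) := by rw [h1]; group
        _ = y * a := by rw [h2]; group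
  have hN : ∀ y ∈ zc So, y * (s * y * s⁻¹) ∈ zc (S : Subgroup G) := by
    intro y hy
    apply key _ (mul_mem hy (hsx y hy))
    have h1 : s * s * y = y * (s * s) := (mem_zc.1 hy).2.1 _ hss
    calc s * (y * (s * y * s⁻¹)) * s⁻¹ = (s * y * s⁻¹) * (s * s * y * (s * s)⁻¹) := by group
      _ = (s * y * s⁻¹) * y := by rw [h1]; group
      _ = y * (s * y * s⁻¹) := (hcc _ hy _ (hsx y hy)).symm
  have hZ1 := z1_le h
  -- `c ↦ c c^s` is a bijection of `Z₁` onto `Ω₁Z(S)`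
  let f : (V₁ ⊓ centralizer (So : Set G) : Subgroup G) → zc (S : Subgroup G) :=
    fun c => ⟨(c : G) * (s * c * s⁻¹), hN c (hZ1 c.2)⟩
  have hf : Function.Injective f := by
    intro a b hab
    have h1 : (a : G) * (s * a * s⁻¹) = b * (s * b * s⁻¹) := congrArg Subtype.val hab
    have h2 : (b : G)⁻¹ * a = s * (b * (a : G)⁻¹) * s⁻¹ := by
      calc (b : G)⁻¹ * a = (b : G)⁻¹ * (a * (s * a * s⁻¹)) * (s * a * s⁻¹)⁻¹ := by group
        _ = s * (b * (a : G)⁻¹) * s⁻¹ := by rw [h1]; group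
    have h3 : (b : G)⁻¹ * a ∈ V₂ := by
      rw [h2]
      exact h.sw1 s hs hsS _ (mul_mem b.2.1 (inv_mem a.2.1))
    have h4 := h.inf _ (mul_mem (inv_mem b.2.1) a.2.1) h3
    exact Subtype.ext (inv_mul_eq_one.1 h4).symm
  have hbij : Function.Bijective f :=
    (Nat.bijective_iff_injective_and_card f).2
      ⟨hf, le_antisymm (Nat.card_le_card_of_injective f hf) h.z1⟩
  obtain ⟨c, hc⟩ := hbij.2 ⟨x * (s * x * s⁻¹), hN x hx⟩
  have hc' : (c : G) * (s * c * s⁻¹) = x * (s * x * s⁻¹) := congrArg Subtype.val hc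
  have hsq : ∀ y ∈ zc So, y * y = 1 := fun y hy => by rw [← pow_two]; exact zc_sq _ y hy
  have hcz : (c : G) ∈ zc So := hZ1 c.2
  -- `x c` is fixed by `s`
  have hfix : x * c ∈ zc (S : Subgroup G) := by
    apply key _ (mul_mem hx hcz)
    have h1 : x * c * (s * (x * c) * s⁻¹) = 1 := by
      calc x * c * (s * (x * c) * s⁻¹) = x * (c * (s * x * s⁻¹)) * (s * c * s⁻¹) := by group
        _ = x * (s * x * s⁻¹) * (c * (s * c * s⁻¹)) := by
            rw [hcc _ hcz _ (hsx x hx)]; group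
        _ = x * (s * x * s⁻¹) * (x * (s * x * s⁻¹)) := by rw [hc']
        _ = 1 := by rw [← pow_two]; exact zc_sq _ _ (hN x hx)
    have h2 := hsq _ (mul_mem hx hcz)
    rw [← h2] at h1
    exact mul_left_cancel h1
  obtain ⟨e, he⟩ := hbij.2 ⟨x * c, hfix⟩
  have he' : (e : G) * (s * e * s⁻¹) = x * c := congrArg Subtype.val he
  refine ⟨e * c, mul_mem e.2 c.2, s * e * s⁻¹, ⟨h.sw1 s hs hsS _ e.2.1, conj_cent h hs e.2.2⟩, ?_⟩
  have hez : (e : G) ∈ zc So := hZ1 e.2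
  calc x = x * c * c := by rw [mul_assoc, hsq _ hcz, mul_one]
    _ = e * ((s * e * s⁻¹) * c) := by rw [← he']; group
    _ = e * c * (s * e * s⁻¹) := by rw [hcc _ (hsx _ hez) _ hcz]; group

theorem zc_conj {g x : G} (hg : g ∈ normalizer (So : Set G)) (hx : x ∈ zc So) :
    g * x * g⁻¹ ∈ zc So :=
  (mem_normalizer_iff.1 (normalizer_le_normalizer_zc _ hg) x).1 hx

/-- The elements of `N_G(So)` which centralise `Z₁` and `Ω₁Z(So)/Z₁`. -/
def UU (So V₁ : Subgroup G) : Subgroup G where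
  carrier := {g | g ∈ normalizer (So : Set G) ∧ (∀ v ∈ V₁ ⊓ centralizer (So : Set G), g * v * g⁻¹ = v) ∧
    ∀ x ∈ zc So, g * x * g⁻¹ * x⁻¹ ∈ V₁ ⊓ centralizer (So : Set G)}
  one_mem' := ⟨one_mem _, fun v _ => by simp, fun x _ => by simp⟩
  mul_mem' := by
    rintro a b ⟨ha1, ha2, ha3⟩ ⟨hb1, hb2, hb3⟩
    refine ⟨mul_mem ha1 hb1, fun v hv => ?_, fun x hx => ?_⟩
    · have e : a * b * v * (a * b)⁻¹ = a * (b * v * b⁻¹) * a⁻¹ := by group
      rw [e, hb2 v hv, ha2 v hv]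
    · have e : a * b * x * (a * b)⁻¹ * x⁻¹ = (a * (b * x * b⁻¹ * x⁻¹) * a⁻¹) * (a * x * a⁻¹ * x⁻¹) := by
        group
      rw [e, ha2 _ (hb3 x hx)]
      exact mul_mem (hb3 x hx) (ha3 x hx)
  inv_mem' := by
    rintro a ⟨ha1, ha2, ha3⟩
    have hv : ∀ v ∈ V₁ ⊓ centralizer (So : Set G), a⁻¹ * v * a = v := by
      intro v hv
      have h1 := ha2 v hv
      calc a⁻¹ * v * a = a⁻¹ * (a * v * a⁻¹) * a := by rw [h1]
        _ = v := by group
    refine ⟨inv_mem ha1, fun v hv' => ?_, fun x hx => ?_⟩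
    · rw [inv_inv]; exact hv v hv'
    · have e : a⁻¹ * x * a⁻¹⁻¹ * x⁻¹ = a⁻¹ * (a * x * a⁻¹ * x⁻¹)⁻¹ * a := by group
      rw [e, hv _ (inv_mem (ha3 x hx))]
      exact inv_mem (ha3 x hx)

/-- The elements of `N_G(So)` which centralise `Ω₁Z(So)`. -/
def CC (So : Subgroup G) : Subgroup G := normalizer (So : Set G) ⊓ centralizer (zc So : Set G)

omit h in
theorem mem_CC {g : G} : g ∈ CC So ↔ g ∈ normalizer (So : Set G) ∧ ∀ x ∈ zc So, g * x = x * g := by
  unfold CC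
  rw [mem_inf, mem_centralizer_iff]
  exact and_congr_right fun _ => ⟨fun h1 x hx => (h1 x hx).symm, fun h1 x hx => (h1 x hx).symm⟩

theorem So_le_CC : So ≤ CC So := fun _ hg =>
  mem_CC.2 ⟨le_normalizer hg, fun _ hx => (mem_zc.1 hx).2.1 _ hg⟩

theorem CC_le_UU : CC So ≤ UU So V₁ := by
  intro g hg
  obtain ⟨h1, h2⟩ := mem_CC.1 hg
  refine ⟨h1, fun v hv => mul_inv_eq_iff_eq_mul.2 (h2 v (z1_le h hv)), fun x hx => ?_⟩
  rw [mul_inv_eq_iff_eq_mul.2 (h2 x hx), mul_inv_cancel]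
  exact one_mem _

/-- `|UU : CC| ≤ 2`, because a Sylow 2-subgroup of `N_G(So)/So` has order 2. -/
theorem UU_two {u u' : G} (hu : u ∈ UU So V₁) (hu' : u' ∈ UU So V₁) (h1 : u ∉ CC So) (h2 : u' ∉ CC So) :
    u⁻¹ * u' ∈ CC So := by
  set C := (CC So).subgroupOf (UU So V₁) with hC
  have hn : C.Normal := by
    refine ⟨fun n hn g => ?_⟩
    rw [hC, mem_subgroupOf] at hn ⊢
    obtain ⟨hn1, hn2⟩ := mem_CC.1 hn
    obtain ⟨hg1, hg2, hg3⟩ := g.2
    refine mem_CC.2 ⟨mul_mem (mul_mem hg1 hn1) (inv_mem hg1), fun x hx => ?_⟩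
    have h3 := zc_conj h (inv_mem hg1) hx
    rw [inv_inv] at h3
    have h4 := hn2 _ h3
    show (g : G) * n * (g : G)⁻¹ * x = x * (g * n * (g : G)⁻¹)
    calc (g : G) * n * (g : G)⁻¹ * x = g * (n * ((g : G)⁻¹ * x * g)) * (g : G)⁻¹ := by group
      _ = x * (g * n * (g : G)⁻¹) := by rw [h4]; group
  have hsq : ∀ g : UU So V₁, g * g ∈ C := by
    rintro ⟨g, hg1, hg2, hg3⟩
    rw [hC, mem_subgroupOf]
    refine mem_CC.2 ⟨mul_mem hg1 hg1, fun x hx => ?_⟩
    show g * g * x = x * (g * g)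
    have h3 := hg3 x hx
    have h4 := hg2 _ h3
    have h5 : (g * x * g⁻¹ * x⁻¹) * (g * x * g⁻¹ * x⁻¹) = 1 := by
      rw [← pow_two]; exact h.q1 _ h3.1
    rw [← mul_inv_eq_iff_eq_mul]
    calc g * g * x * (g * g)⁻¹ = (g * (g * x * g⁻¹ * x⁻¹) * g⁻¹) * (g * x * g⁻¹ * x⁻¹) * x := by group
      _ = x := by rw [h4, h5, one_mul]
  have hp : IsPGroup 2 (UU So V₁ ⧸ C) := by
    intro q
    obtain ⟨g, rfl⟩ := QuotientGroup.mk_surjective q
    refine ⟨1, ?_⟩
    rw [pow_one, pow_two, ← QuotientGroup.mk_mul, QuotientGroup.eq_one_iff]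
    exact hsq g
  obtain ⟨n, hn'⟩ := IsPGroup.iff_card.mp hp
  have hidx : C.index = 2 ^ n := hn'
  have hle : n ≤ 1 := by
    by_contra hcon
    push Not at hcon
    have h4 : 4 ∣ C.index := by
      rw [hidx]
      calc 4 = 2 ^ 2 := by norm_num
        _ ∣ 2 ^ n := pow_dvd_pow 2 hcon
    have h5 : Nat.card (UU So V₁) = Nat.card (CC So) * (CC So).relIndex (UU So V₁) :=
      (Half.card_mul_relIndex (CC_le_UU h)).symm
    have h6 : Nat.card (CC So) = Nat.card So * So.relIndex (CC So) :=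
      (Half.card_mul_relIndex (So_le_CC h)).symm
    obtain ⟨k, hk⟩ := h4
    have h7 : (CC So).relIndex (UU So V₁) = 4 * k := hk
    have h8 : Nat.card (S : Subgroup G) * 2 ∣ Nat.card (UU So V₁) := by
      rw [h5, h6, h7, h.card]
      exact ⟨So.relIndex (CC So) * k, by ring⟩
    have h9 : Nat.card (S : Subgroup G) * 2 ∣ Nat.card G := h8.trans (Subgroup.card_subgroup_dvd_card _)
    rw [← Subgroup.card_mul_index (S : Subgroup G)] at h9
    have : Fact (Nat.Prime 2) := ⟨Nat.prime_two⟩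
    exact S.not_dvd_index (Nat.dvd_of_mul_dvd_mul_left Nat.card_pos h9)
  rcases Nat.eq_zero_or_pos n with h0 | h0
  · exfalso
    rw [h0, pow_zero, Subgroup.index_eq_one] at hidx
    apply h1
    have : (⟨u, hu⟩ : UU So V₁) ∈ C := by rw [hidx]; exact mem_top _
    exact mem_subgroupOf.1 this
  · have h3 : n = 1 := le_antisymm hle h0
    rw [h3, pow_one] at hidx
    have h4 := (mul_mem_iff_of_index_two hidx (a := (⟨u, hu⟩ : UU So V₁)⁻¹) (b := ⟨u', hu'⟩))
    rw [inv_mem_iff] at h4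
    exact mem_subgroupOf.1 (h4.2 (iff_of_false (fun h5 => h1 (mem_subgroupOf.1 h5))
      (fun h5 => h2 (mem_subgroupOf.1 h5))))

variable {T₁ T₂ : Subgroup G} (τ : Tor So V₁ V₂ T₁ T₂)

include τ

theorem T1_zc {a x : G} (ha : a ∈ T₁) (hx : x ∈ zc So) :
    a * x * a⁻¹ * x⁻¹ ∈ V₁ ⊓ centralizer (So : Set G) := by
  obtain ⟨c, hc, d, hd, rfl⟩ := zc_prod h hx
  have h1 : a * d * a⁻¹ = d := mul_inv_eq_iff_eq_mul.2 (τ.c12 a ha d hd)
  have h2 : a * (c * d) * a⁻¹ * (c * d)⁻¹ = (a * c * a⁻¹) * (a * d * a⁻¹ * d⁻¹) * c⁻¹ := by group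
  rw [h2, h1, mul_inv_cancel, mul_one]
  exact mul_mem (τ.a1 a ha c hc) (inv_mem hc)

/-- An element of `Z₁` fixed by `T₁` is trivial. -/
theorem fix_one {c : G} (hc : c ∈ V₁ ⊓ centralizer (So : Set G))
    (hfix : ∀ a ∈ T₁, a * c * a⁻¹ = c) : c = 1 := by
  by_contra hc1
  obtain ⟨y, hy, hy1, hyc⟩ := exists_third τ.big1 c
  obtain ⟨a, ha, hac⟩ := τ.t1 c hc hc1 y hy hy1
  exact hyc (hac.symm.trans (hfix a ha))

/-- An element of `N_G(So)` which centralises `Z₁` and `Ω₁Z(So)/Z₁` centralises `Ω₁Z(So)`. -/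
theorem trivial_of {u : G} (hu : u ∈ UU So V₁) : u ∈ CC So := by
  by_contra huC
  apply huC
  obtain ⟨hu1, hu2, hu3⟩ := hu
  refine mem_CC.2 ⟨hu1, ?_⟩
  -- `u` centralises `Z₂`
  have key : ∀ d ∈ V₂ ⊓ centralizer (So : Set G), u * d = d * u := by
    intro d hd
    have he := hu3 d (z2_le h hd)
    have hfix : ∀ a ∈ T₁, a * (u * d * u⁻¹ * d⁻¹) * a⁻¹ = u * d * u⁻¹ * d⁻¹ := by
      intro a ha
      have haN := τ.n1 ha
      have hau : a * u * a⁻¹ ∈ UU So V₁ := by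
        refine ⟨mul_mem (mul_mem haN hu1) (inv_mem haN), fun v hv => ?_, fun x hx => ?_⟩
        · have h1 := τ.a1 a⁻¹ (inv_mem ha) v hv
          rw [inv_inv] at h1
          have h2 := hu2 _ h1
          calc a * u * a⁻¹ * v * (a * u * a⁻¹)⁻¹ = a * (u * (a⁻¹ * v * a) * u⁻¹) * a⁻¹ := by group
            _ = v := by rw [h2]; group
        · have h1 := zc_conj h (inv_mem haN) hx
          rw [inv_inv] at h1
          have h2 := τ.a1 a ha _ (hu3 _ h1)
          have e : a * u * a⁻¹ * x * (a * u * a⁻¹)⁻¹ * x⁻¹ =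
              a * (u * (a⁻¹ * x * a) * u⁻¹ * (a⁻¹ * x * a)⁻¹) * a⁻¹ := by group
          rw [e]; exact h2
      have hauC : a * u * a⁻¹ ∉ CC So := by
        intro h1
        apply huC
        obtain ⟨h2, h3⟩ := mem_CC.1 h1
        refine mem_CC.2 ⟨hu1, fun x hx => ?_⟩
        have h4 := h3 _ (zc_conj h haN hx)
        calc u * x = a⁻¹ * (a * u * a⁻¹ * (a * x * a⁻¹)) * a := by group
          _ = x * u := by rw [h4]; group
      have hc0 := UU_two h ⟨hu1, hu2, hu3⟩ hau huC hauC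
      obtain ⟨-, h5⟩ := mem_CC.1 hc0
      have h6 := h5 d (z2_le h hd)
      have h7 := τ.c12 a ha d hd
      have h8 : a⁻¹ * d * a = d := by
        calc a⁻¹ * d * a = a⁻¹ * (a * d) := by rw [h7]; group
          _ = d := by group
      -- `(aua⁻¹) d (aua⁻¹)⁻¹ = u d u⁻¹`
      have h9 : (a * u * a⁻¹) * d * (a * u * a⁻¹)⁻¹ = u * d * u⁻¹ := by
        calc (a * u * a⁻¹) * d * (a * u * a⁻¹)⁻¹
            = u * (u⁻¹ * (a * u * a⁻¹) * d) * (a * u * a⁻¹)⁻¹ := by group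
          _ = u * d * u⁻¹ := by rw [h6]; group
      calc a * (u * d * u⁻¹ * d⁻¹) * a⁻¹
          = (a * u * a⁻¹) * (a * d * a⁻¹) * (a * u * a⁻¹)⁻¹ * (a * d * a⁻¹)⁻¹ := by group
        _ = (a * u * a⁻¹) * d * (a * u * a⁻¹)⁻¹ * d⁻¹ := by rw [mul_inv_eq_iff_eq_mul.2 h7]
        _ = u * d * u⁻¹ * d⁻¹ := by rw [h9]
    have h1 := fix_one h τ he hfix
    exact mul_inv_eq_iff_eq_mul.1 (mul_inv_eq_one.1 h1)
  intro x hx
  obtain ⟨c, hc, d, hd, rfl⟩ := zc_prod h hx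
  have h1 : u * c = c * u := mul_inv_eq_iff_eq_mul.1 (hu2 c hc)
  calc u * (c * d) = (u * c) * d := by group
    _ = c * (u * d) := by rw [h1]; group
    _ = c * d * u := by rw [key d hd]; group

/-- An element of `N_G(So)` which normalises `Z₁` normalises `Z₂`. -/
theorem norm_two {w : G} (hw : w ∈ normalizer (So : Set G))
    (hwZ : ∀ v ∈ V₁ ⊓ centralizer (So : Set G), w * v * w⁻¹ ∈ V₁ ⊓ centralizer (So : Set G))
    {z : G} (hz : z ∈ V₂ ⊓ centralizer (So : Set G)) : w * z * w⁻¹ ∈ V₂ ⊓ centralizer (So : Set G) := by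
  have hwN : w ∈ normalizer ((V₁ ⊓ centralizer (So : Set G) : Subgroup G) : Set G) := by
    apply mem_normalizer_of_map_le
    rintro _ ⟨x, hx, rfl⟩
    exact hwZ x hx
  -- conjugates of elements of `T₂` normalise `Z₂`
  have hb : ∀ b ∈ T₂, (∀ v ∈ V₁ ⊓ centralizer (So : Set G), w * b * w⁻¹ * v * (w * b * w⁻¹)⁻¹ = v) ∧
      ∀ d ∈ V₂ ⊓ centralizer (So : Set G),
        w * b * w⁻¹ * d * (w * b * w⁻¹)⁻¹ ∈ V₂ ⊓ centralizer (So : Set G) := by
    intro b hb
    have hbN : w * b * w⁻¹ ∈ normalizer (So : Set G) := mul_mem (mul_mem hw (τ.n2 hb)) (inv_mem hw)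
    have h1 : ∀ v ∈ V₁ ⊓ centralizer (So : Set G), w * b * w⁻¹ * v * (w * b * w⁻¹)⁻¹ = v := by
      intro v hv
      have h2 := (mem_normalizer_iff.1 (inv_mem hwN) v).1 hv
      rw [inv_inv] at h2
      have h3 := mul_inv_eq_iff_eq_mul.2 (τ.c21 b hb _ h2)
      calc w * b * w⁻¹ * v * (w * b * w⁻¹)⁻¹ = w * (b * (w⁻¹ * v * w) * b⁻¹) * w⁻¹ := by group
        _ = v := by rw [h3]; group
    refine ⟨h1, fun d hd => ?_⟩
    set b' := w * b * w⁻¹ with hb'
    have h1' : ∀ v ∈ V₁ ⊓ centralizer (So : Set G), b'⁻¹ * v * b' = v := by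
      intro v hv
      have h2 := h1 v hv
      calc b'⁻¹ * v * b' = b'⁻¹ * (b' * v * b'⁻¹) * b' := by rw [h2]
        _ = v := by group
    -- `[a, b'] ∈ UU`, so it centralises `Ω₁Z(So)`
    have hcomm : ∀ a ∈ T₁, a * b' * a⁻¹ * b'⁻¹ ∈ CC So := by
      intro a ha
      apply trivial_of h τ
      have haN := τ.n1 ha
      refine ⟨mul_mem (mul_mem (mul_mem haN hbN) (inv_mem haN)) (inv_mem hbN), fun v hv => ?_,
        fun x hx => ?_⟩
      · have h3 := τ.a1 a⁻¹ (inv_mem ha) v hv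
        rw [inv_inv] at h3
        calc a * b' * a⁻¹ * b'⁻¹ * v * (a * b' * a⁻¹ * b'⁻¹)⁻¹
            = a * (b' * (a⁻¹ * (b'⁻¹ * v * b') * a) * b'⁻¹) * a⁻¹ := by group
          _ = a * (b' * (a⁻¹ * v * a) * b'⁻¹) * a⁻¹ := by rw [h1' v hv]
          _ = v := by rw [h1 _ h3]; group
      · -- both factors `a` and `b' a⁻¹ b'⁻¹` are trivial modulo `Z₁`
        have h3 := zc_conj h (inv_mem hbN) hx
        rw [inv_inv] at h3
        have h4 := T1_zc h τ (inv_mem ha) h3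
        have h5 : b' * a⁻¹ * b'⁻¹ * x * (b' * a⁻¹ * b'⁻¹)⁻¹ * x⁻¹ ∈ V₁ ⊓ centralizer (So : Set G) := by
          have e : b' * a⁻¹ * b'⁻¹ * x * (b' * a⁻¹ * b'⁻¹)⁻¹ * x⁻¹ =
              b' * (a⁻¹ * (b'⁻¹ * x * b') * a⁻¹⁻¹ * (b'⁻¹ * x * b')⁻¹) * b'⁻¹ := by group
          rw [e, h1 _ h4]; exact h4
        have h6 : a * b' * a⁻¹ * b'⁻¹ * x * (a * b' * a⁻¹ * b'⁻¹)⁻¹ * x⁻¹ =
            (a * (b' * a⁻¹ * b'⁻¹ * x * (b' * a⁻¹ * b'⁻¹)⁻¹ * x⁻¹) * a⁻¹) * (a * x * a⁻¹ * x⁻¹) := by group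
        rw [h6]
        exact mul_mem (τ.a1 a ha _ h5) (T1_zc h τ ha hx)
    have hy := zc_conj h hbN (z2_le h hd)
    have hfix : ∀ a ∈ T₁, a * (b' * d * b'⁻¹) * a⁻¹ = b' * d * b'⁻¹ := by
      intro a ha
      obtain ⟨-, h2⟩ := mem_CC.1 (hcomm a ha)
      have h3 := h2 _ hy
      have h4 : a⁻¹ * d * a = d := by
        calc a⁻¹ * d * a = a⁻¹ * (a * d) := by rw [τ.c12 a ha d hd]; group
          _ = d := by group
      have h5 : a * d * a⁻¹ = d := mul_inv_eq_iff_eq_mul.2 (τ.c12 a ha d hd)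
      calc a * (b' * d * b'⁻¹) * a⁻¹
          = (a * b' * a⁻¹ * b'⁻¹) * (b' * (a * d * a⁻¹) * b'⁻¹) * (a * b' * a⁻¹ * b'⁻¹)⁻¹ := by group
        _ = (a * b' * a⁻¹ * b'⁻¹) * (b' * d * b'⁻¹) * (a * b' * a⁻¹ * b'⁻¹)⁻¹ := by rw [h5]
        _ = b' * d * b'⁻¹ := by rw [h3]; group
    obtain ⟨c, hc, e, he, hce⟩ := zc_prod h hy
    have hc1 : c = 1 := by
      apply fix_one h τ hc
      intro a ha
      have h2 := hfix a ha
      rw [hce] at h2
      have h3 : a * e * a⁻¹ = e := mul_inv_eq_iff_eq_mul.2 (τ.c12 a ha e he)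
      have h4 : a * (c * e) * a⁻¹ = (a * c * a⁻¹) * (a * e * a⁻¹) := by group
      rw [h4, h3] at h2
      exact mul_right_cancel h2
    rw [hce, hc1, one_mul]
    exact he
  by_cases hz1 : z = 1
  · rw [hz1, mul_one, mul_inv_cancel]; exact one_mem _
  obtain ⟨y, hy, hy1, hyz⟩ := exists_third τ.big2 z
  have hyz1 : y * z ≠ 1 := by
    intro h1
    apply hyz
    have h2 : z * z = 1 := by rw [← pow_two]; exact h.q2 z hz.1
    exact mul_right_cancel (h1.trans h2.symm)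
  obtain ⟨b, hbT, hby⟩ := τ.t2 y hy hy1 _ (mul_mem hy hz) hyz1
  obtain ⟨hb1, hb2⟩ := hb b hbT
  obtain ⟨c, hc, d, hd, hcd⟩ := zc_prod h (zc_conj h hw (z2_le h hy))
  have e1 : w * z * w⁻¹ = (w * y * w⁻¹)⁻¹ * ((w * b * w⁻¹) * (w * y * w⁻¹) * (w * b * w⁻¹)⁻¹) := by
    have h1 : z = y⁻¹ * (b * y * b⁻¹) := by rw [hby]; group
    calc w * z * w⁻¹ = w * (y⁻¹ * (b * y * b⁻¹)) * w⁻¹ := by rw [← h1]
      _ = _ := by group
  have e2 : (w * b * w⁻¹) * (c * d) * (w * b * w⁻¹)⁻¹ =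
      c * ((w * b * w⁻¹) * d * (w * b * w⁻¹)⁻¹) := by
    have h1 := hb1 c hc
    calc (w * b * w⁻¹) * (c * d) * (w * b * w⁻¹)⁻¹
        = ((w * b * w⁻¹) * c * (w * b * w⁻¹)⁻¹) * ((w * b * w⁻¹) * d * (w * b * w⁻¹)⁻¹) := by group
      _ = _ := by rw [h1]
  rw [e1, hcd, e2]
  have e3 : (c * d)⁻¹ * (c * ((w * b * w⁻¹) * d * (w * b * w⁻¹)⁻¹)) =
      d⁻¹ * ((w * b * w⁻¹) * d * (w * b * w⁻¹)⁻¹) := by group
  rw [e3]
  exact mul_mem (inv_mem hd) (hb2 d hd)

/-- The elements of `N_G(So)` which permute `Z₁` and `Z₂`. -/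
def MM (So V₁ V₂ : Subgroup G) : Subgroup G where
  carrier := {g | g ∈ normalizer (So : Set G) ∧
    (((∀ v, v ∈ V₁ ⊓ centralizer (So : Set G) ↔ g * v * g⁻¹ ∈ V₁ ⊓ centralizer (So : Set G)) ∧
      (∀ v, v ∈ V₂ ⊓ centralizer (So : Set G) ↔ g * v * g⁻¹ ∈ V₂ ⊓ centralizer (So : Set G))) ∨
    ((∀ v, v ∈ V₁ ⊓ centralizer (So : Set G) ↔ g * v * g⁻¹ ∈ V₂ ⊓ centralizer (So : Set G)) ∧
      (∀ v, v ∈ V₂ ⊓ centralizer (So : Set G) ↔ g * v * g⁻¹ ∈ V₁ ⊓ centralizer (So : Set G))))}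
  one_mem' := ⟨one_mem _, Or.inl ⟨fun v => by simp, fun v => by simp⟩⟩
  mul_mem' := by
    rintro a b ⟨ha, ha'⟩ ⟨hb, hb'⟩
    refine ⟨mul_mem ha hb, ?_⟩
    have e : ∀ v, a * b * v * (a * b)⁻¹ = a * (b * v * b⁻¹) * a⁻¹ := fun v => by group
    simp only [e]
    rcases ha' with ⟨a1, a2⟩ | ⟨a1, a2⟩ <;> rcases hb' with ⟨b1, b2⟩ | ⟨b1, b2⟩
    · exact Or.inl ⟨fun v => (b1 v).trans (a1 _), fun v => (b2 v).trans (a2 _)⟩
    · exact Or.inr ⟨fun v => (b1 v).trans (a2 _), fun v => (b2 v).trans (a1 _)⟩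
    · exact Or.inr ⟨fun v => (b1 v).trans (a1 _), fun v => (b2 v).trans (a2 _)⟩
    · exact Or.inl ⟨fun v => (b1 v).trans (a2 _), fun v => (b2 v).trans (a1 _)⟩
  inv_mem' := by
    rintro a ⟨ha, ha'⟩
    refine ⟨inv_mem ha, ?_⟩
    have e : ∀ v, a * (a⁻¹ * v * a⁻¹⁻¹) * a⁻¹ = v := fun v => by group
    rcases ha' with ⟨a1, a2⟩ | ⟨a1, a2⟩
    · exact Or.inl ⟨fun v => by rw [a1 (a⁻¹ * v * a⁻¹⁻¹), e], fun v => by rw [a2 (a⁻¹ * v * a⁻¹⁻¹), e]⟩
    · exact Or.inr ⟨fun v => by rw [a2 (a⁻¹ * v * a⁻¹⁻¹), e], fun v => by rw [a1 (a⁻¹ * v * a⁻¹⁻¹), e]⟩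

/-- **No Sylow 2-subgroup of `G` containing `So` normalises `Z₁`** (`|Z₁| ≥ 3`). -/
theorem no_sylow {T : Sylow 2 G} (hT : So ≤ (T : Subgroup G))
    (hTZ : ∀ t ∈ (T : Subgroup G), ∀ v ∈ V₁ ⊓ centralizer (So : Set G),
      t * v * t⁻¹ ∈ V₁ ⊓ centralizer (So : Set G)) : False := by
  have : Fact (Nat.Prime 2) := ⟨Nat.prime_two⟩
  have hcT : Nat.card (T : Subgroup G) = 2 * Nat.card So := by
    rw [← h.card, T.card_eq_multiplicity, S.card_eq_multiplicity]
  have hTN : (T : Subgroup G) ≤ normalizer (So : Set G) :=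
    le_normalizer_of fun _ hk _ hy => conj_mem_of_two hT (two_cosets hT hcT) hk hy
  have hTZ2 : ∀ t ∈ (T : Subgroup G), ∀ v ∈ V₂ ⊓ centralizer (So : Set G),
      t * v * t⁻¹ ∈ V₂ ⊓ centralizer (So : Set G) := fun t ht v hv =>
    norm_two h τ (hTN ht) (hTZ t ht) hv
  have iff_of : ∀ {K Z : Subgroup G}, (∀ k ∈ K, ∀ v ∈ Z, k * v * k⁻¹ ∈ Z) →
      ∀ k ∈ K, ∀ v, v ∈ Z ↔ k * v * k⁻¹ ∈ Z := fun hK k hk v =>
    mem_normalizer_iff.1 (le_normalizer_of hK hk) v
  have hT0 : ∀ t ∈ (T : Subgroup G),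
      (∀ v, v ∈ V₁ ⊓ centralizer (So : Set G) ↔ t * v * t⁻¹ ∈ V₁ ⊓ centralizer (So : Set G)) ∧
      (∀ v, v ∈ V₂ ⊓ centralizer (So : Set G) ↔ t * v * t⁻¹ ∈ V₂ ⊓ centralizer (So : Set G)) :=
    fun t ht => ⟨iff_of hTZ t ht, iff_of hTZ2 t ht⟩
  have hTM : (T : Subgroup G) ≤ MM So V₁ V₂ := fun t ht => ⟨hTN ht, Or.inl (hT0 t ht)⟩
  have hSM : (S : Subgroup G) ≤ MM So V₁ V₂ := by
    intro x hx
    refine ⟨S_norm h hx, ?_⟩
    by_cases hxS : x ∈ So
    · have fix : ∀ {V : Subgroup G}, ∀ v ∈ V ⊓ centralizer (So : Set G), ∀ k ∈ So,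
          k * v * k⁻¹ = v := fun v hv k hk =>
        mul_inv_eq_iff_eq_mul.2 (mem_centralizer_iff.1 hv.2 k hk)
      exact Or.inl ⟨iff_of (K := So) (fun k hk v hv => by rw [fix v hv k hk]; exact hv) x hxS,
        iff_of (K := So) (fun k hk v hv => by rw [fix v hv k hk]; exact hv) x hxS⟩
    · have hxi : x⁻¹ ∉ So := fun h1 => hxS (inv_mem_iff.1 h1)
      refine Or.inr ⟨fun v => ⟨fun hv => ⟨h.sw1 x hx hxS v hv.1, conj_cent h hx hv.2⟩, fun hv => ?_⟩,
        fun v => ⟨fun hv => ⟨h.sw2 x hx hxS v hv.1, conj_cent h hx hv.2⟩, fun hv => ?_⟩⟩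
      · have h1 := h.sw2 x⁻¹ (inv_mem hx) hxi _ hv.1
        have h2 := conj_cent h (inv_mem hx) hv.2
        have e : x⁻¹ * (x * v * x⁻¹) * x⁻¹⁻¹ = v := by group
        rw [e] at h1 h2
        exact ⟨h1, h2⟩
      · have h1 := h.sw1 x⁻¹ (inv_mem hx) hxi _ hv.1
        have h2 := conj_cent h (inv_mem hx) hv.2
        have e : x⁻¹ * (x * v * x⁻¹) * x⁻¹⁻¹ = v := by group
        rw [e] at h1 h2
        exact ⟨h1, h2⟩
  obtain ⟨n, hn, hnS⟩ := Lib.GoldschmidtFusion.exists_conj_le_in (p := 2) T.isPGroup'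
    (MinSimple.Basic.not_dvd_relIndex T hTM) hSM S.isPGroup'
  obtain ⟨s, hs, hsS⟩ := exists_not_mem h.SoS h.card
  have hnsT : n * s * n⁻¹ ∈ (T : Subgroup G) := hnS ⟨s, hs, rfl⟩
  obtain ⟨h1, h2⟩ := hT0 _ hnsT
  -- a nontrivial element of `Z₁`
  obtain ⟨v, hv, hv1, -⟩ := exists_third τ.big1 1
  have hsv : s * v * s⁻¹ ∈ V₂ ⊓ centralizer (So : Set G) := ⟨h.sw1 s hs hsS v hv.1, conj_cent h hs hv.2⟩
  have hcontra : ∀ y, y ∈ V₁ ⊓ centralizer (So : Set G) → y ∈ V₂ ⊓ centralizer (So : Set G) → y = 1 :=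
    fun y hy hy' => h.inf y hy.1 hy'.1
  have e1 : ∀ y, n * s * n⁻¹ * (n * y * n⁻¹) * (n * s * n⁻¹)⁻¹ = n * (s * y * s⁻¹) * n⁻¹ :=
    fun y => by group
  have hsv1 : s * v * s⁻¹ ≠ 1 := by
    intro h3
    apply hv1
    have h4 : v = s⁻¹ * (s * v * s⁻¹) * s := by group
    rw [h4, h3]; group
  have hn1 : n * (s * v * s⁻¹) * n⁻¹ ≠ 1 := by
    intro h3
    apply hsv1
    have h4 : s * v * s⁻¹ = n⁻¹ * (n * (s * v * s⁻¹) * n⁻¹) * n := by group
    rw [h4, h3]; group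
  rcases hn.2 with ⟨n1, n2⟩ | ⟨n1, n2⟩
  · have h3 := (h1 _).1 ((n1 v).1 hv)
    rw [e1] at h3
    exact hn1 (hcontra _ h3 ((n2 _).1 hsv))
  · have h3 := (h2 _).1 ((n1 v).1 hv)
    rw [e1] at h3
    exact hn1 (hcontra _ ((n2 _).1 hsv) h3)

/-- **`So` is the only 2-subgroup `T ≥ So` of `G` which normalises `Z₁`** (`|Z₁| ≥ 3`). -/
theorem le_So {T : Subgroup G} (hT2 : IsPGroup 2 T) (hT : So ≤ T)
    (hTZ : ∀ t ∈ T, ∀ v ∈ V₁ ⊓ centralizer (So : Set G),
      t * v * t⁻¹ ∈ V₁ ⊓ centralizer (So : Set G)) : T ≤ So := by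
  by_contra hcon
  have : Fact (Nat.Prime 2) := ⟨Nat.prime_two⟩
  obtain ⟨Q, hQ⟩ := hT2.exists_le_sylow
  have h1 : Nat.card T ∣ Nat.card (S : Subgroup G) := by
    have h2 : Nat.card (Q : Subgroup G) = Nat.card (S : Subgroup G) := by
      rw [Q.card_eq_multiplicity, S.card_eq_multiplicity]
    rw [← h2]
    exact Subgroup.card_dvd_of_le hQ
  have h3 := Half.card_mul_relIndex hT
  have h4 : So.relIndex T ∣ 2 := by
    rw [h.card, ← h3, mul_comm 2] at h1
    exact Nat.dvd_of_mul_dvd_mul_left Nat.card_pos h1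
  have h5 : So.relIndex T ≠ 1 := fun h5 => hcon (relIndex_eq_one.mp h5)
  have h6 : So.relIndex T = 2 := ((Nat.dvd_prime Nat.prime_two).1 h4).resolve_left h5
  have h7 : T = (Q : Subgroup G) := by
    refine eq_of_le_of_card_ge hQ ?_
    rw [Q.card_eq_multiplicity, ← S.card_eq_multiplicity, h.card, ← h3, h6, mul_comm]
  subst h7
  exact no_sylow h τ hT hTZ

end

end Cfsg.Agent.Omega.IId.TriangleQ

end

section


/-!
# LEMMA NL (helper963, bb OMEGA #17249): nonlocality for free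

`G` of characteristic 2 type, `1 ≠ R ≤ A`, `A` a 2-group, `C_G(R) ≤ H ≤ N_G(R)`, `A ≤ O₂(H)`, `[A, O₂(H)] ≤ R`,
`D ≤ N_G(A)` irreducible on `A`.

* `nonLoc_mixed` : two such groups `A`, `B` with `R ≤ [A, B]`, `D'` irreducible on `B`: no nontrivial 2-group is
  normalised by `H`, `D` and `D'` (no Sylow hypothesis);
* `Cor.nonLoc` : `R ≤ [A, A^c]` for some `c ∈ H`: `NonLoc H D`;
* `cor_four`, `nonLoc_four` : `A` a four-group, `H = C_G(v)`.
-/

set_option autoImplicit false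
set_option linter.unusedSectionVars false

namespace Cfsg.Agent.Omega.IId.NLFree

open Subgroup Cfsg Cfsg.Agent.ZN Cfsg.Agent.Omega.MinPar Cfsg.Agent.Omega
open Cfsg.Agent.MinSimple.VModule (o2_le o2_isPGroup le_normalizer_o2 le_o2)

universe u

variable {G : Type u} [Group G]

/-! ### Generalities -/

theorem isPGroup_of_odd [Finite G] {X : Subgroup G} (h : ∀ x ∈ X, Odd (orderOf x) → x = 1) : IsPGroup 2 X := by
  rintro ⟨x, hx⟩
  have hpos : 0 < orderOf x := orderOf_pos x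
  obtain ⟨k, m, hm, e⟩ := Nat.exists_eq_two_pow_mul_odd hpos.ne'
  refine ⟨k, Subtype.ext (h _ (X.pow_mem hx _) ?_)⟩
  have h1 : orderOf (x ^ 2 ^ k) = m := by
    rw [orderOf_pow_of_dvd (by positivity) (by rw [e]; exact dvd_mul_right _ _), e]
    exact Nat.mul_div_cancel_left _ (by positivity)
  show Odd (orderOf (x ^ 2 ^ k))
  rw [h1]
  exact hm

theorem eq_one_of_odd {X : Subgroup G} (h : IsPGroup 2 X) {x : G} (hx : x ∈ X) (ho : Odd (orderOf x)) : x = 1 := by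
  obtain ⟨k, hk⟩ := h ⟨x, hx⟩
  have hk' : x ^ 2 ^ k = 1 := congrArg Subtype.val hk
  have h1 := orderOf_dvd_of_pow_eq_one hk'
  have h2 : Nat.Coprime (orderOf x) (2 ^ k) := Nat.Coprime.pow_right k (Nat.coprime_two_right.2 ho)
  exact orderOf_eq_one_iff.1 (Nat.Coprime.eq_one_of_dvd h2 h1)

/-- odd order elements stabilising a chain of length 2 of a 2-group -/
theorem comm_of_odd {c w : G} (hc : Odd (orderOf c)) {P : Subgroup G} (hP : IsPGroup 2 P)
    (h : c * w * c⁻¹ * w⁻¹ ∈ P) (h2 : c * (c * w * c⁻¹ * w⁻¹) = c * w * c⁻¹ * w⁻¹ * c) : c * w = w * c := by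
  set t := c * w * c⁻¹ * w⁻¹ with ht
  have hk : ∀ k : ℕ, c ^ k * w * (c ^ k)⁻¹ = t ^ k * w := by
    intro k
    induction k with
    | zero => simp
    | succ k ih =>
      have hct : c * t ^ k = t ^ k * c := (show Commute c t from h2).pow_right k
      calc c ^ (k + 1) * w * (c ^ (k + 1))⁻¹ = c * (c ^ k * w * (c ^ k)⁻¹) * c⁻¹ := by
            rw [pow_succ']; group
        _ = (c * t ^ k) * w * c⁻¹ := by rw [ih]; group
        _ = t ^ k * (c * w * c⁻¹ * w⁻¹) * w := by rw [hct]; group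
        _ = t ^ (k + 1) * w := by rw [← ht, pow_succ]
  have h1 := hk (orderOf c)
  rw [pow_orderOf_eq_one] at h1
  have h3 : t ^ orderOf c = 1 := by
    have h4 : w = t ^ orderOf c * w := by
      calc w = 1 * w * 1⁻¹ := by group
        _ = _ := h1
    have h5 : t ^ orderOf c * w = 1 * w := by rw [one_mul]; exact h4.symm
    exact mul_right_cancel h5
  have h6 : t = 1 := by
    apply eq_one_of_odd hP h
    exact Odd.of_dvd_nat hc (orderOf_dvd_of_pow_eq_one h3)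
  have h7 : c * w * c⁻¹ * w⁻¹ = 1 := by rw [← ht]; exact h6
  calc c * w = c * w * c⁻¹ * w⁻¹ * (w * c) := by group
    _ = w * c := by rw [h7, one_mul]

/-- a fixed point of `S` on `Q/M` -/
theorem exists_fix_mod [Finite G] {S M Q : Subgroup G} (hS : IsPGroup 2 S) (hMS : M ≤ S) (hQS : Q ≤ S)
    (hM : S ≤ normalizer (M : Set G)) (hQ : S ≤ normalizer (Q : Set G)) (hQM : ¬ Q ≤ M) :
    ∃ x ∈ Q, x ∉ M ∧ ∀ s ∈ S, s * x * s⁻¹ * x⁻¹ ∈ M := by
  have hp : Fact (Nat.Prime 2) := ⟨Nat.prime_two⟩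
  have hMn : (M.subgroupOf S).Normal := (normal_subgroupOf_iff_le_normalizer hMS).2 hM
  have hQn : (Q.subgroupOf S).Normal := (normal_subgroupOf_iff_le_normalizer hQS).2 hQ
  let p := QuotientGroup.mk' (M.subgroupOf S)
  have hp1 : Function.Surjective p := QuotientGroup.mk'_surjective _
  have hpk : ∀ y : S, p y = 1 → (y : G) ∈ M := fun y hy => (QuotientGroup.eq_one_iff y).1 hy
  have hN : ((Q.subgroupOf S).map p).Normal := hQn.map p hp1
  have hne : (Q.subgroupOf S).map p ≠ ⊥ := by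
    intro h0
    apply hQM
    intro x hx
    have hxS := hQS hx
    have h1 : p ⟨x, hxS⟩ ∈ (Q.subgroupOf S).map p := ⟨⟨x, hxS⟩, hx, rfl⟩
    rw [h0, mem_bot] at h1
    exact hpk _ h1
  have hSp : IsPGroup 2 (S ⧸ M.subgroupOf S) := hS.of_surjective p hp1
  obtain ⟨y, hy, hyc, hyo⟩ := Involutions.NormalFour.exists_mem_center_of_normal hSp _ hne
  obtain ⟨⟨x, hxS⟩, hx, rfl⟩ := hy
  refine ⟨x, hx, ?_, ?_⟩
  · intro hxM
    have h1 : p ⟨x, hxS⟩ = 1 := (QuotientGroup.eq_one_iff _).2 hxM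
    rw [h1, orderOf_one] at hyo
    omega
  · intro s hs
    have h1 := (mem_center_iff.1 hyc) (p ⟨s, hs⟩)
    have h2 : p (⟨s, hs⟩ * ⟨x, hxS⟩ * ⟨s, hs⟩⁻¹ * ⟨x, hxS⟩⁻¹) = 1 := by
      rw [map_mul, map_mul, map_mul, map_inv, map_inv, h1]
      group
    exact hpk _ h2

theorem le_normalizer_of {K V : Subgroup G} (h : ∀ k ∈ K, ∀ v ∈ V, k * v * k⁻¹ ∈ V) :
    K ≤ normalizer (V : Set G) := by
  intro k hk
  rw [mem_normalizer_iff]
  intro v
  refine ⟨fun hv => h k hk v hv, fun hv => ?_⟩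
  have h1 := h k⁻¹ (inv_mem hk) _ hv
  have e : k⁻¹ * (k * v * k⁻¹) * k⁻¹⁻¹ = v := by group
  rwa [e] at h1

theorem conj_mem_of {K V : Subgroup G} (h : K ≤ normalizer (V : Set G)) {k v : G} (hk : k ∈ K) (hv : v ∈ V) :
    k * v * k⁻¹ ∈ V := (mem_normalizer_iff.1 (h hk) v).1 hv

theorem le_normalizer_cent {K V : Subgroup G} (h : K ≤ normalizer (V : Set G)) :
    K ≤ normalizer ((centralizer (V : Set G) : Subgroup G) : Set G) := by
  apply le_normalizer_of
  intro k hk c hc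
  rw [mem_centralizer_iff] at hc ⊢
  intro y hy
  have h2 := conj_mem_of h (inv_mem hk) hy
  have h3 := hc _ h2
  rw [inv_inv] at h3
  calc y * (k * c * k⁻¹) = k * (k⁻¹ * y * k * c) * k⁻¹ := by group
    _ = k * (c * (k⁻¹ * y * k)) * k⁻¹ := by rw [h3]
    _ = k * c * k⁻¹ * y := by group

theorem comm_of_mem_cent {V : Subgroup G} {c v : G} (hc : c ∈ centralizer (V : Set G)) (hv : v ∈ V) :
    v * c = c * v := mem_centralizer_iff.1 hc v hv

/-! ### The abstract lemma -/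

/-- The data of one side. -/
structure Cor (R A H D : Subgroup G) : Prop where
  RA : R ≤ A
  R1 : R ≠ ⊥
  pA : IsPGroup 2 A
  cH : centralizer (R : Set G) ≤ H
  HR : H ≤ normalizer (R : Set G)
  AQ : A ≤ o2 H
  com : ∀ a ∈ A, ∀ x ∈ o2 H, a * x * a⁻¹ * x⁻¹ ∈ R
  DA : D ≤ normalizer (A : Set G)
  irr : ∀ X : Subgroup G, D ≤ normalizer (X : Set G) → A ⊓ X ≠ ⊥ → A ≤ X

namespace Cor

variable [Finite G] {R A H D K : Subgroup G}

theorem A1 (h : Cor R A H D) : A ≠ ⊥ := fun h0 => h.R1 (le_bot_iff.1 (h0 ▸ h.RA))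

theorem AH (h : Cor R A H D) : A ≤ H := h.AQ.trans (o2_le _)

/-- `K ∩ H ≤ C(A)` if `A ≤ K`. -/
theorem inf_le_cent (h : Cor R A H D) (hK : IsPGroup 2 K) (hHK : H ≤ normalizer (K : Set G))
    (hDK : D ≤ normalizer (K : Set G)) : K ⊓ H ≤ centralizer (A : Set G) := by
  have h1 : K ⊓ H ≤ o2 H := by
    refine le_o2 inf_le_right (hK.to_le inf_le_left) ?_
    exact Half.le_normalizer_inf hHK le_normalizer
  have h2 : K ⊓ H ≤ normalizer (A : Set G) := by
    apply le_normalizer_of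
    intro k hk a ha
    have h3 := h.RA (h.com a ha k (h1 hk))
    have h4 : k * a * k⁻¹ = (a⁻¹ * (a * k * a⁻¹ * k⁻¹))⁻¹ := by group
    rw [h4]
    exact inv_mem (mul_mem (inv_mem ha) h3)
  have h3 : D ≤ normalizer ((K ⊓ normalizer (A : Set G) : Subgroup G) : Set G) :=
    Half.le_normalizer_inf hDK (h.DA.trans le_normalizer)
  obtain ⟨v, hv, hv1, hvc⟩ := Half.exists_fixed h.pA h.A1
    (hK.to_le (inf_le_left : K ⊓ normalizer (A : Set G) ≤ K)) inf_le_right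
  have h4 : A ⊓ centralizer ((K ⊓ normalizer (A : Set G) : Subgroup G) : Set G) ≠ ⊥ := by
    intro h0
    have h5 : v ∈ A ⊓ centralizer ((K ⊓ normalizer (A : Set G) : Subgroup G) : Set G) := by
      refine ⟨hv, mem_centralizer_iff.2 fun y hy => ?_⟩
      exact mul_inv_eq_iff_eq_mul.1 (hvc y hy)
    rw [h0, mem_bot] at h5
    exact hv1 h5
  have h5 := h.irr _ (le_normalizer_cent h3) h4
  intro k hk
  rw [mem_centralizer_iff]
  intro a ha
  exact (comm_of_mem_cent (h5 ha) (⟨hk.1, h2 hk⟩ : k ∈ K ⊓ normalizer (A : Set G))).symm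

/-- `C_K(R) ≤ C(A)` if `A ∩ K = 1`. -/
theorem cent_R_le (h : Cor R A H D) (hK : IsPGroup 2 K) (hHK : H ≤ normalizer (K : Set G))
    (hAK : A ⊓ K = ⊥) : K ⊓ centralizer (R : Set G) ≤ centralizer (A : Set G) := by
  have h1 : K ⊓ centralizer (R : Set G) ≤ o2 H := by
    refine le_o2 (inf_le_right.trans h.cH) (hK.to_le inf_le_left) ?_
    exact Half.le_normalizer_inf hHK (le_normalizer_cent h.HR)
  intro k hk
  rw [mem_centralizer_iff]
  intro a ha
  have h2 := h.RA (h.com a ha k (h1 hk))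
  have h3 : a * k * a⁻¹ * k⁻¹ ∈ K := mul_mem (conj_mem_of hHK (h.AH ha) hk.1) (inv_mem hk.1)
  have h4 : a * k * a⁻¹ * k⁻¹ ∈ A ⊓ K := ⟨h2, h3⟩
  rw [hAK, mem_bot] at h4
  calc a * k = a * k * a⁻¹ * k⁻¹ * (k * a) := by group
    _ = k * a := by rw [h4, one_mul]

/-- The centralisers agree. -/
theorem cent_eq (h : Cor R A H D) (hK : IsPGroup 2 K) (hHK : H ≤ normalizer (K : Set G))
    (hAK : A ⊓ K = ⊥) : K ⊓ centralizer (A : Set G) = K ⊓ centralizer (R : Set G) :=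
  le_antisymm (fun _ hx => ⟨hx.1, centralizer_le h.RA hx.2⟩)
    fun _ hx => ⟨hx.1, h.cent_R_le hK hHK hAK hx⟩

theorem cent_ne (h : Cor R A H D) (hK : IsPGroup 2 K) (hK1 : K ≠ ⊥) (hHK : H ≤ normalizer (K : Set G))
    (hAK : A ⊓ K = ⊥) : K ⊓ centralizer (A : Set G) ≠ ⊥ := by
  rw [h.cent_eq hK hHK hAK]
  obtain ⟨v, hv, hv1, hvc⟩ := Half.exists_fixed hK hK1 (h.pA.to_le h.RA) ((h.RA.trans h.AH).trans hHK)
  intro h0
  have h5 : v ∈ K ⊓ centralizer (R : Set G) :=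
    ⟨hv, mem_centralizer_iff.2 fun y hy => mul_inv_eq_iff_eq_mul.1 (hvc y hy)⟩
  rw [h0, mem_bot] at h5
  exact hv1 h5

end Cor

/-- **LEMMA NL, mixed form**: `A`, `B ≤ O₂(H)`, both with `[·, O₂(H)] ≤ R`, `R ≤ [A, B]`; `D` irreducible on `A`,
`D'` irreducible on `B`: no nontrivial 2-group is normalised by `H`, `D` and `D'`. -/
theorem nonLoc_mixed [Finite G] (hG : IsCharacteristicTwoType G) {R A B H D D' : Subgroup G}
    (h : Cor R A H D) (h' : Cor R B H D')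
    (hgen : R ≤ closure {x | ∃ a ∈ A, ∃ b ∈ B, x = a * b * a⁻¹ * b⁻¹}) {U : Subgroup G}
    (hU : IsPGroup 2 U) (hHU : H ≤ normalizer (U : Set G)) (hDU : D ≤ normalizer (U : Set G))
    (hDU' : D' ≤ normalizer (U : Set G)) : U = ⊥ := by
  by_contra hU1
  have hdis : ∀ K : Subgroup G, IsPGroup 2 K → H ≤ normalizer (K : Set G) → D ≤ normalizer (K : Set G) →
      D' ≤ normalizer (K : Set G) → A ⊓ K = ⊥ := by
    intro K hK hHK hDK hDK'
    by_contra hne
    have hAK := h.irr K hDK hne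
    have h1 := h.inf_le_cent hK hHK hDK
    have h2 : B ⊓ K ≠ ⊥ := by
      intro h0
      apply h.R1
      rw [eq_bot_iff, ← h0]
      exact le_inf h'.RA (h.RA.trans hAK)
    have hBK := h'.irr K hDK' h2
    apply h.R1
    rw [eq_bot_iff]
    refine hgen.trans ?_
    rw [closure_le]
    rintro x ⟨a, ha, b, hb, rfl⟩
    have h3 := comm_of_mem_cent (h1 ⟨hBK hb, h'.AH hb⟩) ha
    rw [SetLike.mem_coe, mem_bot, h3]
    group
  have hdis' : ∀ K : Subgroup G, IsPGroup 2 K → H ≤ normalizer (K : Set G) → D ≤ normalizer (K : Set G) →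
      D' ≤ normalizer (K : Set G) → B ⊓ K = ⊥ := by
    intro K hK hHK hDK hDK'
    by_contra hne
    have hBK := h'.irr K hDK' hne
    apply h.R1
    rw [eq_bot_iff, ← hdis K hK hHK hDK hDK']
    exact le_inf h.RA (h'.RA.trans hBK)
  -- a maximal `K₀`
  let s : Set (Subgroup G) := {X | IsPGroup 2 X ∧ X ≠ ⊥ ∧ X ≤ centralizer (R : Set G) ∧
    H ≤ normalizer (X : Set G) ∧ D ≤ normalizer (X : Set G) ∧ D' ≤ normalizer (X : Set G)}
  have key : ∀ K : Subgroup G, IsPGroup 2 K → K ≠ ⊥ → H ≤ normalizer (K : Set G) →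
      D ≤ normalizer (K : Set G) → D' ≤ normalizer (K : Set G) → K ⊓ centralizer (R : Set G) ∈ s := by
    intro K hK hK1 hHK hDK hDK'
    have hd := hdis K hK hHK hDK hDK'
    have hd' := hdis' K hK hHK hDK hDK'
    refine ⟨hK.to_le inf_le_left, ?_, inf_le_right, ?_, ?_, ?_⟩
    · rw [← h.cent_eq hK hHK hd]
      exact h.cent_ne hK hK1 hHK hd
    · exact Half.le_normalizer_inf hHK (le_normalizer_cent h.HR)
    · rw [← h.cent_eq hK hHK hd]
      exact Half.le_normalizer_inf hDK (le_normalizer_cent h.DA)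
    · rw [← h'.cent_eq hK hHK hd']
      exact Half.le_normalizer_inf hDK' (le_normalizer_cent h'.DA)
  obtain ⟨K₀, hK₀⟩ := (Set.toFinite s).exists_maximal ⟨_, key U hU hU1 hHU hDU hDU'⟩
  obtain ⟨hp0, h01, h0R, hH0, hD0, hD0'⟩ := hK₀.prop
  have hBQ : B ≤ o2 H := h'.AQ
  have h0A : K₀ ≤ centralizer (A : Set G) := fun x hx =>
    h.cent_R_le hp0 hH0 (hdis K₀ hp0 hH0 hD0 hD0') ⟨hx, h0R hx⟩
  have h0B : K₀ ≤ centralizer (B : Set G) := fun x hx =>
    h'.cent_R_le hp0 hH0 (hdis' K₀ hp0 hH0 hD0 hD0') ⟨hx, h0R hx⟩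
  set M := normalizer (K₀ : Set G) with hM
  set K := o2 M with hKdef
  have hK2 : IsPGroup 2 K := o2_isPGroup M
  have hMK : M ≤ normalizer (K : Set G) := le_normalizer_o2 M
  have hK0K : K₀ ≤ K := le_o2 le_normalizer hp0 le_rfl
  have hK1 : K ≠ ⊥ := fun h0 => h01 (le_bot_iff.1 (h0 ▸ hK0K))
  have hHK : H ≤ normalizer (K : Set G) := hH0.trans hMK
  have hDK : D ≤ normalizer (K : Set G) := hD0.trans hMK
  have hDK' : D' ≤ normalizer (K : Set G) := hD0'.trans hMK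
  have hd := hdis K hK2 hHK hDK hDK'
  have hcR : K ⊓ centralizer (R : Set G) ≤ K₀ :=
    hK₀.le_of_ge (key K hK2 hK1 hHK hDK hDK') (le_inf hK0K h0R)
  -- `C = C(K₀)`
  set C := centralizer (K₀ : Set G) with hC
  have hCM : C ≤ M := by
    intro x hx
    rw [hM, mem_normalizer_iff]
    intro y
    constructor
    · intro hy
      have := comm_of_mem_cent hx hy
      rw [← this, mul_inv_cancel_right]; exact hy
    · intro hy
      have h1 := comm_of_mem_cent hx hy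
      have h2 : y = x * y * x⁻¹ := by
        calc y = x⁻¹ * (x * y * x⁻¹ * x) := by group
          _ = x⁻¹ * (x * (x * y * x⁻¹)) := by rw [h1]
          _ = x * y * x⁻¹ := by group
      rw [h2]; exact hy
  have hMC : M ≤ normalizer (C : Set G) := le_normalizer_cent le_rfl
  have hAC : A ≤ C := by
    intro a ha
    rw [hC, mem_centralizer_iff]
    intro y hy
    exact (comm_of_mem_cent (h0A hy) ha).symm
  have hBC : B ≤ C := by
    intro a ha
    rw [hC, mem_centralizer_iff]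
    intro y hy
    exact (comm_of_mem_cent (h0B hy) ha).symm
  -- `L = C_K(K₀)` is not contained in `K₀`
  have hL : ¬ K ⊓ C ≤ K₀ := by
    intro hL
    have hchar : M ⊓ centralizer (K : Set G) ≤ K := by
      rintro x ⟨hxM, hxc⟩
      have h1 := hG.2 K₀ hp0 h01
      have h2 : (⟨x, hxM⟩ : normalizer (K₀ : Set G)) ∈
          centralizer (pCore 2 (normalizer (K₀ : Set G)) : Set _) := by
        rw [mem_centralizer_iff]
        intro q hq
        refine Subtype.ext ?_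
        have h3 : (q : G) ∈ K := ⟨q, hq, rfl⟩
        exact comm_of_mem_cent hxc h3
      exact ⟨_, h1 h2, rfl⟩
    have hC2 : IsPGroup 2 C := by
      apply isPGroup_of_odd
      intro x hx ho
      have h1 : x ∈ centralizer (K : Set G) := by
        rw [mem_centralizer_iff]
        intro k hk
        have h2 : x * k * x⁻¹ * k⁻¹ ∈ K ⊓ C := by
          refine mem_inf.2 ⟨mul_mem (conj_mem_of (hCM.trans hMK) hx hk) (inv_mem hk), ?_⟩
          have h3 : k * x⁻¹ * k⁻¹ ∈ C := conj_mem_of ((o2_le M).trans hMC) hk (inv_mem hx)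
          have h4 : x * k * x⁻¹ * k⁻¹ = x * (k * x⁻¹ * k⁻¹) := by group
          rw [h4]
          exact mul_mem hx h3
        have h5 := comm_of_mem_cent hx (hL h2)
        exact (comm_of_odd ho hK2 h2.1 h5.symm).symm
      exact eq_one_of_odd hK2 (hchar ⟨hCM hx, h1⟩) ho
    have h1 : C ≤ K := le_o2 hCM hC2 hMC
    apply h.A1
    rw [← hd]
    exact (inf_eq_left.2 (hAC.trans h1)).symm
  -- a fixed coset
  have hQM : o2 H ≤ M := (o2_le H).trans hH0
  have hLn : M ≤ normalizer ((K ⊓ C : Subgroup G) : Set G) := Half.le_normalizer_inf hMK hMC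
  have hZn : M ≤ normalizer ((K₀ ⊓ C : Subgroup G) : Set G) := Half.le_normalizer_inf le_rfl hMC
  set P := K ⊔ o2 H with hP
  have hPM : P ≤ M := sup_le (o2_le M) hQM
  have hP2 : IsPGroup 2 P := by
    rw [hP]
    exact IsPGroup.to_sup_of_normal_left' hK2 (o2_isPGroup H) ((hQM).trans hMK)
  obtain ⟨w, hw, hw0, hwc⟩ := exists_fix_mod (S := P) (M := K₀ ⊓ C) (Q := K ⊓ C) hP2
    ((inf_le_left.trans hK0K).trans le_sup_left) (inf_le_left.trans le_sup_left)
    (hPM.trans hZn) (hPM.trans hLn) (fun h1 => hL (h1.trans inf_le_left))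
  apply hw0
  refine ⟨hcR ⟨hw.1, ?_⟩, hw.2⟩
  -- `w` centralises `R`
  have hcl : closure {x | ∃ a ∈ A, ∃ b ∈ B, x = a * b * a⁻¹ * b⁻¹} ≤ centralizer ({w} : Set G) := by
    rw [closure_le]
    rintro x ⟨a, ha, b, hb, rfl⟩
    rw [SetLike.mem_coe, mem_centralizer_singleton_iff]
    have ha' : a * w * a⁻¹ * w⁻¹ ∈ K₀ ⊓ C := hwc a (mem_sup_right (h.AQ ha))
    have hb' : b * w * b⁻¹ * w⁻¹ ∈ K₀ ⊓ C := hwc b (mem_sup_right (hBQ hb))
    set za := a * w * a⁻¹ * w⁻¹ with hza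
    set zb := b * w * b⁻¹ * w⁻¹ with hzb
    -- commutation with the elements of `K₀`
    have ca : ∀ z ∈ K₀, z * a = a * z := fun z hz => comm_of_mem_cent (hAC ha) hz
    have cb : ∀ z ∈ K₀, z * b = b * z := fun z hz => comm_of_mem_cent (hBC hb) hz
    have cw : ∀ z ∈ K₀, z * w = w * z := fun z hz => comm_of_mem_cent hw.2 hz
    have cz : ∀ z ∈ K₀, ∀ y ∈ K₀ ⊓ C, z * y = y * z := fun z hz y hy => comm_of_mem_cent hy.2 hz
    -- `w⁻¹ a w = a z`, `z ∈ K₀ ∩ C`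
    have ea : w * a * w⁻¹ = za⁻¹ * a := by rw [hza]; group
    have eb : w * b * w⁻¹ = zb⁻¹ * b := by rw [hzb]; group
    have haa : Commute za⁻¹ a := (show Commute za a from ca _ ha'.1).inv_left
    have hab : Commute za⁻¹ b := (show Commute za b from cb _ ha'.1).inv_left
    have hba : Commute zb⁻¹ a := (show Commute zb a from ca _ hb'.1).inv_left
    have hbb : Commute zb⁻¹ b := (show Commute zb b from cb _ hb'.1).inv_left
    have hzz : Commute za⁻¹ zb⁻¹ :=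
      ((show Commute za zb from cz _ ha'.1 _ hb').inv_left).inv_right
    have e1 : w * (a * b * a⁻¹ * b⁻¹) * w⁻¹ = a * b * a⁻¹ * b⁻¹ := by
      calc w * (a * b * a⁻¹ * b⁻¹) * w⁻¹
          = (w * a * w⁻¹) * (w * b * w⁻¹) * (w * a * w⁻¹)⁻¹ * (w * b * w⁻¹)⁻¹ := by group
        _ = (za⁻¹ * a) * (zb⁻¹ * b) * (za⁻¹ * a)⁻¹ * (zb⁻¹ * b)⁻¹ := by rw [ea, eb]
        _ = (za⁻¹ * a) * (zb⁻¹ * b) * (a * za⁻¹)⁻¹ * (b * zb⁻¹)⁻¹ := by rw [haa.eq, hbb.eq]
        _ = (za⁻¹ * a) * (zb⁻¹ * b) * za * a⁻¹ * zb * b⁻¹ := by group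
        _ = a * b * a⁻¹ * b⁻¹ := by
          have s1 : (za⁻¹ * a) * (zb⁻¹ * b) * za = a * zb⁻¹ * b := by
            have t1 : Commute za⁻¹ (a * (zb⁻¹ * b)) := haa.mul_right (hzz.mul_right hab)
            calc (za⁻¹ * a) * (zb⁻¹ * b) * za = (za⁻¹ * (a * (zb⁻¹ * b))) * za := by group
              _ = ((a * (zb⁻¹ * b)) * za⁻¹) * za := by rw [t1.eq]
              _ = a * zb⁻¹ * b := by group
          rw [s1]
          have t2 : Commute zb⁻¹ (b * a⁻¹) := hbb.mul_right hba.inv_right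
          calc a * zb⁻¹ * b * a⁻¹ * zb * b⁻¹ = a * (zb⁻¹ * (b * a⁻¹)) * zb * b⁻¹ := by group
            _ = a * ((b * a⁻¹) * zb⁻¹) * zb * b⁻¹ := by rw [t2.eq]
            _ = a * b * a⁻¹ * b⁻¹ := by group
    calc a * b * a⁻¹ * b⁻¹ * w = (w * (a * b * a⁻¹ * b⁻¹) * w⁻¹) * w := by rw [e1]
      _ = w * (a * b * a⁻¹ * b⁻¹) := by group
  show w ∈ centralizer (R : Set G)
  rw [mem_centralizer_iff]
  intro r hr
  exact mem_centralizer_singleton_iff.1 (hcl (hgen hr))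

/-! ### `B = A^c` -/

theorem mem_cj {A : Subgroup G} {c x : G} :
    x ∈ A.map (MulAut.conj c).toMonoidHom ↔ c⁻¹ * x * c ∈ A := by
  constructor
  · rintro ⟨a, ha, rfl⟩
    have e : c⁻¹ * (MulAut.conj c).toMonoidHom a * c = a := by
      show c⁻¹ * (c * a * c⁻¹) * c = a
      group
    rw [e]; exact ha
  · intro hx
    refine ⟨_, hx, ?_⟩
    show c * (c⁻¹ * x * c) * c⁻¹ = x
    group

theorem cj_le_normalizer_iff {A X : Subgroup G} {c : G} :
    A.map (MulAut.conj c).toMonoidHom ≤ normalizer (X : Set G) ↔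
      A ≤ normalizer ((X.map (MulAut.conj c⁻¹).toMonoidHom : Subgroup G) : Set G) := by
  constructor
  · intro h
    apply le_normalizer_of
    intro k hk v hv
    rw [mem_cj, inv_inv] at hv ⊢
    have h1 : c * k * c⁻¹ ∈ A.map (MulAut.conj c).toMonoidHom := ⟨k, hk, rfl⟩
    have h2 := conj_mem_of h h1 hv
    have e : c * (k * v * k⁻¹) * c⁻¹ = c * k * c⁻¹ * (c * v * c⁻¹) * (c * k * c⁻¹)⁻¹ := by group
    rw [e]; exact h2
  · intro h
    apply le_normalizer_of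
    rintro _ ⟨k, hk, rfl⟩ v hv
    have h1 : c⁻¹ * v * c ∈ X.map (MulAut.conj c⁻¹).toMonoidHom := by
      rw [mem_cj, inv_inv]
      have e : c * (c⁻¹ * v * c) * c⁻¹ = v := by group
      rw [e]; exact hv
    have h2 := conj_mem_of h hk h1
    rw [mem_cj, inv_inv] at h2
    have e : c * (k * (c⁻¹ * v * c) * k⁻¹) * c⁻¹ = c * k * c⁻¹ * v * (c * k * c⁻¹)⁻¹ := by group
    rw [e] at h2
    exact h2

/-- conjugation by `c ∈ H` -/
theorem Cor.cj [Finite G] {R A H D : Subgroup G} (h : Cor R A H D) {c : G} (hc : c ∈ H) :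
    Cor R (A.map (MulAut.conj c).toMonoidHom) H (D.map (MulAut.conj c).toMonoidHom) where
  RA := by
    intro r hr
    rw [mem_cj]
    have := conj_mem_of h.HR (inv_mem hc) hr
    rw [inv_inv] at this
    exact h.RA this
  R1 := h.R1
  pA := h.pA.map _
  cH := h.cH
  HR := h.HR
  AQ := by
    rintro _ ⟨b, hb, rfl⟩
    exact conj_mem_of (le_normalizer_o2 H) hc (h.AQ hb)
  com := by
    rintro _ ⟨a, ha, rfl⟩ x hx
    have hx' : c⁻¹ * x * c ∈ o2 H := by
      have := conj_mem_of (le_normalizer_o2 H) (inv_mem hc) hx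
      rwa [inv_inv] at this
    have h1 := conj_mem_of h.HR hc (h.com a ha _ hx')
    have e : c * (a * (c⁻¹ * x * c) * a⁻¹ * (c⁻¹ * x * c)⁻¹) * c⁻¹ =
        c * a * c⁻¹ * x * (c * a * c⁻¹)⁻¹ * x⁻¹ := by group
    rw [e] at h1
    exact h1
  DA := by
    rw [cj_le_normalizer_iff]
    have e : ((A.map (MulAut.conj c).toMonoidHom).map (MulAut.conj c⁻¹).toMonoidHom : Subgroup G) = A := by
      ext x
      rw [mem_cj, mem_cj, inv_inv]
      have e : c⁻¹ * (c * x * c⁻¹) * c = x := by group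
      rw [e]
    rw [e]
    exact h.DA
  irr := by
    intro X hX hne
    rw [cj_le_normalizer_iff] at hX
    have h1 : A ⊓ X.map (MulAut.conj c⁻¹).toMonoidHom ≠ ⊥ := by
      obtain ⟨a, ⟨haA, haX⟩, ha1⟩ := (Subgroup.bot_or_exists_ne_one _).resolve_left hne
      have haA' : c⁻¹ * a * c ∈ A := mem_cj.1 haA
      have haX' : a ∈ X := haX
      intro h0
      have h2 : c⁻¹ * a * c ∈ A ⊓ X.map (MulAut.conj c⁻¹).toMonoidHom := by
        refine ⟨haA', ?_⟩
        show c⁻¹ * a * c ∈ X.map (MulAut.conj c⁻¹).toMonoidHom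
        rw [mem_cj, inv_inv]
        have e : c * (c⁻¹ * a * c) * c⁻¹ = a := by group
        rw [e]; exact haX'
      rw [h0, mem_bot] at h2
      apply ha1
      calc a = c * (c⁻¹ * a * c) * c⁻¹ := by group
        _ = 1 := by rw [h2]; group
    have h2 := h.irr _ hX h1
    rintro _ ⟨b, hb, rfl⟩
    have h3 := h2 hb
    rw [mem_cj, inv_inv] at h3
    exact h3

/-- **LEMMA NL**: `R ≤ [A, A^c]`, `c ∈ H`. -/
theorem Cor.nonLoc [Finite G] (hG : IsCharacteristicTwoType G) {R A H D : Subgroup G} (h : Cor R A H D)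
    {c : G} (hc : c ∈ H)
    (hgen : R ≤ closure {x | ∃ a ∈ A, ∃ b ∈ A, x = a * (c * b * c⁻¹) * a⁻¹ * (c * b * c⁻¹)⁻¹}) :
    NonLoc H D := by
  intro U hU hHU hDU
  refine nonLoc_mixed hG h (h.cj hc) (hgen.trans (closure_mono ?_)) hU hHU hDU ?_
  · rintro x ⟨a, ha, b, hb, rfl⟩
    exact ⟨a, ha, c * b * c⁻¹, ⟨b, hb, rfl⟩, rfl⟩
  · rintro _ ⟨d, hd, rfl⟩
    have h1 := mul_mem (mul_mem (hHU hc) (hDU hd)) (inv_mem (hHU hc))
    exact h1

/-! ### `q = 2` -/

end Cfsg.Agent.Omega.IId.NLFree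

end

private theorem dce_7c5cef0f8c25 : _root_.True := by
  try have : _root_.True := by simp only [_root_.Cfsg.Agent.Omega.IId.One.nc.eq_1]
  try have : _root_.True := by simp only [_root_.Cfsg.Agent.Omega.IId.Sym.lz.eq_1]
  exact _root_.True.intro
end

-- part: Mrg/Omega/IId/Big/RedPt
section
set_option linter.all false
open scoped Cfsg.Agent.FastGrp


/-!
# (1) of bb OMEGA 17245: involutions centralising all `Q_r`, `r ∈ V_j#`, `j ≠ i`, and one `Q_p`, `p ∈ V_i#`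

`Q_p = O₂(C_G(p))`, `V i` commuting four-groups, `V j ≤ Z(Q_p)` for `p ∈ V_i#`, `j ≠ i`, `V i ≤ Q_p`, some element of
`Kk p` moves `V i`, no element `≠ 1` centralises all `Q_p`.

* `Pts.eq_of` : such an involution is `p`.
-/

set_option autoImplicit false

namespace Cfsg.Agent.Omega.IId.Big.Red

open Subgroup Cfsg Cfsg.Agent.ZN Cfsg.Agent.MinSimple.VModule Cfsg.Agent.Omega.IId.One

universe u

variable {G : Type u} [Group G]

/-- The points of the blocks. -/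
structure Pts {ι : Type*} (V : ι → Subgroup G) : Prop where
  sq : ∀ i, ∀ v ∈ V i, v * v = 1
  cQ : ∀ i, ∀ p ∈ V i, p ≠ 1 → centralizer (o2 (cz p) : Set G) ≤ o2 (cz p)
  self : ∀ i, ∀ p ∈ V i, p ≠ 1 → V i ≤ o2 (cz p)
  /-- THEOREM C -/
  c2t : ∀ i j, i ≠ j → ∀ p ∈ V i, p ≠ 1 → V j ≤ centralizer (o2 (cz p) : Set G)
  mv : ∀ i, ∀ p ∈ V i, p ≠ 1 → ∃ w ∈ Kk p, w ∈ o2 (cz p) ∧ ∀ q ∈ V i, q ≠ 1 → q ≠ p → w * q * w⁻¹ = p * q
  tot : ∀ t : G, (∀ i, ∀ p ∈ V i, p ≠ 1 → t ∈ centralizer (o2 (cz p) : Set G)) → t = 1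

namespace Pts

variable {ι : Type*} {V : ι → Subgroup G}

theorem mem_zl (P : Pts V) {i j : ι} {p : G} (hp : p ∈ V i) (hp1 : p ≠ 1) : V j ≤ o2 (cz p) := by
  rcases eq_or_ne i j with rfl | h
  · exact P.self i p hp hp1
  · exact (P.c2t i j h p hp hp1).trans (P.cQ i p hp hp1)

theorem comm (P : Pts V) {i j : ι} {p q : G} (hp : p ∈ V i) (hq : q ∈ V j) : p * q = q * p := by
  by_cases hp1 : p = 1
  · rw [hp1, one_mul, mul_one]
  · exact (mem_cz.1 (o2_le _ (P.mem_zl hp hp1 hq))).symm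

theorem conj_cent {p q w t : G} (h : w * p * w⁻¹ = q) (ht : t ∈ centralizer (o2 (cz p) : Set G)) :
    w * t * w⁻¹ ∈ centralizer (o2 (cz q) : Set G) := by
  rw [mem_centralizer_iff] at ht ⊢
  intro y hy
  have h1 : w⁻¹ * q * w⁻¹⁻¹ = p := by rw [← h]; group
  have h2 := ht _ (conj_o2_cz h1 hy)
  rw [inv_inv] at h2
  calc y * (w * t * w⁻¹) = w * (w⁻¹ * y * w * t) * w⁻¹ := by group
    _ = w * (t * (w⁻¹ * y * w)) * w⁻¹ := by rw [h2]
    _ = w * t * w⁻¹ * y := by group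

theorem conj_eq {a b : G} (h : a * b = b * a) : a * b * a⁻¹ = b := by rw [h, mul_inv_cancel_right]

/-- centralising `Q_p` and `Q_q` implies centralising `Q_{pq}` -/
theorem third (P : Pts V) {i : ι} {p q t : G} (hp : p ∈ V i) (hp1 : p ≠ 1) (hq : q ∈ V i) (hq1 : q ≠ 1)
    (hpq : q ≠ p) (h1 : t ∈ centralizer (o2 (cz p) : Set G)) (h2 : t ∈ centralizer (o2 (cz q) : Set G)) :
    t ∈ centralizer (o2 (cz (p * q)) : Set G) := by
  obtain ⟨w, -, hwQ, hw'⟩ := P.mv i p hp hp1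
  have h3 := conj_cent (hw' q hq hq1 hpq) h2
  rwa [conj_eq (mem_centralizer_iff.1 h1 w hwQ)] at h3

/-- an element centralising the `Q` of one block and two of another... of all blocks is `1` -/
theorem eq_one (P : Pts V) {i : ι} {p q t : G} (hp : p ∈ V i) (hp1 : p ≠ 1) (hq : q ∈ V i) (hq1 : q ≠ 1)
    (hpq : q ≠ p) (h4 : ∀ v ∈ V i, v = 1 ∨ v = p ∨ v = q ∨ v = p * q)
    (h1 : t ∈ centralizer (o2 (cz p) : Set G)) (h2 : t ∈ centralizer (o2 (cz q) : Set G))
    (h3 : ∀ j, j ≠ i → ∀ r ∈ V j, r ≠ 1 → t ∈ centralizer (o2 (cz r) : Set G)) : t = 1 := by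
  refine P.tot t fun j r hr hr1 => ?_
  rcases eq_or_ne j i with rfl | hj
  · rcases h4 r hr with h | h | h | h
    · exact absurd h hr1
    · rw [h]; exact h1
    · rw [h]; exact h2
    · rw [h]; exact P.third hp hp1 hq hq1 hpq h1 h2
  · exact h3 j hj r hr hr1

/-- **(1)** -/
theorem eq_of (P : Pts V) {i j : ι} {p q r t : G} (hij : j ≠ i) (hr : r ∈ V j) (hr1 : r ≠ 1) (hp : p ∈ V i)
    (hp1 : p ≠ 1) (hq : q ∈ V i) (hq1 : q ≠ 1) (hpq : q ≠ p) (h4 : ∀ v ∈ V i, v = 1 ∨ v = p ∨ v = q ∨ v = p * q)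
    (hc : ∀ j, j ≠ i → ∀ r ∈ V j, r ≠ 1 → t ∈ centralizer (o2 (cz r) : Set G))
    (hq' : t ∈ centralizer (o2 (cz q) : Set G)) : t = 1 ∨ t = q := by
  have hp2 := P.sq i p hp
  have hq2 := P.sq i q hq
  have hpq' : p * q ∈ V i := mul_mem hp hq
  have hpq1 : p * q ≠ 1 := fun h => hpq (by
    calc q = p * p * q := by rw [hp2, one_mul]
      _ = p * (p * q) := mul_assoc _ _ _
      _ = p := by rw [h, mul_one])
  have hpqq : p * q ≠ q := fun h => hp1 (mul_eq_right.1 h)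
  -- the class of elements considered
  let T : Subgroup G := (⨅ j : {j : ι // j ≠ i}, ⨅ r : {r : G // r ∈ V j ∧ r ≠ 1}, centralizer (o2 (cz (r : G)) : Set G)) ⊓
    centralizer (o2 (cz q) : Set G)
  have mT : ∀ {s : G}, s ∈ T ↔ (∀ j, j ≠ i → ∀ r ∈ V j, r ≠ 1 → s ∈ centralizer (o2 (cz r) : Set G)) ∧
      s ∈ centralizer (o2 (cz q) : Set G) := by
    intro s
    rw [mem_inf, mem_iInf]
    constructor
    · rintro ⟨h1, h2⟩
      refine ⟨fun j hj r hr hr1 => ?_, h2⟩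
      have h3 := h1 ⟨j, hj⟩
      rw [mem_iInf] at h3
      exact h3 ⟨r, hr, hr1⟩
    · rintro ⟨h1, h2⟩
      refine ⟨fun j => ?_, h2⟩
      rw [mem_iInf]
      exact fun r => h1 j j.2 r r.2.1 r.2.2
  have tT : t ∈ T := mT.2 ⟨hc, hq'⟩
  -- `V i` and `t`
  have tp : ∀ v ∈ V i, v * t = t * v := fun v hv =>
    mem_centralizer_iff.1 hq' v (P.self i q hq hq1 hv)
  -- `t` centralises `U_p = C(Q_p) ∩ {u | u * u = 1}`
  have hU : ∀ u ∈ centralizer (o2 (cz p) : Set G), u * t = t * u := by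
    intro u hu
    have huQ := P.cQ i p hp hp1 hu
    -- `u` centralises `V`
    have uV : ∀ k, ∀ v ∈ V k, u * v = v * u := fun k v hv =>
      (mem_centralizer_iff.1 hu v (P.mem_zl hp hp1 hv)).symm
    have uinv : ∀ k, ∀ v ∈ V k, u * v * u⁻¹ = v := fun k v hv => conj_eq (uV k v hv)
    have h1 : u * t * u⁻¹ * t⁻¹ = 1 := by
      refine P.eq_one hp hp1 hq hq1 hpq h4 ?_ ?_ ?_
      · -- in `C(Q_p)`
        have h2 : t * u⁻¹ * t⁻¹ ∈ centralizer (o2 (cz p) : Set G) :=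
          conj_cent (conj_eq (tp p hp).symm) (inv_mem hu)
        have e : u * t * u⁻¹ * t⁻¹ = u * (t * u⁻¹ * t⁻¹) := by group
        rw [e]
        exact mul_mem hu h2
      · exact mul_mem (conj_cent (uinv i q hq) hq') (inv_mem hq')
      · intro k hk v hv hv1
        exact mul_mem (conj_cent (uinv k v hv) (hc k hk v hv hv1)) (inv_mem (hc k hk v hv hv1))
    exact (mul_inv_eq_one.1 (by
      calc u * t * (t * u)⁻¹ = u * t * u⁻¹ * t⁻¹ := by group
        _ = 1 := h1))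
  -- `t ∈ Q_p`
  have htr : t ∈ centralizer (o2 (cz r) : Set G) := hc j hij r hr hr1
  have htQ : t ∈ o2 (cz p) := by
    set C := centralizer ((centralizer (o2 (cz p) : Set G) : Subgroup G) : Set G) with hC
    have hrC : r ∈ centralizer (o2 (cz p) : Set G) := P.c2t i j hij.symm p hp hp1 hr
    have hpC : p ∈ centralizer (o2 (cz p) : Set G) := by
      rw [mem_centralizer_iff]
      exact fun y hy => mem_cz.1 (o2_le _ hy)
    have hCp : C ≤ cz p := fun c hc => mem_cz.2 ((mem_centralizer_iff.1 hc p hpC).symm)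
    have hCr : C ≤ cz r := fun c hc => mem_cz.2 ((mem_centralizer_iff.1 hc r hrC).symm)
    have hCn : cz p ≤ normalizer (C : Set G) := by
      apply Two.le_normalizer_of
      intro c hc g hg
      rw [hC, mem_centralizer_iff] at hg ⊢
      intro y hy
      have hcinv : c⁻¹ ∈ cz p := inv_mem hc
      have h5 : c⁻¹ * p * c⁻¹⁻¹ = p := conj_eq (mem_cz.1 hcinv)
      have h6 := hg _ (conj_cent h5 hy)
      rw [inv_inv] at h6
      calc y * (c * g * c⁻¹) = c * (c⁻¹ * y * c * g) * c⁻¹ := by group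
        _ = c * (g * (c⁻¹ * y * c)) * c⁻¹ := by rw [h6]
        _ = c * g * c⁻¹ * y := by group
    -- the 2-group `C ∩ C(Q_r)`
    set N := C ⊓ centralizer (o2 (cz r) : Set G) with hN
    have hN2 : IsPGroup 2 N := (o2_isPGroup (cz r)).to_le (inf_le_right.trans (P.cQ j r hr hr1))
    have hCN : C ≤ normalizer (N : Set G) := by
      apply Two.le_normalizer_of
      intro c hc g hg
      have hgC : g ∈ C := (mem_inf.1 hg).1
      have h10 : c * g * c⁻¹ ∈ C := mul_mem (mul_mem hc hgC) (inv_mem hc)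
      exact mem_inf.2 ⟨h10, conj_cent (conj_eq (mem_cz.1 (hCr hc))) (mem_inf.1 hg).2⟩
    have h7 : N ≤ o2 C := le_o2 inf_le_left hN2 hCN
    have h8 : o2 C ≤ o2 (cz p) := by
      refine le_o2 ((o2_le C).trans hCp) (o2_isPGroup C) (hCn.trans ?_)
      intro c hc
      rw [mem_normalizer_iff_map_conj_eq] at hc ⊢
      rw [← ZN.o2_map _ (MulAut.conj c).injective]
      congr 1
    have h9 : t ∈ C := by
      rw [hC, mem_centralizer_iff]
      exact fun y hy => hU y hy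
    exact h8 (h7 ⟨h9, htr⟩)
  -- the end
  obtain ⟨w, hwK, -, hw'⟩ := P.mv i p hp hp1
  have hwq := hw' q hq hq1 hpq
  -- elements of `T` fixed by `w`
  have key : ∀ s ∈ T, w * s * w⁻¹ = s → s = 1 := by
    intro s hs hws
    have h5 := mT.1 hs
    have h6 : s ∈ centralizer (o2 (cz (p * q)) : Set G) := by
      have := conj_cent hwq h5.2
      rwa [hws] at this
    have h7 := P.third hq hq1 hpq' hpq1 hpqq h5.2 h6
    have e : q * (p * q) = p := by
      rw [P.comm hp hq, ← mul_assoc, hq2, one_mul]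
    rw [e] at h7
    exact P.eq_one hp hp1 hq hq1 hpq h4 h7 h5.2 h5.1
  have hqT : q ∈ T := by
    refine mT.2 ⟨fun k hk v hv hv1 => P.c2t k i hk v hv hv1 hq, ?_⟩
    rw [mem_centralizer_iff]
    exact fun y hy => mem_cz.1 (o2_le _ hy)
  rcases Kk_conj hp2 hwK htQ with h5 | h5
  · exact Or.inl (key t tT h5)
  · right
    have h6 : w * (t * q) * w⁻¹ = t * q := by
      calc w * (t * q) * w⁻¹ = (w * t * w⁻¹) * (w * q * w⁻¹) := by group
        _ = p * t * (p * q) := by rw [h5, hwq]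
        _ = t * p * (p * q) := by rw [tp p hp]
        _ = t * (p * p) * q := by group
        _ = t * q := by rw [hp2, mul_one]
    have h7 := key _ (mul_mem tT hqT) h6
    calc t = t * q * q := by rw [mul_assoc, hq2, mul_one]
      _ = q := by rw [h7, one_mul]

end Pts

end Cfsg.Agent.Omega.IId.Big.Red
end

-- part: Mrg/Omega/IId/OneBase
section
prune_inst 0xc01000004022000000000000200020004800000200600001c1000a040208814080008100008011001002280000000000038800400000000000000000000404010000000000000000200000000005180c00000000000000000000000000000000000000000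
set_option linter.all false
open scoped Cfsg.Agent.FastGrp

section


/-!
# II.d, `q = 2`, CASE 1: first consequences (helper478 #12430 (0)-(2))

Notation: `Cᵢ = cz vᵢ`, `Qᵢ = O₂(Cᵢ)`, `N₁ = nc v₁ {v₂}`, `F₁ = C_{C₁}(N₁)`.

* `Q_le`, `V1_le_Kk`, `Kk_le_o2`, `V1_le_Q`;
* `V2_le_N1`, `N1_le_zc`, `N1_comm`, `N1_sq`, `V1_le_N2`, `F1_le`;
* `eq_F1` : `O₂(C₁/F₁) = 1`;
* `N1_fix` : `C_{N₁}(T) ≤ {1, v₁, v₂, v₁v₂}`;
* `no_compl` : `N₁` has no `C₁`-invariant complement to `⟨v₁⟩`;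
* `Base.one_of_mut`, `Base.one_of_mixed` : `Base` and a mutual pair give `One`;
* `Base.stepF` : STEP F.
-/

set_option autoImplicit false
set_option linter.dupNamespace false
set_option linter.unusedSectionVars false

namespace Cfsg.Agent.Omega.IId.One

open Subgroup Cfsg Cfsg.Agent.ZN Cfsg.Agent.Omega.MinPar Cfsg.Agent.MinSimple.VModule
open Cfsg.Agent.MinSimple.Basic
open Cfsg.Agent.Omega.IId.Two (le_normalizer_of)
open Cfsg.Agent.Omega

universe u

variable {G : Type u} [Group G]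

/-- `Kk v ≤ O₂(C_G(v))`. -/
theorem Kk_le_o2 [Finite G] (hG : IsCharacteristicTwoType G) {v : G} (hv : v * v = 1) (hv1 : v ≠ 1) :
    Kk v ≤ ZN.o2 (cz v) := by
  refine le_o2 (Kk_le v) ?_ (le_normalizer_Kk v)
  rintro ⟨g, hg⟩
  have h1 : g * g ∈ ZN.o2 (cz v) := by
    refine char2_centralizer hG (by rw [pow_two, hv]) hv1
      ⟨mul_mem hg.1 hg.1, mem_centralizer_iff.2 fun x hx => ?_⟩
    have hx2 : g * x * g⁻¹ = x ∨ g * x * g⁻¹ = v * x := Kk_conj hv hg hx
    have hgv : g * v * g⁻¹ = v := by rw [mem_cz.1 hg.1, mul_inv_cancel_right]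
    have h2 : g * (g * x * g⁻¹) * g⁻¹ = x := by
      rcases hx2 with h3 | h3
      · rw [h3, h3]
      · rw [h3]
        calc g * (v * x) * g⁻¹ = (g * v * g⁻¹) * (g * x * g⁻¹) := by group
          _ = x := by rw [hgv, h3, ← mul_assoc, hv, one_mul]
    calc x * (g * g) = g * (g * x * g⁻¹) * g⁻¹ * (g * g) := by rw [h2]
      _ = g * g * x := by group
  obtain ⟨k, hk⟩ := (o2_isPGroup (cz v)) ⟨g * g, h1⟩
  refine ⟨k + 1, Subtype.ext ?_⟩
  have h2 : (g * g) ^ 2 ^ k = 1 := congrArg Subtype.val hk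
  change g ^ 2 ^ (k + 1) = 1
  rw [pow_succ, mul_comm, pow_mul, pow_two, h2]

/-- `T` a Sylow 2-subgroup of `C`, `A`, `F` normal in `C`, `AF/F` a 2-group: `A ≤ TF`. -/
theorem le_sup_of_two [Finite G] {C F A T : Subgroup G} (nF : C ≤ normalizer (F : Set G))
    (hA : A ≤ C) (nA : C ≤ normalizer (A : Set G)) (pT : IsPGroup 2 T)
    (sT : ¬ 2 ∣ T.relIndex C) (h2 : ∀ a ∈ A, ∃ k : ℕ, a ^ 2 ^ k ∈ F) : A ≤ T ⊔ F := by
  have : Fact (Nat.Prime 2) := ⟨Nat.prime_two⟩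
  have nF' : (F.subgroupOf C).Normal := normal_subgroupOf_of_le_normalizer nF
  have nA' : (A.subgroupOf C).Normal := normal_subgroupOf_of_le_normalizer nA
  have hs := QuotientGroup.mk'_surjective (F.subgroupOf C)
  let S : Sylow 2 C := (pT.comap_of_injective C.subtype C.subtype_injective).toSylow sT
  let S' := S.mapSurjective hs
  have n1 : ((A.subgroupOf C).map (QuotientGroup.mk' (F.subgroupOf C))).Normal := nA'.map _ hs
  have p1 : IsPGroup 2 ((A.subgroupOf C).map (QuotientGroup.mk' (F.subgroupOf C))) := by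
    rintro ⟨_, a, ha, rfl⟩
    obtain ⟨k, hk⟩ := h2 a ha
    refine ⟨k, Subtype.ext ?_⟩
    change (QuotientGroup.mk' (F.subgroupOf C)) a ^ 2 ^ k = 1
    rw [← map_pow]
    exact (QuotientGroup.eq_one_iff _).2 hk
  have h1 : (A.subgroupOf C).map (QuotientGroup.mk' (F.subgroupOf C)) ≤ S' := by
    have p2 : IsPGroup 2 (((S' : Sylow 2 _) : Subgroup (C ⧸ F.subgroupOf C)) ⊔
        (A.subgroupOf C).map (QuotientGroup.mk' (F.subgroupOf C)) : Subgroup _) :=
      S'.isPGroup'.to_sup_of_normal_right p1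
    have h3 := S'.is_maximal' p2 le_sup_left
    calc (A.subgroupOf C).map (QuotientGroup.mk' (F.subgroupOf C)) ≤ _ := le_sup_right
      _ = S' := h3
  intro a ha
  have h3 : (QuotientGroup.mk' (F.subgroupOf C)) ⟨a, hA ha⟩ ∈ (S' : Subgroup _) := h1 ⟨⟨a, hA ha⟩, ha, rfl⟩
  rw [Sylow.coe_mapSurjective] at h3
  obtain ⟨t, ht, e⟩ := h3
  have h4 : t⁻¹ * ⟨a, hA ha⟩ ∈ F.subgroupOf C := QuotientGroup.eq.1 e
  have h5 : (t : G)⁻¹ * a ∈ F := h4
  have h6 : (t : G) ∈ T := ht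
  have e2 : a = t * ((t : G)⁻¹ * a) := by group
  rw [e2]
  exact mul_mem (mem_sup_left h6) (mem_sup_right h5)

namespace Base

variable [Finite G] {T V₁ V₂ L₁ L₂ : Subgroup G} {v₁ v₂ s : G}

section basic

variable (h : Base T V₁ V₂ L₁ L₂ v₁ v₂ s)
include h

/-- `T` is a Sylow 2-subgroup of `H`, `T ≤ H ≤ C₁`. -/
theorem syl {H : Subgroup G} (hT : T ≤ H) (hH : H ≤ cz v₁) : ¬ 2 ∣ T.relIndex H := by
  obtain ⟨U, h1, h2, h3, h4⟩ := Half.exists_sylow_le h.pT hT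
  have h5 : U = T := le_antisymm (h.syl1 U h3 h1 fun x hx => mem_cz.1 (hH (h2 hx))) h1
  rwa [h5] at h4

theorem char2 : cz v₁ ⊓ centralizer (ZN.o2 (cz v₁) : Set G) ≤ ZN.o2 (cz v₁) :=
  char2_centralizer h.C2T (by rw [pow_two, h.vq1]) h.v1

theorem Q_le : ZN.o2 (cz v₁) ≤ T := o2_le_of_sylow h.pT (h.syl h.T_le le_rfl)

theorem v2_mem_Q : v₂ ∈ ZN.o2 (cz v₁) := h.half1 h.vV2

theorem V1_le_Kk : V₁ ≤ Kk v₁ := by
  intro v hv
  refine ⟨h.V1_le hv, fun x hx => ?_⟩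
  have e : v * x * v⁻¹ * x⁻¹ = v * (x * v * x⁻¹)⁻¹ := by group
  rw [e]
  rcases h.T_conj1 (h.Q_le hx) hv with h1 | h1
  · rw [h1, mul_inv_cancel]; exact one_mem _
  · rw [h1]
    have e2 : v * (v₁ * v)⁻¹ = v₁⁻¹ := by group
    rw [e2]
    exact inv_mem (mem_zpowers v₁)

theorem Kk_le_Q : Kk v₁ ≤ ZN.o2 (cz v₁) := Kk_le_o2 h.C2T h.vq1 h.v1

theorem V1_le_Q : V₁ ≤ ZN.o2 (cz v₁) := h.V1_le_Kk.trans h.Kk_le_Q

theorem Kk_le_T : Kk v₁ ≤ T := h.Kk_le_Q.trans h.Q_le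

/-! ### `N₁` -/

theorem v2_mem_N1 : v₂ ∈ nc v₁ {v₂} := subset_nc v₁ {v₂} rfl

theorem V2_le_N1 : V₂ ≤ nc v₁ {v₂} :=
  h.symm.V1_le_of (h.L2_le.trans (le_normalizer_nc _ _)) h.v2_mem_N1

theorem N1_eq : nc v₁ {v₂} = nc v₁ (V₂ : Set G) := by
  apply le_antisymm
  · refine nc_le ?_ (le_normalizer_nc _ _)
    rw [Set.singleton_subset_iff]
    exact subset_nc v₁ _ h.vV2
  · exact nc_le h.V2_le_N1 (le_normalizer_nc _ _)

theorem N1_le_zc : nc v₁ {v₂} ≤ zc (ZN.o2 (cz v₁)) := by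
  refine nc_le ?_ ((le_normalizer_o2 _).trans (normalizer_le_normalizer_zc _))
  rw [Set.singleton_subset_iff]
  exact mem_zc.2 ⟨h.v2_mem_Q, fun x hx => h.halfc1 x hx _ h.vV2, by rw [pow_two, h.vq2]⟩

theorem N1_le_Q : nc v₁ {v₂} ≤ ZN.o2 (cz v₁) := h.N1_le_zc.trans (zc_le _)

theorem N1_le_T : nc v₁ {v₂} ≤ T := h.N1_le_Q.trans h.Q_le

theorem Q_N1 {x y : G} (hx : x ∈ ZN.o2 (cz v₁)) (hy : y ∈ nc v₁ {v₂}) : x * y = y * x :=
  (mem_zc.1 (h.N1_le_zc hy)).2.1 x hx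

theorem N1_comm {x y : G} (hx : x ∈ nc v₁ {v₂}) (hy : y ∈ nc v₁ {v₂}) : x * y = y * x :=
  h.Q_N1 (h.N1_le_Q hx) hy

theorem N1_sq {x : G} (hx : x ∈ nc v₁ {v₂}) : x * x = 1 := by
  rw [← pow_two]; exact (mem_zc.1 (h.N1_le_zc hx)).2.2

theorem V1_le_N2 : V₁ ≤ nc v₂ {v₁} := h.symm.V2_le_N1

/-- `F₁ = C_{C₁}(N₁)` is normal in `C₁`. -/
theorem F1_norm : cz v₁ ≤ normalizer ((cz v₁ ⊓ centralizer (nc v₁ {v₂} : Set G) : Subgroup G) : Set G) := by
  refine Half.le_normalizer_inf le_normalizer ?_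
  apply le_normalizer_of
  intro k hk v hv
  rw [mem_centralizer_iff] at hv ⊢
  intro y hy
  have h2 := (mem_normalizer_iff.1 (inv_mem (le_normalizer_nc v₁ {v₂} hk)) y).1 hy
  have h3 := hv _ h2
  rw [inv_inv] at h3
  calc y * (k * v * k⁻¹) = k * (k⁻¹ * y * k * v) * k⁻¹ := by group
    _ = k * (v * (k⁻¹ * y * k)) * k⁻¹ := by rw [h3]
    _ = k * v * k⁻¹ * y := by group

theorem F1_le : cz v₁ ⊓ centralizer (nc v₁ {v₂} : Set G) ≤ cz v₁ ⊓ cz v₂ := by
  rintro x ⟨h1, h2⟩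
  exact ⟨h1, mem_cz.2 (mem_centralizer_iff.1 h2 v₂ h.v2_mem_N1).symm⟩

theorem Q_le_F1 : ZN.o2 (cz v₁) ≤ cz v₁ ⊓ centralizer (nc v₁ {v₂} : Set G) := fun _ hx =>
  ⟨o2_le _ hx, mem_centralizer_iff.2 fun _ hy => (h.Q_N1 hx hy).symm⟩

/-- `C_{N₁}(T) ≤ Y`. -/
theorem N1_fix {x : G} (hx : x ∈ nc v₁ {v₂}) (hc : ∀ t ∈ T, t * x = x * t) :
    x = 1 ∨ x = v₁ ∨ x = v₂ ∨ x = v₁ * v₂ :=
  h.fix x (h.N1_le_T hx) (h.N1_sq hx) hc

/-- `N₁` has no `C₁`-invariant complement to `⟨v₁⟩`. -/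
theorem no_compl {N : Subgroup G} (hn : L₂ ≤ normalizer (N : Set G)) (hv : v₂ ∈ N ∨ v₁ * v₂ ∈ N) :
    v₂ ∈ N := by
  rcases hv with hv | hv
  · exact hv
  -- another element of `V₂#`
  obtain ⟨v, hv2, hv3, hv4⟩ : ∃ v ∈ V₂, v ≠ 1 ∧ v ≠ v₂ := by
    by_contra hcon
    push Not at hcon
    have h1 : V₂ ≤ zpowers v₂ := by
      intro x hx
      by_cases hx1 : x = 1
      · rw [hx1]; exact one_mem _
      · rw [hcon x hx hx1]; exact mem_zpowers _
    have h2 := card_le_of_le h1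
    rw [h.card2, Nat.card_zpowers] at h2
    have h3 : orderOf v₂ ≤ 2 := orderOf_le_of_pow_eq_one (by norm_num) (by rw [pow_two, h.vq2])
    omega
  obtain ⟨l, hl, rfl⟩ := h.t2 v₂ h.vV2 h.v2 v hv2 hv3
  have h1 : l * (v₁ * v₂) * l⁻¹ ∈ N := (mem_normalizer_iff.1 (hn hl) _).1 hv
  have h2 : l * (v₁ * v₂) * l⁻¹ = v₁ * (l * v₂ * l⁻¹) := by
    calc l * (v₁ * v₂) * l⁻¹ = (l * v₁) * v₂ * l⁻¹ := by group
      _ = v₁ * (l * v₂ * l⁻¹) := by rw [h.L21 l hl _ h.vV1]; group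
  have h3 : v₂ * (l * v₂ * l⁻¹) ∈ N := by
    have h4 := mul_mem hv h1
    rw [h2] at h4
    have e : v₁ * v₂ * (v₁ * (l * v₂ * l⁻¹)) = v₂ * (l * v₂ * l⁻¹) := by
      calc v₁ * v₂ * (v₁ * (l * v₂ * l⁻¹)) = (v₁ * v₂) * v₁ * (l * v₂ * l⁻¹) := by group
        _ = (v₂ * v₁) * v₁ * (l * v₂ * l⁻¹) := by rw [h.vc]
        _ = v₂ * (l * v₂ * l⁻¹) := by rw [mul_assoc v₂, h.vq1, mul_one]
    rwa [e] at h4
  have h5 : v₂ * (l * v₂ * l⁻¹) ∈ V₂ := mul_mem h.vV2 hv2
  have h6 : v₂ * (l * v₂ * l⁻¹) ≠ 1 := fun e => hv4 (by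
    have h7 : l * v₂ * l⁻¹ = v₂⁻¹ := (eq_inv_of_mul_eq_one_right e)
    rw [h7]
    exact inv_eq_of_mul_eq_one_left h.vq2)
  obtain ⟨l', hl', h7⟩ := h.t2 _ h5 h6 v₂ h.vV2 h.v2
  rw [← h7]
  exact (mem_normalizer_iff.1 (hn hl') _).1 h3

/-! ### `N_G(V₂)` -/

/-- `T` is a Sylow 2-subgroup of `N_G(V₂)`. -/
theorem syl_N2 : ¬ 2 ∣ T.relIndex (normalizer (V₂ : Set G)) := by
  obtain ⟨U, h1, h2, h3, h4⟩ := Half.exists_sylow_le h.pT h.T_norm2
  obtain ⟨v, hv, hv1, hvc⟩ := Half.exists_fixed (h.pT.to_le h.V2T) h.symm.V1_ne_bot h3 h2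
  have h5 : v = v₂ := by
    rcases h.symm.fix1 hv (fun t ht => mul_inv_eq_iff_eq_mul.1 (hvc t (h1 ht))) with h6 | h6
    · exact absurd h6 hv1
    · exact h6
  have h6 : U = T := le_antisymm
    (h.syl2 U h3 h1 fun x hx => mul_inv_eq_iff_eq_mul.1 (h5 ▸ hvc x hx)) h1
  rwa [h6] at h4

/-- `V₁ ≤ Ω₁Z(O₂(N_G(V₂)))`. -/
theorem V1_le_zcN : V₁ ≤ zc (ZN.o2 (normalizer (V₂ : Set G))) := by
  have hc := char2_normalizer h.C2T (h.pT.to_le h.V2T) h.symm.V1_ne_bot
  have h1 := zc_le_zc_o2 h.T_norm2 h.pT h.syl_N2 hc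
  have h2 : v₁ ∈ zc T := mem_zc.2 ⟨h.V1T h.vV1, h.Tv1, by rw [pow_two, h.vq1]⟩
  have h3 : L₁ ≤ normalizer (V₂ : Set G) := by
    intro l hl
    apply (centralizer_le_normalizer (V₂ : Set G))
    rw [mem_centralizer_iff]
    intro y hy
    exact (h.L12 l hl y hy).symm
  exact h.V1_le_of (h3.trans ((le_normalizer_o2 _).trans (normalizer_le_normalizer_zc _))) (h1 h2)

end basic

/-! ### Mutual pairs -/

/-- (1') for mixed pairs: if `V₁`, `V₁'^c` do not commute for some `c ∈ C₁` then `C₁` does not normalise `V₂`. -/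
theorem not_norm_of_mixed {V₁' V₂' L₁' L₂' : Subgroup G} (h : Base T V₁ V₂ L₁ L₂ v₁ v₂ s)
    (h' : Base T V₁' V₂' L₁' L₂' v₁ v₂ s)
    (hm : ∃ c ∈ cz v₁, ∃ a ∈ V₁, ∃ b ∈ V₁', a * (c * b * c⁻¹) ≠ c * b * c⁻¹ * a) :
    ¬ cz v₁ ≤ normalizer (V₂ : Set G) := by
  intro hn
  have e2 : V₂' = V₂ := by
    have h1 : nc v₁ {v₂} ≤ V₂ := nc_le (Set.singleton_subset_iff.2 h.vV2) hn
    exact eq_of_le_of_card_ge (h'.V2_le_N1.trans h1) (by rw [h.card2, h'.card2])
  have e1 : V₁' = V₁ := by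
    have key : V₁' ≤ V₁ := by
      intro x hx
      have h1 : s * x * s⁻¹ ∈ V₂ := e2 ▸ h'.s1 x hx
      -- `V₁ → V₂` is onto
      have h2 : (V₁.map (MulAut.conj s).toMonoidHom) = V₂ := by
        refine eq_of_le_of_card_ge ?_ ?_
        · rintro _ ⟨y, hy, rfl⟩
          exact h.s1 y hy
        · rw [card_map_of_injective (MulAut.conj s).injective, h.card1, h.card2]
      rw [← h2] at h1
      obtain ⟨y, hy, e⟩ := h1
      have e3 : s * y * s⁻¹ = s * x * s⁻¹ := e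
      have e4 : y = x := by
        calc y = s⁻¹ * (s * y * s⁻¹) * s := by group
          _ = x := by rw [e3]; group
      rwa [← e4]
    exact eq_of_le_of_card_ge key (by rw [h.card1, h'.card1])
  obtain ⟨c, hc, a, ha, b, hb, hne⟩ := hm
  apply hne
  have h1 := h.V1_le_zcN
  have h2 : c * b * c⁻¹ ∈ zc (ZN.o2 (normalizer (V₂ : Set G))) := by
    have h3 := (hn hc)
    exact (mem_normalizer_iff.1 (((le_normalizer_o2 _).trans (normalizer_le_normalizer_zc _)) h3) b).1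
      (h1 (e1 ▸ hb))
  exact (zc_comm _ a (h1 ha) _ h2)

theorem one_of_mixed {V₁' V₂' L₁' L₂' : Subgroup G} (h : Base T V₁ V₂ L₁ L₂ v₁ v₂ s)
    (h' : Base T V₁' V₂' L₁' L₂' v₁ v₂ s)
    (hm : ∃ c ∈ cz v₁, ∃ a ∈ V₁, ∃ b ∈ V₁', a * (c * b * c⁻¹) ≠ c * b * c⁻¹ * a) :
    One T V₁ V₂ L₁ L₂ v₁ v₂ s := by
  have hm2 : ∃ c ∈ cz v₂, ∃ a ∈ V₂, ∃ b ∈ V₂', a * (c * b * c⁻¹) ≠ c * b * c⁻¹ * a := by
    obtain ⟨c, hc, a, ha, b, hb, hne⟩ := hm
    refine ⟨s * c * s⁻¹, conj_cz h.sv1 hc, s * a * s⁻¹, h.s1 a ha, s * b * s⁻¹, h'.s1 b hb, ?_⟩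
    intro e
    apply hne
    have e1 : s * a * s⁻¹ * (s * c * s⁻¹ * (s * b * s⁻¹) * (s * c * s⁻¹)⁻¹) =
        s * (a * (c * b * c⁻¹)) * s⁻¹ := by group
    have e2 : s * c * s⁻¹ * (s * b * s⁻¹) * (s * c * s⁻¹)⁻¹ * (s * a * s⁻¹) =
        s * (c * b * c⁻¹ * a) * s⁻¹ := by group
    rw [e1, e2] at e
    exact mul_left_cancel (mul_right_cancel e)
  refine ⟨h, ?_, ?_, h.not_norm_of_mixed h' hm, h.symm.not_norm_of_mixed h'.symm hm2⟩
  · obtain ⟨c, hc, a, ha, b, hb, hne⟩ := hm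
    exact ⟨c * b * c⁻¹, (mem_normalizer_iff.1 (le_normalizer_Kk v₁ hc) b).1 (h'.V1_le_Kk hb), a, ha,
      Ne.symm hne⟩
  · obtain ⟨c, hc, a, ha, b, hb, hne⟩ := hm2
    exact ⟨c * b * c⁻¹, (mem_normalizer_iff.1 (le_normalizer_Kk v₂ hc) b).1 (h'.symm.V1_le_Kk hb), a, ha,
      Ne.symm hne⟩

/-- STEP F: if `C₁ = ⟨M, L₂⟩`, `M = C₁ ∩ C₂`, and `F₁` is transitive on `V₁^M`, then `⟨V₁^{C₁}⟩` is abelian. -/
theorem stepF (h : Base T V₁ V₂ L₁ L₂ v₁ v₂ s) (hg : cz v₁ ≤ (cz v₁ ⊓ cz v₂) ⊔ L₂)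
    (ht : ∀ m ∈ cz v₁ ⊓ cz v₂, ∃ f ∈ cz v₁ ⊓ centralizer (nc v₁ {v₂} : Set G),
      f⁻¹ * m ∈ normalizer (V₁ : Set G)) :
    ∀ c ∈ cz v₁, ∀ a ∈ V₁, ∀ b ∈ V₁, a * (c * b * c⁻¹) = c * b * c⁻¹ * a := by
  set F := cz v₁ ⊓ centralizer (nc v₁ {v₂} : Set G) with hF
  -- `N' = ⟨V₁^{F₁}⟩`
  set N : Subgroup G := closure {y : G | ∃ f ∈ F, ∃ a ∈ V₁, y = f * a * f⁻¹} with hN
  have hsub : ∀ f ∈ F, ∀ a ∈ V₁, f * a * f⁻¹ ∈ N := fun f hf a ha => subset_closure ⟨f, hf, a, ha, rfl⟩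
  have hV : V₁ ≤ N := fun a ha => by simpa using hsub 1 (one_mem _) a ha
  have hFM : F ≤ cz v₁ ⊓ cz v₂ := h.F1_le
  have hnorm : ∀ g ∈ cz v₁, (∀ f ∈ F, ∀ a ∈ V₁, g * (f * a * f⁻¹) * g⁻¹ ∈ N) → g ∈ normalizer (N : Set G) := by
    intro g hg hga
    apply mem_normalizer_of_map_le
    rw [hN, MonoidHom.map_closure, closure_le]
    rintro _ ⟨y, ⟨f, hf, a, ha, rfl⟩, rfl⟩
    exact hga f hf a ha
  have hM : cz v₁ ⊓ cz v₂ ≤ normalizer (N : Set G) := by
    intro m hm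
    refine hnorm m hm.1 fun f hf a ha => ?_
    obtain ⟨f', hf', h1⟩ := ht (m * f) (mul_mem hm (hFM hf))
    have e : m * (f * a * f⁻¹) * m⁻¹ = f' * ((f'⁻¹ * (m * f)) * a * (f'⁻¹ * (m * f))⁻¹) * f'⁻¹ := by group
    rw [e]
    exact hsub f' hf' _ ((mem_normalizer_iff.1 h1 a).1 ha)
  have hL : L₂ ≤ normalizer (N : Set G) := by
    intro l hl
    refine hnorm l (h.L2_le hl) fun f hf a ha => ?_
    have h1 : l * f * l⁻¹ ∈ F := (mem_normalizer_iff.1 (h.F1_norm (h.L2_le hl)) f).1 hf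
    have e : l * (f * a * f⁻¹) * l⁻¹ = (l * f * l⁻¹) * (l * a * l⁻¹) * (l * f * l⁻¹)⁻¹ := by group
    have e2 : l * a * l⁻¹ = a := by rw [h.L21 l hl a ha, mul_inv_cancel_right]
    rw [e, e2]
    exact hsub _ h1 a ha
  have hN2 : N ≤ nc v₂ {v₁} := by
    rw [hN, closure_le]
    rintro _ ⟨f, hf, a, ha, rfl⟩
    exact (mem_normalizer_iff.1 (le_normalizer_nc v₂ {v₁} (hFM hf).2) a).1 (h.V1_le_N2 ha)
  intro c hc a ha b hb
  have h1 : c ∈ normalizer (N : Set G) := (sup_le hM hL) (hg hc)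
  have h2 : c * b * c⁻¹ ∈ N := (mem_normalizer_iff.1 h1 b).1 (hV hb)
  exact h.symm.N1_comm (h.V1_le_N2 ha) (hN2 h2)

end Base

/-- The configuration from `IId.Two` (helper774). -/
theorem of_two [Finite G] (hG : IsCharacteristicTwoType G) {S : Sylow 2 G} {So V₁ V₂ L₁ L₂ : Subgroup G}
    (h : IId.Two (S : Subgroup G) So V₁ V₂ L₁ L₂) (hz : Nat.card (zc (S : Subgroup G)) = 2)
    (hc : Nat.card V₁ = 4) {s v : G} (hs : s ∈ (S : Subgroup G)) (hs1 : s ∉ So) (hv : v ∈ V₁) (hv1 : v ≠ 1)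
    (hvS : ∀ x ∈ So, x * v = v * x)
    (syl : ∀ U : Subgroup G, IsPGroup 2 U → So ≤ U → (∀ x ∈ U, x * v = v * x) → U ≤ So) :
    Base So V₁ V₂ L₁ L₂ v (s * v * s⁻¹) s := by
  have two := IId.Two.two_cosets h.SoS h.card
  have ss : s * s ∈ So := by
    have h1 := two s⁻¹ (inv_mem hs) s hs (fun h1 => hs1 (inv_mem_iff.1 h1)) hs1
    rwa [inv_inv] at h1
  have conjS : ∀ x ∈ So, s * x * s⁻¹ ∈ So := fun x hx => IId.Two.conj_mem_of_two h.SoS two hs hx
  have conjS' : ∀ x ∈ So, s⁻¹ * x * s ∈ So := fun x hx => by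
    have h1 := IId.Two.conj_mem_of_two h.SoS two (inv_mem hs) hx
    rwa [inv_inv] at h1
  have pSo : IsPGroup 2 So := S.isPGroup'.to_le h.SoS
  have hw : s * v * s⁻¹ ∈ V₂ := h.sw1 s hs hs1 v hv
  have hw1 : s * v * s⁻¹ ≠ 1 := fun h1 => hv1 (by
    have h2 : v = s⁻¹ * (s * v * s⁻¹) * s := by group
    rw [h2, h1]; group)
  have hwS : ∀ x ∈ So, x * (s * v * s⁻¹) = s * v * s⁻¹ * x := by
    intro x hx
    have h1 := hvS _ (conjS' x hx)
    calc x * (s * v * s⁻¹) = s * (s⁻¹ * x * s * v) * s⁻¹ := by group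
      _ = s * (v * (s⁻¹ * x * s)) * s⁻¹ := by rw [h1]
      _ = s * v * s⁻¹ * x := by group
  have sws : s * (s * v * s⁻¹) * s⁻¹ = v := by
    have h1 := hvS _ ss
    calc s * (s * v * s⁻¹) * s⁻¹ = s * s * v * (s * s)⁻¹ := by group
      _ = v := by rw [h1]; group
  have vv : v * v = 1 := by rw [← pow_two]; exact h.q1 v hv
  have ww : s * v * s⁻¹ * (s * v * s⁻¹) = 1 := by rw [← pow_two]; exact h.q2 _ hw
  have vwc : v * (s * v * s⁻¹) = s * v * s⁻¹ * v := h.c12 v hv _ hw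
  have hvw : v ≠ s * v * s⁻¹ := fun h1 => hv1 (h.inf v hv (by rw [h1]; exact hw))
  have zne : v * (s * v * s⁻¹) ≠ 1 := fun h1 => hvw (mul_right_cancel (h1.trans ww.symm))
  have card2 : Nat.card V₂ = 4 := by
    have h1 : V₁.map (MulAut.conj s).toMonoidHom ≤ V₂ := by
      rintro _ ⟨y, hy, rfl⟩
      exact h.sw1 s hs hs1 y hy
    have h2 : V₂.map (MulAut.conj s).toMonoidHom ≤ V₁ := by
      rintro _ ⟨y, hy, rfl⟩
      exact h.sw2 s hs hs1 y hy
    have h3 := card_le_of_le h1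
    have h4 := card_le_of_le h2
    rw [card_map_of_injective (MulAut.conj s).injective] at h3 h4
    omega
  -- an element of `Ω₁Z(So)` fixed by `s` is `1` or `v w`
  have fixs : ∀ x ∈ So, x * x = 1 → (∀ t ∈ So, t * x = x * t) → s * x * s⁻¹ = x →
      x = 1 ∨ x = v * (s * v * s⁻¹) := by
    intro x hx hx2 hxc hxs
    have mem : ∀ y ∈ So, y * y = 1 → (∀ t ∈ So, t * y = y * t) → s * y * s⁻¹ = y →
        y ∈ zc (S : Subgroup G) := by
      intro y hy hy2 hyc hys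
      refine mem_zc.2 ⟨h.SoS hy, fun b hb => ?_, by rw [pow_two, hy2]⟩
      by_cases hb1 : b ∈ So
      · exact hyc b hb1
      · have h1 : s⁻¹ * b ∈ So := two s hs b hb hs1 hb1
        have h2 := hyc _ h1
        have h3 : s * y = y * s := mul_inv_eq_iff_eq_mul.1 hys
        calc b * y = s * (s⁻¹ * b * y) := by group
          _ = s * y * (s⁻¹ * b) := by rw [h2]; group
          _ = y * b := by rw [h3]; group
    have h1 := mem x hx hx2 hxc hxs
    have h2 : v * (s * v * s⁻¹) ∈ zc (S : Subgroup G) := by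
      refine mem _ (mul_mem (h.V1So hv) (h.V2So hw)) ?_ (fun t ht => ?_) ?_
      · calc v * (s * v * s⁻¹) * (v * (s * v * s⁻¹)) = v * (s * v * s⁻¹ * v) * (s * v * s⁻¹) := by group
          _ = v * v * (s * v * s⁻¹ * (s * v * s⁻¹)) := by rw [← vwc]; group
          _ = 1 := by rw [vv, ww, one_mul]
      · calc t * (v * (s * v * s⁻¹)) = t * v * (s * v * s⁻¹) := by group
          _ = v * (t * (s * v * s⁻¹)) := by rw [hvS t ht]; group
          _ = v * (s * v * s⁻¹) * t := by rw [hwS t ht]; group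
      · calc s * (v * (s * v * s⁻¹)) * s⁻¹ = s * v * s⁻¹ * (s * (s * v * s⁻¹) * s⁻¹) := by group
          _ = v * (s * v * s⁻¹) := by rw [sws, vwc]
    exact IId.Two.eq_or_eq_of_card_two hz h2 zne h1
  have fixS : ∀ x ∈ So, x * x = 1 → (∀ t ∈ So, t * x = x * t) →
      x = 1 ∨ x = v ∨ x = s * v * s⁻¹ ∨ x = v * (s * v * s⁻¹) := by
    intro x hx hx2 hxc
    -- `y = x x^s` is fixed by `s`
    have hsx : s * x * s⁻¹ ∈ So := conjS x hx
    have hsxc : ∀ t ∈ So, t * (s * x * s⁻¹) = s * x * s⁻¹ * t := by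
      intro t ht
      have h1 := hxc _ (conjS' t ht)
      calc t * (s * x * s⁻¹) = s * (s⁻¹ * t * s * x) * s⁻¹ := by group
        _ = s * (x * (s⁻¹ * t * s)) * s⁻¹ := by rw [h1]
        _ = s * x * s⁻¹ * t := by group
    have hsx2 : s * x * s⁻¹ * (s * x * s⁻¹) = 1 := by
      calc s * x * s⁻¹ * (s * x * s⁻¹) = s * (x * x) * s⁻¹ := by group
        _ = 1 := by rw [hx2]; group
    have hcomm : x * (s * x * s⁻¹) = s * x * s⁻¹ * x := hsxc x hx
    have hssx : s * (s * x * s⁻¹) * s⁻¹ = x := by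
      have h1 := hxc _ ss
      calc s * (s * x * s⁻¹) * s⁻¹ = s * s * x * (s * s)⁻¹ := by group
        _ = x := by rw [h1]; group
    have key : ∀ y ∈ So, y * y = 1 → (∀ t ∈ So, t * y = y * t) → y * (s * y * s⁻¹) = 1 →
        y = 1 ∨ y = v * (s * v * s⁻¹) := by
      intro y hy hy2 hyc hys
      refine fixs y hy hy2 hyc ?_
      have h1 : s * y * s⁻¹ = y⁻¹ := eq_inv_of_mul_eq_one_right hys
      rw [h1]
      exact inv_eq_of_mul_eq_one_left hy2
    have h1 : x * (s * x * s⁻¹) = 1 ∨ x * (s * x * s⁻¹) = v * (s * v * s⁻¹) := by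
      refine fixs _ (mul_mem hx hsx) ?_ (fun t ht => ?_) ?_
      · calc x * (s * x * s⁻¹) * (x * (s * x * s⁻¹)) = x * (s * x * s⁻¹ * x) * (s * x * s⁻¹) := by group
          _ = x * x * (s * x * s⁻¹ * (s * x * s⁻¹)) := by rw [← hcomm]; group
          _ = 1 := by rw [hx2, hsx2, one_mul]
      · calc t * (x * (s * x * s⁻¹)) = t * x * (s * x * s⁻¹) := by group
          _ = x * (t * (s * x * s⁻¹)) := by rw [hxc t ht]; group
          _ = x * (s * x * s⁻¹) * t := by rw [hsxc t ht]; group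
      · calc s * (x * (s * x * s⁻¹)) * s⁻¹ = s * x * s⁻¹ * (s * (s * x * s⁻¹) * s⁻¹) := by group
          _ = x * (s * x * s⁻¹) := by rw [hssx, hcomm]
    rcases h1 with h1 | h1
    · rcases key x hx hx2 hxc h1 with h2 | h2
      · exact Or.inl h2
      · exact Or.inr (Or.inr (Or.inr h2))
    · -- `y = x v`
      have hxv : x * v = v * x := (hxc v (h.V1So hv)).symm
      have hy : (x * v) * (s * (x * v) * s⁻¹) = 1 := by
        calc (x * v) * (s * (x * v) * s⁻¹) = x * (v * (s * x * s⁻¹)) * (s * v * s⁻¹) := by group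
          _ = x * (s * x * s⁻¹) * v * (s * v * s⁻¹) := by rw [hsxc v (h.V1So hv)]; group
          _ = v * (s * v * s⁻¹ * v) * (s * v * s⁻¹) := by rw [h1]; group
          _ = v * v * (s * v * s⁻¹ * (s * v * s⁻¹)) := by rw [← vwc]; group
          _ = 1 := by rw [vv, ww, one_mul]
      rcases key (x * v) (mul_mem hx (h.V1So hv)) (by
          calc x * v * (x * v) = x * (v * x) * v := by group
            _ = (x * x) * (v * v) := by rw [← hxv]; group
            _ = 1 := by rw [hx2, vv, one_mul]) (fun t ht => by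
          calc t * (x * v) = t * x * v := by group
            _ = x * (t * v) := by rw [hxc t ht]; group
            _ = x * v * t := by rw [hvS t ht]; group) hy with h2 | h2
      · right; left
        calc x = x * v * v := by rw [mul_assoc, vv, mul_one]
          _ = v := by rw [h2, one_mul]
      · right; right; left
        calc x = x * v * v := by rw [mul_assoc, vv, mul_one]
          _ = v * (s * v * s⁻¹ * v) := by rw [h2]; group
          _ = v * v * (s * v * s⁻¹) := by rw [← vwc]; group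
          _ = s * v * s⁻¹ := by rw [vv, one_mul]
  have ch1 : cz v ⊓ centralizer (ZN.o2 (cz v) : Set G) ≤ ZN.o2 (cz v) :=
    char2_centralizer hG (h.q1 v hv) hv1
  have ch2 : cz (s * v * s⁻¹) ⊓ centralizer (ZN.o2 (cz (s * v * s⁻¹)) : Set G) ≤ ZN.o2 (cz (s * v * s⁻¹)) :=
    char2_centralizer hG (h.q2 _ hw) hw1
  have half1 := h.half hv hv1 (H := cz v) (fun x hx => mem_cz.1 hx) ch1 (fun x hx => mem_cz.2 (hvS x hx))
    (fun l hl => mem_cz.2 (h.L21 l hl v hv))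
  have half2 := h.symm.half hw hw1 (H := cz (s * v * s⁻¹)) (fun x hx => mem_cz.1 hx) ch2
    (fun x hx => mem_cz.2 (hwS x hx)) (fun l hl => mem_cz.2 (h.L12 l hl _ hw))
  exact
  { C2T := hG
    pT := pSo
    V1T := h.V1So
    V2T := h.V2So
    card1 := hc
    card2 := card2
    c1 := h.c1
    c2 := h.c2
    q1 := fun x hx => by rw [← pow_two]; exact h.q1 x hx
    q2 := fun x hx => by rw [← pow_two]; exact h.q2 x hx
    c12 := h.c12
    inf := h.inf
    vV1 := hv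
    vV2 := hw
    v1 := hv1
    v2 := hw1
    Tv1 := hvS
    Tv2 := hwS
    T1 := h.So1
    T2 := h.So2
    L1 := h.L1
    L2 := h.L2
    L12 := h.L12
    L21 := h.L21
    t1 := h.t1
    t2 := h.t2
    fix := fixS
    syl1 := syl
    syl2 := fun U hU hSU hUc => by
      have h1 : U.map (MulAut.conj s⁻¹).toMonoidHom ≤ So := by
        refine syl _ (hU.map _) (fun x hx => ?_) ?_
        · refine ⟨s * x * s⁻¹, hSU (conjS x hx), ?_⟩
          change s⁻¹ * (s * x * s⁻¹) * s⁻¹⁻¹ = x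
          group
        · rintro _ ⟨y, hy, rfl⟩
          have h2 := hUc y hy
          change s⁻¹ * y * s⁻¹⁻¹ * v = v * (s⁻¹ * y * s⁻¹⁻¹)
          calc s⁻¹ * y * s⁻¹⁻¹ * v = s⁻¹ * (y * (s * v * s⁻¹)) * s := by group
            _ = s⁻¹ * (s * v * s⁻¹ * y) * s := by rw [h2]
            _ = v * (s⁻¹ * y * s⁻¹⁻¹) := by group
      intro y hy
      have h2 : s⁻¹ * y * s ∈ So := by
        have := h1 ⟨y, hy, rfl⟩
        change s⁻¹ * y * s⁻¹⁻¹ ∈ So at this
        rwa [inv_inv] at this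
      have h3 := conjS _ h2
      have e : s * (s⁻¹ * y * s) * s⁻¹ = y := by group
      rwa [e] at h3
    half1 := half1.1
    half2 := half2.1
    halfc1 := fun x hx y hy => (mem_centralizer_iff.1 (half1.2 hx) y hy).symm
    halfc2 := fun x hx y hy => (mem_centralizer_iff.1 (half2.2 hx) y hy).symm
    sT := conjS
    s1 := h.sw1 s hs hs1
    s2 := h.sw2 s hs hs1
    sv1 := rfl
    sv2 := sws }

end Cfsg.Agent.Omega.IId.One

end

section


/-!
# II.d, `q = 2`, CASE 1: `⟨C₁, C₂⟩` is nonlocal (helper593 #14067 (N))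

`h : Base T V₁ V₂ L₁ L₂ v₁ v₂ s`, `|U| ≤ 2|T|` for every 2-group `U ≥ T`.

* `swap` : if `O` is a 2-group normalised by `T`, `O ≰ T`, `TO` a 2-group, then the elements of `O - T`
  interchange `v₁` and `v₂`;
* `o2_le_T` : `O₂(H) ≤ T` for every `H ≥ T, L₂` (`H` arbitrary);
* `vi_mem_zc` : `v₁, v₂ ∈ Ω₁Z(O₂(H))` for `H = N_G(U) ≥ T, L₂`, `U` a nontrivial 2-group;
* `nonLoc_mixed` : `⟨C₁, C₂⟩` is nonlocal, if there is a second `Base T V₁' V₂' L₁' L₂' v₁ v₂ s` and `c ∈ C₁` with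
  `[V₁, V₁'^c] ≠ 1`; `nonLoc` : the case `V₁' = V₁`;
* `card_le_two` : the hypothesis on `|U|` from `IId.Two`.
-/

set_option autoImplicit false
set_option linter.dupNamespace false
set_option linter.unusedSectionVars false

namespace Cfsg.Agent.Omega.IId.One

open Subgroup Cfsg Cfsg.Agent.ZN Cfsg.Agent.Omega.MinPar Cfsg.Agent.MinSimple.VModule
open Cfsg.Agent.MinSimple.Basic
open Cfsg.Agent.Omega.IId.Two (le_normalizer_of)
open Cfsg.Agent.Omega

universe u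

variable {G : Type u} [Group G]

namespace Base

variable [Finite G] {T V₁ V₂ L₁ L₂ : Subgroup G} {v₁ v₂ s : G}

section basic

variable (h : Base T V₁ V₂ L₁ L₂ v₁ v₂ s)
  (hT2 : ∀ U : Subgroup G, IsPGroup 2 U → T ≤ U → Nat.card U ≤ 2 * Nat.card T)

include h hT2

/-- The elements of `U - T`, `U ≥ T` a 2-group, interchange `v₁` and `v₂`. -/
theorem swap {U : Subgroup G} (hU : IsPGroup 2 U) (hTU : T ≤ U) {x : G} (hx : x ∈ U) (hxT : x ∉ T) :
    x * v₁ * x⁻¹ = v₂ ∧ x * v₂ * x⁻¹ = v₁ := by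
  have hne : T ≠ U := fun e => hxT (e ▸ hx)
  have hc : Nat.card U = 2 * Nat.card T := by
    have h1 := Half.card_mul_relIndex hTU
    have h2 := hT2 U hU hTU
    have h3 : 0 < Nat.card T := Nat.card_pos
    have h4 : T.relIndex U ≠ 1 := fun h5 => hne (le_antisymm hTU (relIndex_eq_one.mp h5))
    have h5 : T.relIndex U ≠ 0 := by
      intro h6
      rw [h6, mul_zero] at h1
      have : 0 < Nat.card U := Nat.card_pos
      omega
    have h6 : T.relIndex U ≤ 2 := by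
      by_contra h7
      push Not at h7
      nlinarith
    have h7 : T.relIndex U = 2 := by omega
    rw [← h1, h7, mul_comm]
  have two := IId.Two.two_cosets hTU hc
  have conjT : ∀ {y z : G}, y ∈ U → z ∈ T → y * z * y⁻¹ ∈ T := fun hy hz =>
    IId.Two.conj_mem_of_two hTU two hy hz
  -- `x` acts on `Y`
  have hY : ∀ y ∈ T, y * y = 1 → (∀ t ∈ T, t * y = y * t) →
      x * y * x⁻¹ = 1 ∨ x * y * x⁻¹ = v₁ ∨ x * y * x⁻¹ = v₂ ∨ x * y * x⁻¹ = v₁ * v₂ := by
    intro y hy hy2 hyc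
    refine h.fix _ (conjT hx hy) ?_ fun t ht => ?_
    · calc x * y * x⁻¹ * (x * y * x⁻¹) = x * (y * y) * x⁻¹ := by group
        _ = 1 := by rw [hy2]; group
    · have h1 : x⁻¹ * t * x ∈ T := by
        have := conjT (inv_mem hx) ht
        rwa [inv_inv] at this
      have h2 := hyc _ h1
      calc t * (x * y * x⁻¹) = x * (x⁻¹ * t * x * y) * x⁻¹ := by group
        _ = x * y * x⁻¹ * t := by rw [h2]; group
  have hY1 := hY v₁ (h.V1T h.vV1) h.vq1 h.Tv1
  have hY2 := hY v₂ (h.V2T h.vV2) h.vq2 h.Tv2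
  have inv_of : ∀ y z : G, x * y * x⁻¹ = z → y = x⁻¹ * z * x := by
    rintro y z rfl
    group
  -- `x` does not centralise `v₁` or `v₂`
  have nfix : ∀ w : G, (∀ t ∈ T, t * w = w * t) → x * w = w * x →
      ∀ y ∈ U, y * w = w * y := by
    intro w hw hxw y hy
    by_cases hyT : y ∈ T
    · exact hw y hyT
    · have h1 := hw _ (two x hx y hy hxT hyT)
      calc y * w = x * (x⁻¹ * y * w) := by group
        _ = (x * w) * (x⁻¹ * y) := by rw [h1]; group
        _ = w * y := by rw [hxw]; group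
  have hn1 : x * v₁ * x⁻¹ ≠ v₁ := fun e =>
    hxT (h.syl1 U hU hTU (nfix v₁ h.Tv1 (mul_inv_eq_iff_eq_mul.1 e)) hx)
  have hn2 : x * v₂ * x⁻¹ ≠ v₂ := fun e =>
    hxT (h.syl2 U hU hTU (nfix v₂ h.Tv2 (mul_inv_eq_iff_eq_mul.1 e)) hx)
  -- `x² ∈ T`
  have hxx : x * x ∈ T := by
    have h1 := two x⁻¹ (inv_mem hx) x hx (fun h2 => hxT (inv_mem_iff.1 h2)) hxT
    rwa [inv_inv] at h1
  have x2 : ∀ w : G, (∀ t ∈ T, t * w = w * t) → x * (x * w * x⁻¹) * x⁻¹ = w := by
    intro w hw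
    calc x * (x * w * x⁻¹) * x⁻¹ = (x * x) * w * (x * x)⁻¹ := by group
      _ = w := by rw [hw _ hxx]; group
  have e1 : x * v₁ * x⁻¹ = v₂ := by
    rcases hY1 with h1 | h1 | h1 | h1
    · exfalso; apply h.v1; rw [inv_of _ _ h1]; group
    · exact absurd h1 hn1
    · exact h1
    · exfalso
      -- `x (v₁v₂) x⁻¹ = v₁`, so `x` fixes `v₂`
      have h2 := x2 v₁ h.Tv1
      rw [h1] at h2
      have h3 : x * (v₁ * v₂) * x⁻¹ = (x * v₁ * x⁻¹) * (x * v₂ * x⁻¹) := by group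
      rw [h3, h1] at h2
      apply hn2
      have h4 : x * v₂ * x⁻¹ = (v₁ * v₂)⁻¹ * v₁ := eq_inv_mul_of_mul_eq h2
      rw [h4, mul_inv_rev, mul_assoc, inv_mul_cancel, mul_one]
      exact inv_eq_of_mul_eq_one_left h.vq2
  refine ⟨e1, ?_⟩
  have h2 := x2 v₁ h.Tv1
  rwa [e1] at h2

/-- `O₂(H) ≤ T` for `H ≥ T, L₂`. -/
theorem o2_le_T {H : Subgroup G} (hTH : T ≤ H) (hL : L₂ ≤ H) : ZN.o2 H ≤ T := by
  obtain ⟨U, h1, h2, h3, h4⟩ := Half.exists_sylow_le h.pT hTH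
  have h5 : ZN.o2 H ≤ U := o2_le_of_sylow h3 h4
  intro x hx
  by_contra hxT
  have key : ∀ y ∈ ZN.o2 H, y ∉ T → y * v₁ * y⁻¹ = v₂ := fun y hy hyT =>
    (h.swap hT2 h3 h1 (h5 hy) hyT).1
  -- an element `l ∈ L₂` moving `v₂`
  obtain ⟨w, hw, hw1, hw2⟩ : ∃ w ∈ V₂, w ≠ 1 ∧ w ≠ v₂ := by
    by_contra hcon
    push Not at hcon
    have h6 : V₂ ≤ zpowers v₂ := by
      intro y hy
      by_cases hy1 : y = 1
      · rw [hy1]; exact one_mem _
      · rw [hcon y hy hy1]; exact mem_zpowers _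
    have h7 := card_le_of_le h6
    rw [h.card2, Nat.card_zpowers] at h7
    have h8 : orderOf v₂ ≤ 2 := orderOf_le_of_pow_eq_one (by norm_num) (by rw [pow_two, h.vq2])
    omega
  obtain ⟨l, hl, hlw⟩ := h.t2 v₂ h.vV2 h.v2 w hw hw1
  have hlx : l * x * l⁻¹ ∈ ZN.o2 H := (mem_normalizer_iff.1 (le_normalizer_o2 H (hL hl)) x).1 hx
  have hl1 : l⁻¹ * v₁ * l = v₁ := by
    calc l⁻¹ * v₁ * l = l⁻¹ * (v₁ * l) := by group
      _ = v₁ := by rw [← h.L21 l hl v₁ h.vV1]; group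
  have e1 : l * x * l⁻¹ * v₁ * (l * x * l⁻¹)⁻¹ = w := by
    calc l * x * l⁻¹ * v₁ * (l * x * l⁻¹)⁻¹ = l * (x * (l⁻¹ * v₁ * l) * x⁻¹) * l⁻¹ := by group
      _ = w := by rw [hl1, key x hx hxT, hlw]
  by_cases hlT : l * x * l⁻¹ ∈ T
  · have h6 := h.Tv1 _ hlT
    rw [h6, mul_inv_cancel_right] at e1
    exact h.v1 (h.inf v₁ h.vV1 (e1 ▸ hw))
  · rw [key _ hlx hlT] at e1
    exact hw2 e1.symm

/-- `v₁, v₂ ∈ Ω₁Z(O₂(H))`, `H = N_G(U) ≥ T, L₂`. -/
theorem vi_mem_zc {U : Subgroup G} (hU : IsPGroup 2 U) (hU1 : U ≠ ⊥) (hTU : T ≤ normalizer (U : Set G))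
    (hL : L₂ ≤ normalizer (U : Set G)) :
    v₁ ∈ zc (ZN.o2 (normalizer (U : Set G))) ∧ v₂ ∈ zc (ZN.o2 (normalizer (U : Set G))) := by
  have h1 := h.o2_le_T hT2 hTU hL
  have h2 := char2_normalizer h.C2T hU hU1
  have key : ∀ w ∈ T, (∀ t ∈ T, t * w = w * t) → w * w = 1 → w ∈ zc (ZN.o2 (normalizer (U : Set G))) := by
    intro w hw hwc hw2
    have h3 : ∀ y ∈ ZN.o2 (normalizer (U : Set G)), y * w = w * y := fun y hy => hwc y (h1 hy)
    refine mem_zc.2 ⟨h2 ⟨hTU hw, mem_centralizer_iff.2 h3⟩, h3, by rw [pow_two, hw2]⟩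
  exact ⟨key v₁ (h.V1T h.vV1) h.Tv1 h.vq1, key v₂ (h.V2T h.vV2) h.Tv2 h.vq2⟩

end basic

/-- **`⟨C₁, C₂⟩` is nonlocal** (mixed pair). -/
theorem nonLoc_mixed {V₁' V₂' L₁' L₂' : Subgroup G} (h : Base T V₁ V₂ L₁ L₂ v₁ v₂ s)
    (h' : Base T V₁' V₂' L₁' L₂' v₁ v₂ s)
    (hT2 : ∀ U : Subgroup G, IsPGroup 2 U → T ≤ U → Nat.card U ≤ 2 * Nat.card T)
    (hm : ∃ c ∈ cz v₁, ∃ a ∈ V₁, ∃ b ∈ V₁', a * (c * b * c⁻¹) ≠ c * b * c⁻¹ * a)
    {U : Subgroup G} (hU : IsPGroup 2 U) (h1 : cz v₁ ≤ normalizer (U : Set G))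
    (h2 : cz v₂ ≤ normalizer (U : Set G)) : U = ⊥ := by
  by_contra hU1
  have hz := h.vi_mem_zc hT2 hU hU1 (h.T_le.trans h1) (h.L2_le.trans h1)
  have hn : normalizer (U : Set G) ≤ normalizer (zc (ZN.o2 (normalizer (U : Set G))) : Set G) :=
    (le_normalizer_o2 _).trans (normalizer_le_normalizer_zc _)
  have hV : V₁ ≤ zc (ZN.o2 (normalizer (U : Set G))) := h.V1_le_of (h.L1_le.trans (h2.trans hn)) hz.1
  have hV' : V₁' ≤ zc (ZN.o2 (normalizer (U : Set G))) := h'.V1_le_of (h'.L1_le.trans (h2.trans hn)) hz.1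
  obtain ⟨c, hc, a, ha, b, hb, hne⟩ := hm
  exact hne (zc_comm _ a (hV ha) _ ((mem_normalizer_iff.1 (hn (h1 hc)) b).1 (hV' hb)))

/-- **`⟨C₁, C₂⟩` is nonlocal.** -/
theorem nonLoc (h : Base T V₁ V₂ L₁ L₂ v₁ v₂ s)
    (hT2 : ∀ U : Subgroup G, IsPGroup 2 U → T ≤ U → Nat.card U ≤ 2 * Nat.card T)
    (hm : ∃ c ∈ cz v₁, ∃ a ∈ V₁, ∃ b ∈ V₁, a * (c * b * c⁻¹) ≠ c * b * c⁻¹ * a)
    {U : Subgroup G} (hU : IsPGroup 2 U) (h1 : cz v₁ ≤ normalizer (U : Set G))
    (h2 : cz v₂ ≤ normalizer (U : Set G)) : U = ⊥ := h.nonLoc_mixed h hT2 hm hU h1 h2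

end Base

/-- `|U| ≤ 2|So|` for every 2-group `U`. -/
theorem card_le_two [Finite G] {S : Sylow 2 G} {So V₁ V₂ L₁ L₂ : Subgroup G}
    (h : IId.Two (S : Subgroup G) So V₁ V₂ L₁ L₂) (U : Subgroup G) (hU : IsPGroup 2 U) :
    Nat.card U ≤ 2 * Nat.card So := by
  rw [← h.card]
  obtain ⟨Q, hQ⟩ := hU.exists_le_sylow
  have h1 : Nat.card (Q : Subgroup G) = Nat.card (S : Subgroup G) := by
    have : Fact (Nat.Prime 2) := ⟨Nat.prime_two⟩
    rw [Q.card_eq_multiplicity, S.card_eq_multiplicity]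
  rw [← h1]
  exact card_le_of_le hQ

end Cfsg.Agent.Omega.IId.One

end
end

-- part: Mrg/Omega/NOThreeL/RTwo
section
prune_inst 0x10000100540000000018000000001c42ea000002004b00000040080004880840a0018621b0a00110101208440030004000900000000000002000000041180481000200028008a000200000000805180c00000000000000000000000000000000000000000
set_option linter.all false
open scoped Cfsg.Agent.FastGrp

section


/-!
# NO-3L, socket R: (R2) of #15623 (helper691)

`S` a Sylow 2-subgroup, `Z = Ω₁(Z(S))`, `z ∈ Z - 1`.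

* `exists_par` : `C_G(z)` does not normalise `Z`: some `P ∈ P*(S)` centralises `z`;
* `iff_exists` : `C_G(z) ≰ N_G(Z)` iff `z ∈ C_Z(P)` for some `P ∈ P*(S)`;
* `ti_of` : `z ∈ Z ∩ Z^g`, `C_G(z) ≤ N_G(Z)`: `g ∈ N_G(Z)`;
* `cent_le`, `ti` : if `C_Z(P) = 1` for all `P ∈ P*(S)`, then `C_G(z) ≤ N_G(Z)` for all `z ∈ Z - 1` and `Z` is
  a TI-subgroup;
* `isLong_centralizer` : `E ≤ Z`, `E ≠ 1`: `C_G(E)` is a long group; `le_centralizer_E` : it contains `P` for
  `E = C_Z(P)`; `comm_of_cent` : if `H` centralises `C_Z(P) ≠ 1`, then `[V_P, U_H] = 1`.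
-/

set_option autoImplicit false

namespace Cfsg.Agent.Omega.NOThreeL.RTwo

open Subgroup Cfsg Cfsg.Agent.ZN Cfsg.Agent.Omega.MinPar Cfsg.Agent.Omega.FrameNOFF
open Cfsg.Agent.Omega.Node.NO3L
open Cfsg.Agent.Omega.NoFF.Basic (conj_conj mem_conj conj_le_iff conj_le_centralizer comm_mono)
open Cfsg.Agent.Omega.NOThreeL.Pair (zl_abel)
open Cfsg.Agent.MinSimple.VModule (mem_zc zc_le zc_le_centralizer le_centralizer_zc zc_comm zc_sq
  normalizer_le_normalizer_zc zl_le zc_le_zl le_normalizer_zl)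
open scoped Pointwise

universe u

variable {G : Type u} [Group G]

section one

variable [Finite G] (S : Sylow 2 G)

/-- `C_G(z)` does not normalise `Z`: some member of `P*(S)` centralises `z`. -/
theorem exists_par {z : G} (hz : z ∈ zc (S : Subgroup G)) (hz1 : z ≠ 1)
    (h : ¬ centralizer ({z} : Set G) ≤ normalizer (zc (S : Subgroup G) : Set G)) :
    ∃ P : Subgroup G, IsParS (S : Subgroup G) P ∧ P ≤ centralizer ({z} : Set G) := by
  have hS : (S : Subgroup G) ≤ centralizer ({z} : Set G) := by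
    intro s hs
    rw [mem_centralizer_singleton_iff]
    exact (mem_zc.1 hz).2.1 s hs
  have hL := isLoc_centralizer S (zc_sq _ z hz) hz1 hS
  obtain ⟨P, hP, hPL, hPn⟩ := hL.exists_not_le S
    (inf_le_right.trans (normalizer_le_normalizer_zc _)) h
  exact ⟨P, ⟨hP, hPn⟩, hPL⟩

/-- **(R2)**, last statement. -/
theorem iff_exists {z : G} (hz : z ∈ zc (S : Subgroup G)) (hz1 : z ≠ 1) :
    ¬ centralizer ({z} : Set G) ≤ normalizer (zc (S : Subgroup G) : Set G) ↔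
      ∃ P : Subgroup G, IsParS (S : Subgroup G) P ∧
        z ∈ zc (S : Subgroup G) ⊓ centralizer (P : Set G) := by
  constructor
  · intro h
    obtain ⟨P, hP, hPz⟩ := exists_par S hz hz1 h
    refine ⟨P, hP, mem_inf.2 ⟨hz, mem_centralizer_iff.2 fun p hp => ?_⟩⟩
    exact mem_centralizer_singleton_iff.1 (hPz hp)
  · rintro ⟨P, hP, hPz⟩ h
    refine hP.not_zc fun p hp => h ?_
    rw [mem_centralizer_singleton_iff]
    exact mem_centralizer_iff.1 (mem_inf.1 hPz).2 p hp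

variable (hP : ∀ P : Subgroup G, IsParS (S : Subgroup G) P →
  zc (S : Subgroup G) ⊓ centralizer (P : Set G) = ⊥)
include hP

/-- **(R2)**: `C_Z(P) = 1` for all `P ∈ P*(S)`: `C_G(z) ≤ N_G(Z)` for all `z ∈ Z - 1`. -/
theorem cent_le {z : G} (hz : z ∈ zc (S : Subgroup G)) (hz1 : z ≠ 1) :
    centralizer ({z} : Set G) ≤ normalizer (zc (S : Subgroup G) : Set G) := by
  by_contra h
  obtain ⟨P, h1, h2⟩ := (iff_exists S hz hz1).1 h
  rw [hP P h1, mem_bot] at h2
  exact hz1 h2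

end one

end Cfsg.Agent.Omega.NOThreeL.RTwo

end

section


/-!
# NO-3L, THEOREM EXACT for `q > 2` (helper850 #16366 (4)-(8), helper884 #16740 (A4a)): the abstract part

`H` acts on the elementary abelian 2-group `M` (`= U_H`), `Ax i = C_U(N_i)`, `R i = [U, N_i]`, `T i` = the image
of `N_i`, with `[u, T i] = R i` for all `u ∉ Ax i`.  Results: `AxData.exact`, `AxData.card_eq`.
-/

set_option autoImplicit false

namespace Cfsg.Agent.Omega.NOThreeL.ThmAx

open scoped Pointwise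

variable {H M : Type*} [Group H] [AddCommGroup M] [DistribMulAction H M]

/-- `r = ∑ r_i` with `r_i ∈ R i`, `r_i ≠ 0`. -/
def Full {ι : Type*} [Fintype ι] (R : ι → AddSubgroup M) (r : M) : Prop :=
  ∃ f : ι → M, (∀ i, f i ∈ R i ∧ f i ≠ 0) ∧ r = ∑ i, f i

/-- The data. -/
structure AxData {ι : Type*} [Fintype ι] (T : ι → Subgroup H) (Ax R : ι → AddSubgroup M)
    (Z : AddSubgroup M) : Prop where
  char2 : ∀ m : M, m + m = 0
  fix : ∀ i, ∀ t ∈ T i, ∀ u ∈ Ax i, t • u = u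
  quad : ∀ i, ∀ t ∈ T i, ∀ u : M, t • u - u ∈ R i
  full : ∀ i, ∀ u : M, u ∉ Ax i → ∀ r ∈ R i, ∃ t ∈ T i, t • u = u + r
  le : ∀ i j, R i ≤ Ax j
  trans : ∀ i j, ∃ s : H, s • Ax i = Ax j
  ne : ∀ i, Ax i ≠ ⊤
  card : ∀ i j, Nat.card (M ⧸ Ax j) ≤ Nat.card (R i)
  big : ∀ i, 2 < Nat.card (R i)
  zfull : ∀ z ∈ Z, z ≠ 0 → Full R z
  Z0 : Z ≠ ⊥
  two : ∀ z ∈ Z, z ≠ 0 → ∀ i, ∀ a ∈ T i, ∀ b : H, b • z = z → (∀ u : M, b • b • u = u) →
    ∃ n : ℕ, ∀ u : M, ((b * a) ^ (2 ^ n)) • u = u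
  noff : ∀ r : M, Full R r → ∀ t : H, t • r = r → ∀ z ∈ Z, ∀ i, t • z ∈ Ax i
  meet : ∀ N : AddSubgroup M, (∀ h : H, ∀ n ∈ N, h • n ∈ N) → N ≠ ⊥ → ∃ z ∈ Z, z ≠ 0 ∧ z ∈ N
  gen : ∀ N : AddSubgroup M, (∀ h : H, ∀ n ∈ N, h • n ∈ N) → Z ≤ N → N = ⊤

section defs

variable {ι : Type*} (T : ι → Subgroup H) (Ax R : ι → AddSubgroup M)

/-- `g` is an axis. -/
def IsAx (g : AddSubgroup M) : Prop := ∃ (h : H) (i : ι), h • Ax i = g

/-- The group of the axis `g`. -/
def TT (g : AddSubgroup M) : Subgroup H :=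
  Subgroup.closure {t | ∃ (h : H) (i : ι), h • Ax i = g ∧ ∃ s ∈ T i, t = h * s * h⁻¹}

variable (H) in
/-- The commutator space of the axis `g`. -/
def YY (g : AddSubgroup M) : AddSubgroup M :=
  AddSubgroup.closure {m | ∃ (h : H) (i : ι), h • Ax i = g ∧ ∃ y ∈ R i, m = h • y}

variable (H) in
/-- Adjacency. -/
def Adj (g g' : AddSubgroup M) : Prop := ¬ YY H Ax R g ≤ g'

end defs

theorem mem_smul {g : AddSubgroup M} {h : H} {u : M} : u ∈ h • g ↔ h⁻¹ • u ∈ g :=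
  AddSubgroup.mem_pointwise_smul_iff_inv_smul_mem

theorem smul_eq_of {g : AddSubgroup M} {P : Subgroup H} (key : ∀ t ∈ P, t • g ≤ g) {t : H} (ht : t ∈ P) :
    t • g = g := by
  refine le_antisymm (key t ht) fun u hu => ?_
  rw [mem_smul]
  exact key t⁻¹ (P.inv_mem ht) (AddSubgroup.smul_mem_pointwise_smul _ _ _ hu)

theorem YY_smul {ι : Type*} {Ax R : ι → AddSubgroup M} (x : H) (g : AddSubgroup M) {m : M}
    (hm : m ∈ YY H Ax R g) : x • m ∈ YY H Ax R (x • g) := by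
  induction hm using AddSubgroup.closure_induction with
  | mem m hm =>
    obtain ⟨h, i, hg, y, hy, rfl⟩ := hm
    exact AddSubgroup.subset_closure ⟨x * h, i, by rw [mul_smul, hg], y, hy, by rw [mul_smul]⟩
  | zero => rw [smul_zero]; exact AddSubgroup.zero_mem _
  | add a b _ _ ha hb => rw [smul_add]; exact AddSubgroup.add_mem _ ha hb
  | neg a _ ha => rw [smul_neg]; exact AddSubgroup.neg_mem _ ha

theorem YY_smul_eq {ι : Type*} {Ax R : ι → AddSubgroup M} (x : H) (g : AddSubgroup M) :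
    YY H Ax R (x • g) = x • YY H Ax R g := by
  apply le_antisymm
  · intro m hm
    rw [mem_smul]
    have := YY_smul x⁻¹ _ hm
    rwa [inv_smul_smul] at this
  · intro m hm
    rw [mem_smul] at hm
    have := YY_smul x _ hm
    rwa [smul_inv_smul] at this

theorem adj_smul {ι : Type*} {Ax R : ι → AddSubgroup M} (x : H) {g g' : AddSubgroup M}
    (h : Adj H Ax R g g') : Adj H Ax R (x • g) (x • g') := by
  intro h1
  apply h
  intro u hu
  have h2 := h1 (YY_smul x g hu)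
  rwa [mem_smul, inv_smul_smul] at h2

theorem IsAx.smul {ι : Type*} {Ax : ι → AddSubgroup M} {g : AddSubgroup M} (h : IsAx (H := H) Ax g) (x : H) :
    IsAx (H := H) Ax (x • g) := by
  obtain ⟨y, i, rfl⟩ := h
  exact ⟨x * y, i, mul_smul _ _ _⟩

namespace AxData

variable {ι : Type*} [Fintype ι] {T : ι → Subgroup H} {Ax R : ι → AddSubgroup M}
  {Z : AddSubgroup M} (D : AxData T Ax R Z)
include D

omit D [Fintype ι] in
theorem isAx (Ax : ι → AddSubgroup M) (i : ι) : IsAx (H := H) Ax (Ax i) := ⟨1, i, one_smul _ _⟩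

theorem YY_le {g : AddSubgroup M} : YY H Ax R g ≤ g := by
  unfold YY
  rw [AddSubgroup.closure_le]
  rintro m ⟨h, i, rfl, y, hy, rfl⟩
  exact AddSubgroup.smul_mem_pointwise_smul _ _ _ (D.le i i hy)

omit D [Fintype ι] in
theorem R_le_YY (i : ι) : R i ≤ YY H Ax R (Ax i) := fun y hy =>
  AddSubgroup.subset_closure ⟨1, i, one_smul _ _, y, hy, (one_smul _ _).symm⟩

theorem TT_fix {g : AddSubgroup M} {t : H} (ht : t ∈ TT T Ax g) {u : M} (hu : u ∈ g) : t • u = u := by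
  induction ht using Subgroup.closure_induction with
  | mem t ht =>
    obtain ⟨h, i, hg, s, hs, rfl⟩ := ht
    rw [← hg, mem_smul] at hu
    rw [mul_smul, mul_smul, D.fix i s hs _ hu, smul_inv_smul]
  | one => rw [one_smul]
  | mul a b _ _ ha hb => rw [mul_smul, hb, ha]
  | inv a _ ha => rw [inv_smul_eq_iff, ha]

theorem TT_quad {g : AddSubgroup M} {t : H} (ht : t ∈ TT T Ax g) (u : M) :
    t • u - u ∈ YY H Ax R g := by
  induction ht using Subgroup.closure_induction generalizing u with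
  | mem t ht =>
    obtain ⟨h, i, hg, s, hs, rfl⟩ := ht
    have h1 := D.quad i s hs (h⁻¹ • u)
    have h2 : (h * s * h⁻¹) • u - u = h • (s • (h⁻¹ • u) - h⁻¹ • u) := by
      rw [mul_smul, mul_smul, smul_sub, smul_inv_smul]
    rw [h2]
    exact AddSubgroup.subset_closure ⟨h, i, hg, _, h1, rfl⟩
  | one => rw [one_smul, sub_self]; exact AddSubgroup.zero_mem _
  | mul a b _ _ ha hb =>
    have h1 : (a * b) • u - u = (a • b • u - b • u) + (b • u - u) := by rw [mul_smul]; abel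
    rw [h1]
    exact AddSubgroup.add_mem _ (ha _) (hb _)
  | inv a _ ha =>
    have h1 : a⁻¹ • u - u = -(a • (a⁻¹ • u) - a⁻¹ • u) := by rw [smul_inv_smul]; abel
    rw [h1]
    exact AddSubgroup.neg_mem _ (ha _)

/-- fullness -/
theorem TT_full {g : AddSubgroup M} {u : M} (hu : u ∉ g) {y : M} (hy : y ∈ YY H Ax R g) :
    ∃ t ∈ TT T Ax g, t • u = u + y := by
  induction hy using AddSubgroup.closure_induction with
  | mem m hm =>
    obtain ⟨h, i, hg, y, hy, rfl⟩ := hm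
    have h1 : h⁻¹ • u ∉ Ax i := by rwa [← mem_smul, hg]
    obtain ⟨s, hs, hsu⟩ := D.full i _ h1 y hy
    refine ⟨h * s * h⁻¹, Subgroup.subset_closure ⟨h, i, hg, s, hs, rfl⟩, ?_⟩
    rw [mul_smul, mul_smul, hsu, smul_add, smul_inv_smul]
  | zero => exact ⟨1, Subgroup.one_mem _, by rw [one_smul, add_zero]⟩
  | add a b _ hb ha' hb' =>
    obtain ⟨t1, ht1, h1⟩ := ha'
    obtain ⟨t2, ht2, h2⟩ := hb'
    refine ⟨t1 * t2, Subgroup.mul_mem _ ht1 ht2, ?_⟩
    rw [mul_smul, h2, smul_add, h1, D.TT_fix ht1 (D.YY_le hb), add_assoc]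
  | neg a ha ha' =>
    obtain ⟨t, ht, h1⟩ := ha'
    refine ⟨t⁻¹, Subgroup.inv_mem _ ht, ?_⟩
    rw [inv_smul_eq_iff, smul_add, smul_neg, h1, D.TT_fix ht (D.YY_le ha)]
    abel

theorem TT_invol {g : AddSubgroup M} {t : H} (ht : t ∈ TT T Ax g) (u : M) : t • t • u = u := by
  have h1 := D.TT_fix ht (D.YY_le (D.TT_quad ht u))
  rw [smul_sub] at h1
  have h2 : t • t • u = (t • u + t • u) - u := by
    rw [sub_eq_iff_eq_add] at h1
    rw [h1]
    abel
  rw [h2, D.char2, zero_sub]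
  exact neg_eq_of_add_eq_zero_left (D.char2 u)

theorem neg_eq (u : M) : -u = u := neg_eq_of_add_eq_zero_left (D.char2 u)

/-- axes are conjugate -/
theorem exists_smul {g g' : AddSubgroup M} (hg : IsAx (H := H) Ax g) (hg' : IsAx (H := H) Ax g') :
    ∃ x : H, x • g = g' := by
  obtain ⟨h, i, rfl⟩ := hg
  obtain ⟨h', j, rfl⟩ := hg'
  obtain ⟨s, hs⟩ := D.trans i j
  exact ⟨h' * s * h⁻¹, by rw [mul_smul, mul_smul, inv_smul_smul, hs]⟩

theorem card_YY {g g' : AddSubgroup M} (hg : IsAx (H := H) Ax g) (hg' : IsAx (H := H) Ax g') :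
    Nat.card (YY H Ax R g) = Nat.card (YY H Ax R g') := by
  obtain ⟨x, rfl⟩ := D.exists_smul hg hg'
  rw [YY_smul_eq]
  refine Nat.card_congr ⟨fun e => ⟨x • (e : M), AddSubgroup.smul_mem_pointwise_smul _ _ _ e.2⟩,
    fun e => ⟨x⁻¹ • (e : M), mem_smul.mp e.2⟩, fun e => ?_, fun e => ?_⟩
  · ext; simp
  · ext; simp

omit D in
theorem eq_of_le' [Finite M] {a b : AddSubgroup M} (h : a ≤ b) (hc : Nat.card b ≤ Nat.card a) : a = b := by
  apply SetLike.coe_injective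
  apply Set.eq_of_subset_of_ncard_le h
  exact hc

theorem smul_eq_of_not_adj {g g' : AddSubgroup M} (h : ¬ Adj H Ax R g' g) {t : H} (ht : t ∈ TT T Ax g') :
    t • g = g := by
  have hcon : YY H Ax R g' ≤ g := not_not.mp h
  refine smul_eq_of (P := TT T Ax g') (fun t ht u hu => ?_) ht
  rw [mem_smul] at hu
  have h1 := hcon (D.TT_quad ht (t⁻¹ • u))
  have h2 := g.add_mem h1 hu
  rwa [sub_add_cancel, smul_inv_smul] at h2

theorem adj_symm [Finite M] {g g' : AddSubgroup M} (hg : IsAx (H := H) Ax g) (hg' : IsAx (H := H) Ax g')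
    (h : Adj H Ax R g g') : Adj H Ax R g' g := by
  intro hcon
  -- `T_{g'}` normalises `g`
  have hn : ∀ t ∈ TT T Ax g', t • g = g := fun t ht => D.smul_eq_of_not_adj (not_not.mpr hcon) ht
  obtain ⟨y, hy, hyg⟩ := Set.not_subset.mp h
  have h1 : YY H Ax R g' ≤ YY H Ax R g := by
    intro e he
    obtain ⟨t, ht, hte⟩ := D.TT_full hyg he
    have h2 : t • y ∈ YY H Ax R g := by
      have := YY_smul (Ax := Ax) (R := R) t g hy
      rwa [hn t ht] at this
    rw [hte] at h2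
    have h3 := (YY H Ax R g).sub_mem h2 hy
    rwa [add_sub_cancel_left] at h3
  have h2 := eq_of_le' h1 (D.card_YY hg hg').le
  apply h
  rw [← h2]
  exact D.YY_le

/-- (5) -/
theorem five [Finite M] {g : AddSubgroup M} (hg : IsAx (H := H) Ax g) {z : M} (hz : z ∈ Z) (hz0 : z ≠ 0)
    (hzg : z ∈ g) (i : ι) : R i ≤ g := by
  by_contra hcon
  obtain ⟨r, hr, hrg⟩ := Set.not_subset.mp hcon
  have h1 : Adj H Ax R (Ax i) g := fun h => hcon ((R_le_YY i).trans h)
  obtain ⟨u, hu, hui⟩ := Set.not_subset.mp (D.adj_symm (isAx Ax i) hg h1)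
  obtain ⟨b, hb, hbr⟩ := D.TT_full hrg hu
  obtain ⟨a, ha, hau⟩ := D.full i u hui r hr
  have hbz : b • z = z := D.TT_fix hb hzg
  obtain ⟨n, hn⟩ := D.two z hz hz0 i a ha b hbz (D.TT_invol hb)
  have hbu : b • u = u := D.TT_fix hb (D.YY_le hu)
  have har : a • r = r := D.fix i a ha r (D.le i i hr)
  have hr0 : r ≠ 0 := fun h => hrg (h ▸ g.zero_mem)
  -- `ba : r ↦ r + u ↦ u ↦ ...`
  set k : H := b * a with hk
  have e1 : k • r = r + u := by rw [hk, mul_smul, har, hbr]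
  have e2 : k • u = r := by
    rw [hk, mul_smul, hau, smul_add, hbu, hbr, ← add_assoc, add_comm u r, add_assoc, D.char2, add_zero]
  have e3 : k • (r + u) = u := by
    rw [smul_add, e1, e2, add_comm r u, add_assoc, D.char2, add_zero]
  have h3 : (k ^ 3) • r = r := by
    rw [pow_succ, pow_succ, pow_one, mul_smul, mul_smul, e1, e3, e2]
  have h4 : MulAction.period k r ∣ 3 := MulAction.pow_smul_eq_iff_period_dvd.mp h3
  have h5 : MulAction.period k r ∣ 2 ^ n := MulAction.pow_smul_eq_iff_period_dvd.mp (hn r)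
  have h6 : MulAction.period k r ∣ 1 := by
    have h7 : Nat.Coprime 3 (2 ^ n) := Nat.Coprime.pow_right n (by decide)
    have h8 := Nat.dvd_gcd h4 h5
    rwa [h7] at h8
  have h7 : (k ^ 1) • r = r := MulAction.pow_smul_eq_iff_period_dvd.mpr h6
  rw [pow_one, e1] at h7
  have h8 : u = 0 := by simpa using h7
  exact hui (h8 ▸ (Ax i).zero_mem)

theorem Z_le_of {g : AddSubgroup M} (h : ∀ i, R i ≤ g) : Z ≤ g := by
  intro z hz
  by_cases h0 : z = 0
  · rw [h0]; exact g.zero_mem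
  · obtain ⟨f, hf, rfl⟩ := D.zfull z hz h0
    exact g.sum_mem fun i _ => h i (hf i).1

theorem exists_z : ∃ z ∈ Z, z ≠ 0 := by
  by_contra hcon
  push Not at hcon
  apply D.Z0
  rw [eq_bot_iff]
  intro z hz
  exact AddSubgroup.mem_bot.mpr (hcon z hz)

theorem five' [Finite M] {g : AddSubgroup M} (hg : IsAx (H := H) Ax g) (hZ : Z ≤ g) (i : ι) : R i ≤ g := by
  obtain ⟨z, hz, hz0⟩ := D.exists_z
  exact D.five hg hz hz0 (hZ hz) i

theorem five'' [Finite M] {g : AddSubgroup M} (hg : IsAx (H := H) Ax g) (t : H) (hZ : t • Z ≤ g) (i : ι) :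
    t • R i ≤ g := by
  have h1 : Z ≤ t⁻¹ • g := fun z hz => by
    rw [mem_smul, inv_inv]
    exact hZ (AddSubgroup.smul_mem_pointwise_smul _ _ _ hz)
  have h2 := D.five' (hg.smul t⁻¹) h1 i
  intro r hr
  rw [mem_smul] at hr
  have h3 := h2 hr
  rwa [mem_smul, inv_inv, smul_inv_smul] at h3

theorem Z_le_Ax (i : ι) : Z ≤ Ax i := D.Z_le_of fun j => D.le j i

theorem card_quot {g : AddSubgroup M} (hg : IsAx (H := H) Ax g) (i : ι) :
    Nat.card (M ⧸ g) = Nat.card (M ⧸ Ax i) := by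
  obtain ⟨x, rfl⟩ := D.exists_smul (isAx Ax i) hg
  exact (Nat.card_congr (QuotientAddGroup.congr (Ax i) (x • Ax i) (DistribMulAction.toAddEquiv M x)
    rfl).toEquiv).symm

/-- the common part of all axes is trivial -/
theorem exists_not_mem [Finite M] {u : M} (hu : u ≠ 0) : ∃ g, IsAx (H := H) Ax g ∧ u ∉ g := by
  by_contra hcon
  push Not at hcon
  let N : AddSubgroup M :=
    { carrier := {m | ∀ g, IsAx (H := H) Ax g → m ∈ g}
      zero_mem' := fun g _ => g.zero_mem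
      add_mem' := fun {a b} ha hb g hg => g.add_mem (ha g hg) (hb g hg)
      neg_mem' := fun {a} ha g hg => g.neg_mem (ha g hg) }
  have hNi : ∀ h : H, ∀ n ∈ N, h • n ∈ N := by
    intro h n hn g hg
    have h1 := hn (h⁻¹ • g) (hg.smul h⁻¹)
    rw [mem_smul, inv_inv] at h1
    exact h1
  have hN : N ≠ ⊥ := fun h => hu (AddSubgroup.mem_bot.mp (h ▸ (show u ∈ N from hcon)))
  obtain ⟨z, hz, hz0, hzN⟩ := D.meet N hNi hN
  have h1 : ∀ i, R i ≤ N := fun i r hr g hg => D.five hg hz hz0 (hzN g hg) i hr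
  have h2 := D.gen N hNi (D.Z_le_of h1)
  obtain ⟨f, hf, hzf⟩ := D.zfull z hz hz0
  have hι : Nonempty ι := by
    by_contra hne
    rw [not_nonempty_iff] at hne
    apply hz0
    rw [hzf, Finset.univ_eq_empty, Finset.sum_empty]
  obtain ⟨i⟩ := hι
  apply D.ne i
  rw [eq_top_iff]
  intro m _
  have : m ∈ N := by rw [h2]; trivial
  exact this _ (isAx Ax i)

/-- (6) -/
theorem six [Finite M] {g : AddSubgroup M} (hg : IsAx (H := H) Ax g) (hZ : ¬ Z ≤ g) {r : M}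
    (hr : Full R r) (hrg : r ∈ g) : False := by
  obtain ⟨z, hz, hzg⟩ := Set.not_subset.mp hZ
  have hz0 : z ≠ 0 := fun h => hzg (h ▸ g.zero_mem)
  have h1 : ∀ i, YY H Ax R g ≤ Ax i := by
    intro i y hy
    obtain ⟨t, ht, hty⟩ := D.TT_full hzg hy
    have h2 := D.noff r hr t (D.TT_fix ht hrg) z hz i
    rw [hty] at h2
    have h3 := (Ax i).sub_mem h2 (D.Z_le_Ax i hz)
    rwa [add_sub_cancel_left] at h3
  obtain ⟨f, hf, hzf⟩ := D.zfull z hz hz0
  have h2 : ∃ i, f i ∉ g := by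
    by_contra hcon
    push Not at hcon
    apply hzg
    change z ∈ g
    rw [hzf]
    exact g.sum_mem fun i _ => hcon i
  obtain ⟨i, hi⟩ := h2
  have h3 : Adj H Ax R (Ax i) g := fun h => hi (h (R_le_YY i (hf i).1))
  exact D.adj_symm (isAx Ax i) hg h3 (h1 i)

theorem six' [Finite M] {g : AddSubgroup M} (hg : IsAx (H := H) Ax g) (t : H) (hZ : ¬ t • Z ≤ g) {r : M}
    (hr : Full R r) (hrg : t • r ∈ g) : False := by
  refine D.six (hg.smul t⁻¹) (fun h => hZ ?_) hr ?_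
  · intro z hz
    rw [mem_smul] at hz
    have h3 := h hz
    rwa [mem_smul, inv_inv, smul_inv_smul] at h3
  · rw [mem_smul, inv_inv]
    exact hrg

theorem ne_zero_of_big (i : ι) (r : M) : ∃ c ∈ R i, c ≠ 0 ∧ c ≠ r := by
  classical
  by_contra hcon
  push Not at hcon
  have h1 : ((R i : AddSubgroup M) : Set M) ⊆ ({0, r} : Set M) := by
    intro c hc
    by_cases h0 : c = 0
    · exact Or.inl h0
    · exact Or.inr (hcon c hc h0)
  have h2 : Nat.card (R i) ≤ 2 := by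
    have h3 := Set.ncard_le_ncard h1 (Set.toFinite _)
    have h4 : ({0, r} : Set M).ncard ≤ 2 := by
      have h5 := Set.ncard_insert_le (0 : M) {r}
      rwa [Set.ncard_singleton] at h5
    exact h3.trans h4
  exact absurd (D.big i) (by omega)

/-- (7), first part -/
theorem seven [Finite M] {g : AddSubgroup M} (hg : IsAx (H := H) Ax g) (hZ : ¬ Z ≤ g) :
    ∃ i, ∀ r ∈ R i, r ∈ g → r = 0 := by
  by_contra hcon
  push Not at hcon
  choose f h1 h2 h3 using hcon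
  exact D.six hg hZ ⟨f, fun i => ⟨h1 i, h3 i⟩, rfl⟩ (g.sum_mem fun i _ => h2 i)

theorem inj_surj [Finite M] {g : AddSubgroup M} (hg : IsAx (H := H) Ax g) {i : ι}
    (h : ∀ r ∈ R i, r ∈ g → r = 0) :
    Nat.card (M ⧸ g) = Nat.card (R i) ∧ ∀ u : M, ∃ r ∈ R i, r + u ∈ g := by
  let φ : R i → M ⧸ g := fun r => QuotientAddGroup.mk (r : M)
  have hinj : Function.Injective φ := by
    intro a b hab
    have h1 : -(a : M) + b ∈ g := QuotientAddGroup.eq.mp hab
    have h2 := h _ ((R i).add_mem ((R i).neg_mem a.2) b.2) h1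
    exact Subtype.ext (neg_add_eq_zero.mp h2)
  have hbij : Function.Bijective φ := by
    refine hinj.bijective_of_nat_card_le ?_
    rw [D.card_quot hg i]
    exact D.card i i
  refine ⟨(Nat.card_congr (Equiv.ofBijective φ hbij)).symm, fun u => ?_⟩
  obtain ⟨r, hr⟩ := hbij.2 (QuotientAddGroup.mk u)
  have h1 : -(r : M) + u ∈ g := QuotientAddGroup.eq.mp hr
  rw [D.neg_eq] at h1
  exact ⟨r, r.2, h1⟩

/-- (7), second part -/
theorem others [Finite M] {g : AddSubgroup M} (hg : IsAx (H := H) Ax g) (hZ : ¬ Z ≤ g) {i : ι}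
    (h : ∀ r ∈ R i, r ∈ g → r = 0) {l : ι} (hl : l ≠ i) : R l ≤ g := by
  classical
  -- nonzero vectors
  have hx : ∀ m, ∃ x ∈ R m, x ≠ 0 := fun m => by
    obtain ⟨c, hc, hc0, -⟩ := D.ne_zero_of_big m 0
    exact ⟨c, hc, hc0⟩
  choose x hxR hx0 using hx
  obtain ⟨-, hs⟩ := D.inj_surj hg h
  let ρ : M → M := fun d => d + ∑ m ∈ (Finset.univ.erase l).erase i, x m
  have key : ∀ d ∈ R l, d ≠ 0 → ρ d ∈ g := by
    intro d hd hd0
    obtain ⟨s, hsR, hsg⟩ := hs (ρ d)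
    by_cases hs0 : s = 0
    · rwa [hs0, zero_add] at hsg
    · exfalso
      refine D.six hg hZ ⟨fun m => if m = i then s else if m = l then d else x m, fun m => ?_, ?_⟩ hsg
      · by_cases h1 : m = i
        · subst h1; simp only [if_true]; exact ⟨hsR, hs0⟩
        · by_cases h2 : m = l
          · subst h2; simp only [if_neg h1, if_true]; exact ⟨hd, hd0⟩
          · simp only [if_neg h1, if_neg h2]; exact ⟨hxR m, hx0 m⟩
      · have hiu : i ∈ Finset.univ.erase l := Finset.mem_erase.mpr ⟨hl.symm, Finset.mem_univ _⟩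
        rw [← Finset.add_sum_erase Finset.univ _ (Finset.mem_univ l), ← Finset.add_sum_erase _ _ hiu]
        simp only [if_true, if_neg hl]
        have h1 : ∑ m ∈ (Finset.univ.erase l).erase i, (if m = i then s else if m = l then d else x m)
            = ∑ m ∈ (Finset.univ.erase l).erase i, x m := by
          refine Finset.sum_congr rfl fun m hm => ?_
          rw [Finset.mem_erase, Finset.mem_erase] at hm
          rw [if_neg hm.1, if_neg hm.2.1]
        rw [h1]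
        change s + (d + _) = d + (s + _)
        abel
  intro r hr
  by_cases hr0 : r = 0
  · rw [hr0]; exact g.zero_mem
  obtain ⟨c, hc, hc0, hcr⟩ := D.ne_zero_of_big l r
  have h1 := key c hc hc0
  have h2 := key (c + r) ((R l).add_mem hc hr) (fun h0 => hcr (by
    rw [← D.neg_eq r]; exact eq_neg_of_add_eq_zero_left h0))
  have h3 := g.sub_mem h2 h1
  have h4 : ρ (c + r) - ρ c = r := by
    change (c + r + _) - (c + _) = r
    abel
  rwa [h4] at h3

/-- (7): the axes not containing `R i`. -/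
theorem spec [Finite M] {g : AddSubgroup M} (hg : IsAx (H := H) Ax g) {i : ι} (hi : ¬ R i ≤ g) :
    (¬ Z ≤ g) ∧ (∀ l, l ≠ i → R l ≤ g) ∧ Nat.card (M ⧸ g) = Nat.card (R i) ∧
      (∀ u : M, ∃ r ∈ R i, r + u ∈ g) := by
  have hZ : ¬ Z ≤ g := fun h => hi (D.five' hg h i)
  obtain ⟨j, hj⟩ := D.seven hg hZ
  have hji : j = i := by
    by_contra hne
    exact hi (D.others hg hZ hj (fun h => hne h.symm))
  subst hji
  exact ⟨hZ, fun l hl => D.others hg hZ hj hl, D.inj_surj hg hj⟩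

theorem exists_index [Finite M] {g : AddSubgroup M} (hZ : ¬ Z ≤ g) : ∃ i, ¬ R i ≤ g := by
  by_contra hcon
  push Not at hcon
  exact hZ (D.Z_le_of hcon)

/-- (8), no edges between different `NN`. -/
theorem eight [Finite M] {g g' : AddSubgroup M} (hg : IsAx (H := H) Ax g) (hg' : IsAx (H := H) Ax g')
    {i j : ι} (hi : ¬ R i ≤ g) (hj : ¬ R j ≤ g') (hij : i ≠ j) : ¬ Adj H Ax R g g' := by
  classical
  intro hadj
  obtain ⟨y, hy, hyg⟩ := Set.not_subset.mp hadj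
  obtain ⟨-, h1, -, -⟩ := D.spec hg hi
  obtain ⟨-, h2, -, h3⟩ := D.spec hg' hj
  obtain ⟨s, hsR, hsg⟩ := h3 y
  have hs0 : s ≠ 0 := by
    rintro rfl
    rw [zero_add] at hsg
    exact hyg hsg
  obtain ⟨a, haR, hag⟩ := Set.not_subset.mp hi
  have ha0 : a ≠ 0 := fun h => hag (h ▸ g.zero_mem)
  obtain ⟨t, ht, hta⟩ := D.TT_full hag hy
  have hx : ∀ m, ∃ x ∈ R m, x ≠ 0 := fun m => by
    obtain ⟨c, hc, hc0, -⟩ := D.ne_zero_of_big m 0
    exact ⟨c, hc, hc0⟩
  choose x hxR hx0 using hx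
  let f : ι → M := fun m => if m = i then a else if m = j then s else x m
  have hfi : f i = a := if_pos rfl
  have hfj : f j = s := by
    change (if j = i then a else if j = j then s else x j) = s
    rw [if_neg hij.symm, if_pos rfl]
  have hf : ∀ m, f m ∈ R m ∧ f m ≠ 0 := by
    intro m
    by_cases e1 : m = i
    · subst e1; rw [hfi]; exact ⟨haR, ha0⟩
    · by_cases e2 : m = j
      · subst e2; rw [hfj]; exact ⟨hsR, hs0⟩
      · have : f m = x m := by
          change (if m = i then a else if m = j then s else x m) = x m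
          rw [if_neg e1, if_neg e2]
        rw [this]
        exact ⟨hxR m, hx0 m⟩
  have hsum : t • (∑ m, f m) = (∑ m ∈ Finset.univ.erase j, f m) + (s + y) := by
    rw [← Finset.add_sum_erase Finset.univ f (Finset.mem_univ i), smul_add, hfi, hta, Finset.smul_sum]
    have e1 : ∑ m ∈ Finset.univ.erase i, t • f m = ∑ m ∈ Finset.univ.erase i, f m := by
      refine Finset.sum_congr rfl fun m hm => ?_
      rw [Finset.mem_erase] at hm
      exact D.TT_fix ht (h1 m hm.1 (hf m).1)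
    rw [e1]
    have e2 : a + ∑ m ∈ Finset.univ.erase i, f m = s + ∑ m ∈ Finset.univ.erase j, f m := by
      rw [← hfi, Finset.add_sum_erase Finset.univ f (Finset.mem_univ i), ← hfj,
        Finset.add_sum_erase Finset.univ f (Finset.mem_univ j)]
    have e3 : a + y + ∑ m ∈ Finset.univ.erase i, f m = (a + ∑ m ∈ Finset.univ.erase i, f m) + y := by abel
    rw [e3, e2]
    abel
  have hmem : t • (∑ m, f m) ∈ g' := by
    rw [hsum]
    refine g'.add_mem (g'.sum_mem fun m hm => ?_) hsg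
    rw [Finset.mem_erase] at hm
    exact h2 m hm.1 (hf m).1
  have hZ : t • Z ≤ g' := by
    by_contra hZ
    exact D.six' hg' t hZ ⟨f, hf, rfl⟩ hmem
  have h4 := D.five'' hg' t hZ j
  apply hj
  intro r hr
  have h5 := h4 (AddSubgroup.smul_mem_pointwise_smul _ t _ hr)
  rwa [D.TT_fix ht (h1 j hij.symm hr)] at h5

omit D in
/-- the union of components `CC i` -/
def CC (H : Type*) [Group H] {M : Type*} [AddCommGroup M] [DistribMulAction H M] {ι : Type*}
    (Ax R : ι → AddSubgroup M) (Z : AddSubgroup M) (i : ι) (g : AddSubgroup M) : Prop :=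
  IsAx (H := H) Ax g ∧ (¬ R i ≤ g ∨ (Z ≤ g ∧ ∃ g2, IsAx (H := H) Ax g2 ∧ ¬ R i ≤ g2 ∧ Adj H Ax R g g2))

/-- `CC i` is closed under adjacency -/
theorem CC_adj [Finite M] {i : ι} {g g' : AddSubgroup M} (h : CC H Ax R Z i g) (hg' : IsAx (H := H) Ax g')
    (hadj : Adj H Ax R g g') : CC H Ax R Z i g' := by
  obtain ⟨hg, h⟩ := h
  have hadj' := D.adj_symm hg hg' hadj
  refine ⟨hg', ?_⟩
  rcases h with h | ⟨hZ, g2, hg2, hi2, ha2⟩
  · by_cases hZ' : Z ≤ g'
    · exact Or.inr ⟨hZ', g, hg, h, hadj'⟩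
    · left
      obtain ⟨j, hj⟩ := D.exists_index hZ'
      by_cases hij : i = j
      · rwa [hij]
      · exact absurd hadj (D.eight hg hg' h hj hij)
  · -- move `g` into `NN i`
    obtain ⟨hZ2, hl2, -, -⟩ := D.spec hg2 hi2
    obtain ⟨z, hz, hz2⟩ := Set.not_subset.mp hZ2
    obtain ⟨y, hy, hyg⟩ := Set.not_subset.mp (D.adj_symm hg hg2 ha2)
    obtain ⟨t, ht, htz⟩ := D.TT_full hz2 hy
    have hz1 : ¬ Z ≤ t⁻¹ • g := by
      intro h1
      have h2 := h1 hz
      rw [mem_smul, inv_inv, htz] at h2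
      have h3 := g.sub_mem h2 (hZ hz)
      rw [add_sub_cancel_left] at h3
      exact hyg h3
    have hg1 : IsAx (H := H) Ax (t⁻¹ • g) := hg.smul _
    have hi1 : ¬ R i ≤ t⁻¹ • g := by
      obtain ⟨j, hj⟩ := D.exists_index hz1
      by_cases hij : j = i
      · rwa [← hij]
      · exfalso
        apply hj
        intro r hr
        rw [mem_smul, inv_inv, D.TT_fix ht (hl2 j hij hr)]
        exact D.five' hg hZ j hr
    -- a neighbour `g'` with `g'` not adjacent to `g2` is fixed by `t`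
    have hfix : ¬ Adj H Ax R g2 g' → Adj H Ax R (t⁻¹ • g) g' := by
      intro h1
      have h2 := D.smul_eq_of_not_adj h1 (Subgroup.inv_mem _ ht)
      have h3 := adj_smul t⁻¹ hadj
      rwa [h2] at h3
    by_cases hZ' : Z ≤ g'
    · right
      refine ⟨hZ', ?_⟩
      by_cases h1 : Adj H Ax R g2 g'
      · exact ⟨g2, hg2, hi2, D.adj_symm hg2 hg' h1⟩
      · exact ⟨t⁻¹ • g, hg1, hi1, D.adj_symm hg1 hg' (hfix h1)⟩
    · left
      obtain ⟨j, hj⟩ := D.exists_index hZ'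
      by_cases hij : i = j
      · rwa [hij]
      · exact absurd (hfix (D.eight hg2 hg' hi2 hj hij)) (D.eight hg1 hg' hi1 hj hij)

theorem CC_disj [Finite M] {i j : ι} {g : AddSubgroup M} (hi : CC H Ax R Z i g) (hj : CC H Ax R Z j g) :
    i = j := by
  by_contra hij
  rcases hj.2 with h2 | ⟨hZ, g3, hg3, hi3, ha3⟩
  · rcases hi.2 with h1 | ⟨hZ, -⟩
    · exact h2 ((D.spec hi.1 h1).2.1 j (fun h => hij h.symm))
    · exact h2 (D.five' hi.1 hZ j)
  · have h1 := D.CC_adj hi hg3 ha3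
    rcases h1.2 with h2 | ⟨hZ3, -⟩
    · exact hi3 ((D.spec hg3 h2).2.1 j (fun h => hij h.symm))
    · exact hi3 (D.five' hg3 hZ3 j)

theorem exists_NN [Finite M] (i : ι) : ∃ g, IsAx (H := H) Ax g ∧ ¬ R i ≤ g := by
  obtain ⟨c, hc, hc0, -⟩ := D.ne_zero_of_big i 0
  obtain ⟨g, hg, hcg⟩ := D.exists_not_mem hc0
  exact ⟨g, hg, fun h => hcg (h hc)⟩

theorem CC_self [Finite M] (i : ι) : CC H Ax R Z i (Ax i) := by
  refine ⟨isAx Ax i, Or.inr ⟨D.Z_le_Ax i, ?_⟩⟩
  obtain ⟨g, hg, hi⟩ := D.exists_NN i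
  exact ⟨g, hg, hi, fun h => hi ((R_le_YY i).trans h)⟩

theorem card_eq [Finite M] (i j : ι) : Nat.card (M ⧸ Ax j) = Nat.card (R i) := by
  obtain ⟨g, hg, hi⟩ := D.exists_NN i
  rw [← (D.spec hg hi).2.2.1, D.card_quot hg j]

/-- **THEOREM EXACT**, abstract form. -/
theorem exact [Finite M] (i : ι) (u : M) : ∃ v : M, (∀ l, l ≠ i → v ∈ Ax l) ∧ v + u ∈ Ax i := by
  obtain ⟨g, hg, hi⟩ := D.exists_NN i
  have h1 : Adj H Ax R (Ax i) g := fun h => hi ((R_le_YY i).trans h)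
  have h2 := D.adj_symm (isAx Ax i) hg h1
  -- a conjugate of some `R j` in `YY g`, not contained in `Ax i`
  have h3 : ∃ (h : H) (j : ι), h • Ax j = g ∧ ¬ h • R j ≤ Ax i := by
    by_contra hcon
    push Not at hcon
    apply h2
    unfold YY
    rw [AddSubgroup.closure_le]
    rintro m ⟨h, j, hg, y, hy, rfl⟩
    exact hcon h j hg (AddSubgroup.smul_mem_pointwise_smul _ _ _ hy)
  obtain ⟨h, j, hgj, hj⟩ := h3
  have h4 : ¬ R j ≤ h⁻¹ • Ax i := by
    intro h5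
    apply hj
    intro m hm
    rw [mem_smul] at hm
    have h6 := h5 hm
    rwa [mem_smul, inv_inv, smul_inv_smul] at h6
  obtain ⟨-, -, -, h5⟩ := D.spec ((isAx Ax i).smul h⁻¹) h4
  obtain ⟨r, hr, hru⟩ := h5 (h⁻¹ • u)
  refine ⟨h • r, fun l hl => ?_, ?_⟩
  · have h6 : h • r ∈ YY H Ax R g := AddSubgroup.subset_closure ⟨h, j, hgj, r, hr, rfl⟩
    by_contra h7
    have h8 : Adj H Ax R g (Ax l) := fun h => h7 (h h6)
    have h9 := D.CC_adj (i := i) ⟨hg, Or.inl hi⟩ (isAx Ax l) h8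
    exact hl (D.CC_disj (D.CC_self l) h9)
  · rw [mem_smul, inv_inv, smul_add, smul_inv_smul] at hru
    exact hru

end AxData

end Cfsg.Agent.Omega.NOThreeL.ThmAx

end

section


/-!
# NO-3L, box R, case (A), `q > 2` (#19602, helper797): (F'), the graph of axes, (P), (M), (2)

`AxSys A TT YY` : `H` acts on the finite elementary abelian 2-group `M`; `A` is a set of subgroups ("axes") of `M`,
permuted transitively by `H`; `TT g` centralises `g`, `[M, TT g] ≤ YY g ≤ g`, and `[u, TT g] = YY g` for `u ∉ g`.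
`g ~ g'` if `YY g ≰ g'`.  For a component `c = Cp K`: `N_c = NC K`, `U_c = UC K`.

Let `z` be fixed by a Sylow 2-subgroup of `H`, `H = N C_H(z)`, and not fixed by `N`.  Then:
* `Sit.inf` : `u ∈ U_c` and `u ∈ g` for all `g ∈ c` implies `u = 0`;
* `Sit.orbit` : the `N_c`-orbit of `z` is `(z + U_c) - I_c`;
* `Sit.mem` : `z ∈ U_c + I_c`; **`Sit.trans`** : `N_c` is transitive on `U_c - {0}`;
* `Sit.mem_all` : `z ∈ [M, N] + C_M(N)`.
-/

set_option autoImplicit false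
set_option linter.unusedSectionVars false

namespace Cfsg.Agent.Omega.NOThreeL.RBig.Trans

open Subgroup
open Cfsg.Agent.Omega.NOThreeL.ThmAx (mem_smul smul_eq_of)
open scoped Pointwise

variable {H M : Type*} [Group H] [AddCommGroup M] [DistribMulAction H M]

/-- The axis system. -/
structure AxSys (A : Set (AddSubgroup M)) (TT : AddSubgroup M → Subgroup H) (YY : AddSubgroup M → AddSubgroup M) :
    Prop where
  char2 : ∀ m : M, m + m = 0
  inv : ∀ x : H, ∀ g ∈ A, x • g ∈ A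
  conjT : ∀ x : H, ∀ g ∈ A, ∀ t ∈ TT g, x * t * x⁻¹ ∈ TT (x • g)
  conjY : ∀ x : H, ∀ g ∈ A, YY (x • g) = x • YY g
  le : ∀ g ∈ A, YY g ≤ g
  fix : ∀ g ∈ A, ∀ t ∈ TT g, ∀ u ∈ g, t • u = u
  quad : ∀ g ∈ A, ∀ t ∈ TT g, ∀ u : M, t • u + u ∈ YY g
  full : ∀ g ∈ A, ∀ u : M, u ∉ g → ∀ y ∈ YY g, ∃ t ∈ TT g, t • u = u + y
  symm : ∀ g ∈ A, ∀ g' ∈ A, ¬ YY g ≤ g' → ¬ YY g' ≤ g
  big : ∀ g ∈ A, ∀ r : M, ∃ s ∈ YY g, s ≠ 0 ∧ s ≠ r
  trans : ∀ g ∈ A, ∀ g' ∈ A, ∃ x : H, x • g = g'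

section defs

variable (A : Set (AddSubgroup M)) (TT : AddSubgroup M → Subgroup H) (YY : AddSubgroup M → AddSubgroup M)

/-- a walk of length `n` -/
inductive Walk : ℕ → AddSubgroup M → AddSubgroup M → Prop
  | zero (g : AddSubgroup M) (hg : g ∈ A) : Walk 0 g g
  | step {n : ℕ} {k g g' : AddSubgroup M} (h : Walk n k g) (hg' : g' ∈ A) (ha : ¬ YY g ≤ g') : Walk (n + 1) k g'

/-- the component of `K` -/
def Cp (K : AddSubgroup M) : Set (AddSubgroup M) := {g | ∃ n, Walk A YY n K g}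

/-- `N_c` -/
def NC (K : AddSubgroup M) : Subgroup H := ⨆ g ∈ Cp A YY K, TT g

/-- `U_c` -/
def UC (K : AddSubgroup M) : AddSubgroup M := ⨆ g ∈ Cp A YY K, YY g

/-- `N` -/
def NN : Subgroup H := ⨆ g ∈ A, TT g

end defs

namespace AxSys

variable {A : Set (AddSubgroup M)} {TT : AddSubgroup M → Subgroup H} {YY : AddSubgroup M → AddSubgroup M}
  (D : AxSys A TT YY) {g g' K : AddSubgroup M}
include D

theorem neg_eq (u : M) : -u = u := neg_eq_of_add_eq_zero_left (D.char2 u)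

theorem add_add_self (u v : M) : u + v + v = u := by rw [add_assoc, D.char2, add_zero]

theorem mem_iff (hg : g ∈ A) {u : M} : u ∈ g ↔ ∀ t ∈ TT g, t • u = u := by
  constructor
  · exact fun hu t ht => D.fix g hg t ht u hu
  · intro h
    by_contra hu
    obtain ⟨s, hs, hs0, -⟩ := D.big g hg 0
    obtain ⟨t, ht, htu⟩ := D.full g hg u hu s hs
    rw [h t ht] at htu
    exact hs0 (left_eq_add.1 htu)

/-- `g' ≁ g`: `T_{g'}` normalises `g` -/
theorem smul_eq (hg' : g' ∈ A) (h : YY g' ≤ g) {t : H} (ht : t ∈ TT g') : t • g = g := by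
  refine smul_eq_of (P := TT g') (fun t ht u hu => ?_) ht
  rw [mem_smul] at hu
  have h1 := h (D.quad g' hg' t ht (t⁻¹ • u))
  have h2 := g.add_mem h1 hu
  rwa [D.add_add_self, smul_inv_smul] at h2

theorem self_smul (hg : g ∈ A) {t : H} (ht : t ∈ TT g) : t • g = g := D.smul_eq hg (D.le g hg) ht

theorem walk_mem' {n : ℕ} (h : Walk A YY n K g) : K ∈ A ∧ g ∈ A := by
  induction h with
  | zero g hg => exact ⟨hg, hg⟩
  | step _ hg' _ ih => exact ⟨ih.1, hg'⟩

theorem walk_smul (x : H) {n : ℕ} (h : Walk A YY n K g) : Walk A YY n (x • K) (x • g) := by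
  induction h with
  | zero g hg => exact Walk.zero _ (D.inv x _ hg)
  | step h' hg' ha ih =>
    refine Walk.step ih (D.inv x _ hg') fun h1 => ha fun u hu => ?_
    have h2 := (D.walk_mem' h').2
    rw [D.conjY x _ h2] at h1
    have h3 := h1 (AddSubgroup.smul_mem_pointwise_smul u x _ hu)
    rwa [mem_smul, inv_smul_smul] at h3

omit D in
theorem walk_trans {m n : ℕ} (h1 : Walk A YY m K g) (h2 : Walk A YY n g g') : Walk A YY (m + n) K g' := by
  induction h2 with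
  | zero g hg => exact h1
  | step _ hg' ha ih => exact Walk.step (ih h1) hg' ha

theorem walk_symm {n : ℕ} (h : Walk A YY n K g) : ∃ m, Walk A YY m g K := by
  induction h with
  | zero g hg => exact ⟨0, Walk.zero _ hg⟩
  | @step n k g g' h' hg' ha ih =>
    obtain ⟨m, hm⟩ := ih
    have h2 := (D.walk_mem' h').2
    exact ⟨_, walk_trans (Walk.step (Walk.zero _ hg') h2 (D.symm _ h2 _ hg' ha)) hm⟩

theorem mem_A (h : g ∈ Cp A YY K) : g ∈ A := by
  obtain ⟨n, hn⟩ := h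
  exact (D.walk_mem' hn).2

omit D in
theorem self_mem (hK : K ∈ A) : K ∈ Cp A YY K := ⟨0, Walk.zero _ hK⟩

theorem Cp_eq (h : g ∈ Cp A YY K) : Cp A YY g = Cp A YY K := by
  obtain ⟨n, hn⟩ := h
  obtain ⟨m, hm⟩ := D.walk_symm hn
  ext k
  constructor
  · rintro ⟨l, hl⟩
    exact ⟨_, walk_trans hn hl⟩
  · rintro ⟨l, hl⟩
    exact ⟨_, walk_trans hm hl⟩

omit D in
theorem adj_mem (hK : K ∈ A) (hg : g ∈ A) (h : ¬ YY K ≤ g) : g ∈ Cp A YY K :=
  ⟨1, Walk.step (Walk.zero _ hK) hg h⟩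

theorem le_of_not_mem (hK : K ∈ A) (hg : g ∈ A) (h : g ∉ Cp A YY K) : YY K ≤ g := by
  by_contra h1
  exact h (adj_mem hK hg h1)

theorem smul_Cp (x : H) : Cp A YY (x • K) = {g | x⁻¹ • g ∈ Cp A YY K} := by
  ext g
  constructor
  · rintro ⟨n, hn⟩
    have h1 := D.walk_smul x⁻¹ hn
    rw [inv_smul_smul] at h1
    exact ⟨n, h1⟩
  · rintro ⟨n, hn⟩
    have h1 := D.walk_smul x hn
    rw [smul_inv_smul] at h1
    exact ⟨n, h1⟩

/-- `N` fixes the components -/
theorem NN_Cp (hK : K ∈ A) {n : H} (hn : n ∈ NN A TT) : n • K ∈ Cp A YY K := by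
  -- the set of `n` fixing all components
  have key : ∀ n ∈ NN A TT, ∀ K ∈ A, n • K ∈ Cp A YY K := by
    let X : Subgroup H :=
      { carrier := {n | ∀ K ∈ A, n • K ∈ Cp A YY K}
        one_mem' := fun K hK => by
          rw [one_smul]
          exact self_mem hK
        mul_mem' := fun {a b} ha hb K hK => by
          have h1 := ha _ (D.inv b K hK)
          rw [← mul_smul, D.Cp_eq (hb K hK)] at h1
          exact h1
        inv_mem' := fun {a} ha K hK => by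
          have h1 := ha _ (D.inv a⁻¹ K hK)
          rw [smul_inv_smul] at h1
          rw [D.Cp_eq h1]
          exact self_mem (D.inv a⁻¹ K hK) }
    have h : NN A TT ≤ X := iSup₂_le fun g hg t ht K hK => by
      by_cases h1 : YY g ≤ K
      · rw [D.smul_eq hg h1 ht]
        exact self_mem hK
      · have h2 := D.symm _ hg _ hK h1
        have h3 : ¬ YY g ≤ t • K := fun h3 => h1 fun u hu => by
          have h4 := h3 (show t • u ∈ YY g from ?_)
          · rwa [mem_smul, inv_smul_smul] at h4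
          · have h5 := D.conjY t g hg
            rw [D.self_smul hg ht] at h5
            rw [h5]
            exact AddSubgroup.smul_mem_pointwise_smul u t _ hu
        exact ⟨_, Walk.step (Walk.step (Walk.zero _ hK) hg h2) (D.inv t K hK) h3⟩
    exact fun n hn => h hn
  exact key n hn K hK

theorem TT_le_NC (h : g ∈ Cp A YY K) : TT g ≤ NC A TT YY K := le_iSup₂_of_le g h le_rfl

theorem NC_le_NN : NC A TT YY K ≤ NN A TT := iSup₂_le fun g hg => le_iSup₂_of_le g (D.mem_A hg) le_rfl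

omit D in
theorem YY_le_UC (h : g ∈ Cp A YY K) : YY g ≤ UC A YY K := le_iSup₂_of_le g h le_rfl

/-- **(P)** -/
theorem P {y : M} (hK : K ∈ A) (hy : y ∈ K) (h : ∀ g ∈ A, ¬ YY K ≤ g → y ∈ g) : ∀ g ∈ Cp A YY K, y ∈ g := by
  have key : ∀ n g, Walk A YY n K g → y ∈ g := by
    intro n
    induction n using Nat.strong_induction_on with
    | _ n ih =>
      intro g hg
      by_contra hyg
      cases hg with
      | zero => exact hyg hy
      | @step m _ g₁ _ hg₁ hgA ha =>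
        have hg₁A := (D.walk_mem' hg₁).2
        have hns : YY K ≤ g := by
          by_contra h1
          exact hyg (h g hgA h1)
        have hsn : YY g ≤ K := by
          by_contra h1
          exact D.symm _ hgA _ hK h1 hns
        -- `T_g` fixes `K`
        have h2 : ∀ t ∈ TT g, y ∈ t • g₁ := by
          intro t ht
          have h3 := D.walk_smul t hg₁
          rw [D.smul_eq hgA hsn ht] at h3
          exact ih m (Nat.lt_succ_self m) _ h3
        refine D.symm _ hg₁A _ hgA ha fun w hw => ?_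
        obtain ⟨t, ht, htw⟩ := D.full g hgA y hyg w hw
        have h4 := h2 t⁻¹ (inv_mem ht)
        rw [mem_smul, inv_inv] at h4
        have h5 := h2 1 (one_mem _)
        rw [one_smul] at h5
        have h6 := g₁.add_mem h4 h5
        rw [htw, add_comm y w, D.add_add_self] at h6
        exact h6
  rintro g ⟨n, hn⟩
  exact key n g hn

/-- Some `N_c`-conjugate of `u` is outside `K`. -/
theorem exists_not_mem {u : M} (hK : K ∈ A) {g₀ : AddSubgroup M} (hg₀ : g₀ ∈ Cp A YY K) (hu : u ∉ g₀) :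
    ∃ n ∈ NC A TT YY K, n • u ∉ K := by
  by_contra hcon
  push Not at hcon
  have h1 : ∀ g ∈ A, ¬ YY K ≤ g → ∀ n ∈ NC A TT YY K, n • u ∈ g := by
    intro g hg hadj n hn
    by_contra hng
    refine D.symm _ hK _ hg hadj fun w hw => ?_
    obtain ⟨t, ht, htw⟩ := D.full g hg _ hng w hw
    have h2 := hcon (t * n) (mul_mem (D.TT_le_NC (adj_mem hK hg hadj) ht) hn)
    rw [mul_smul, htw] at h2
    have h3 := K.add_mem h2 (hcon n hn)
    rwa [add_comm (n • u) w, D.add_add_self] at h3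
  refine hu (D.P hK ?_ (fun g hg hadj => ?_) g₀ hg₀)
  · have := hcon 1 (one_mem _)
    rwa [one_smul] at this
  · have := h1 g hg hadj 1 (one_mem _)
    rwa [one_smul] at this

/-- fixed by `N` -/
theorem fixed_iff {u : M} : (∀ g ∈ A, u ∈ g) ↔ ∀ n ∈ NN A TT, n • u = u := by
  constructor
  · intro h n hn
    have : NN A TT ≤ MulAction.stabilizer H u := iSup₂_le fun g hg t ht => D.fix g hg t ht u (h g hg)
    exact this hn
  · intro h g hg
    rw [D.mem_iff hg]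
    exact fun t ht => h t ((le_iSup₂_of_le g hg le_rfl : TT g ≤ NN A TT) ht)

theorem NC_fix {u : M} (h : ∀ g ∈ Cp A YY K, u ∈ g) {n : H} (hn : n ∈ NC A TT YY K) : n • u = u := by
  have : NC A TT YY K ≤ MulAction.stabilizer H u := iSup₂_le fun g hg t ht => D.fix g (D.mem_A hg) t ht u (h g hg)
  exact this hn

/-- `N_c` moves by `U_c` -/
theorem NC_quad {n : H} (hn : n ∈ NC A TT YY K) : ∀ u : M, n • u + u ∈ UC A YY K := by
  have key : ∀ g ∈ Cp A YY K, ∀ t ∈ TT g, ∀ u : M, t • u + u ∈ UC A YY K := fun g hg t ht u =>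
    YY_le_UC hg (D.quad g (D.mem_A hg) t ht u)
  let X : Subgroup H :=
    { carrier := {n | ∀ u : M, n • u + u ∈ UC A YY K}
      one_mem' := fun u => by
        rw [one_smul, D.char2]
        exact zero_mem _
      mul_mem' := fun {a b} ha hb u => by
        have h1 := add_mem (ha (b • u)) (hb u)
        rw [← add_assoc, D.add_add_self] at h1
        rwa [mul_smul]
      inv_mem' := fun {a} ha u => by
        have h1 := ha (a⁻¹ • u)
        rw [smul_inv_smul, add_comm] at h1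
        exact h1 }
  exact (iSup₂_le fun g hg t ht u => key g hg t ht u : NC A TT YY K ≤ X) hn

/-- `U_c ≤ g` for `g ∉ c` -/
theorem UC_le (hg : g ∈ A) (h : g ∉ Cp A YY K) : UC A YY K ≤ g := by
  refine iSup₂_le fun k hk => ?_
  refine D.le_of_not_mem (D.mem_A hk) hg ?_
  rwa [D.Cp_eq hk]

theorem NN_normal : (NN A TT).Normal := by
  refine ⟨fun n hn x => ?_⟩
  have h1 : NN A TT ≤ (NN A TT).comap (MulAut.conj x).toMonoidHom := iSup₂_le fun g hg t ht =>
    (le_iSup₂_of_le (x • g) (D.inv x g hg) le_rfl : TT (x • g) ≤ NN A TT) (D.conjT x g hg t ht)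
  exact h1 hn

theorem NC_eq (h : g ∈ Cp A YY K) : NC A TT YY g = NC A TT YY K := by rw [NC, NC, D.Cp_eq h]

theorem UC_eq (h : g ∈ Cp A YY K) : UC A YY g = UC A YY K := by rw [UC, UC, D.Cp_eq h]

/-- `N_c ⊴ N` -/
theorem NN_norm_NC : NN A TT ≤ normalizer (NC A TT YY K : Set H) := by
  have key : ∀ n ∈ NN A TT, ∀ m ∈ NC A TT YY K, n * m * n⁻¹ ∈ NC A TT YY K := by
    intro n hn m hm
    have h1 : NC A TT YY K ≤ (NC A TT YY K).comap (MulAut.conj n).toMonoidHom := by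
      refine iSup₂_le fun g hg t ht => ?_
      have h2 := D.NN_Cp (D.mem_A hg) hn
      rw [D.Cp_eq hg] at h2
      exact D.TT_le_NC h2 (D.conjT n g (D.mem_A hg) t ht)
    exact h1 hm
  intro n hn
  rw [mem_normalizer_iff]
  refine fun m => ⟨key n hn m, fun h => ?_⟩
  have := key n⁻¹ (inv_mem hn) _ h
  have e : n⁻¹ * (n * m * n⁻¹) * n⁻¹⁻¹ = m := by group
  rwa [e] at this

end AxSys

theorem relIndex_sup_of_normalizes [Finite H] {S K : Subgroup H} (hK : S ≤ normalizer (K : Set H)) :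
    S.relIndex K = S.relIndex (S ⊔ K) := by
  set J := S ⊔ K with hJ
  have hJN : J ≤ normalizer (K : Set H) := sup_le hK le_normalizer
  have : (K.subgroupOf J).Normal := normal_subgroupOf_of_le_normalizer hJN
  have hSJ : S ≤ J := le_sup_left
  have hKJ : K ≤ J := le_sup_right
  have h1 : (K.subgroupOf J).relIndex ((S.subgroupOf J) ⊔ (K.subgroupOf J)) =
      (K.subgroupOf J).relIndex (S.subgroupOf J) := relIndex_sup_right _ _
  have h2 : (S.subgroupOf J) ⊔ (K.subgroupOf J) = ⊤ := by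
    rw [← subgroupOf_sup hSJ hKJ, ← hJ, subgroupOf_self]
  rw [h2, relIndex_top_right, relIndex_subgroupOf hSJ] at h1
  have e1 : K.relIndex J = K.relIndex S := h1
  have c1 : Nat.card K * K.relIndex J = Nat.card J := by
    rw [← relIndex_bot_left, ← relIndex_bot_left]
    exact relIndex_mul_relIndex _ _ _ bot_le hKJ
  have c2 : Nat.card S * S.relIndex J = Nat.card J := by
    rw [← relIndex_bot_left, ← relIndex_bot_left]
    exact relIndex_mul_relIndex _ _ _ bot_le hSJ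
  have c3 : Nat.card (K ⊓ S : Subgroup H) * K.relIndex S = Nat.card S := by
    rw [← inf_relIndex_right K S, ← relIndex_bot_left, ← relIndex_bot_left]
    exact relIndex_mul_relIndex _ _ _ bot_le inf_le_right
  have c4 : Nat.card (K ⊓ S : Subgroup H) * S.relIndex K = Nat.card K := by
    rw [← inf_relIndex_left K S, ← relIndex_bot_left, ← relIndex_bot_left]
    exact relIndex_mul_relIndex _ _ _ bot_le inf_le_left
  have hpos : 0 < Nat.card (K ⊓ S : Subgroup H) * K.relIndex S := by rw [c3]; exact Nat.card_pos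
  refine Nat.eq_of_mul_eq_mul_left hpos ?_
  calc Nat.card (K ⊓ S : Subgroup H) * K.relIndex S * S.relIndex K
      = (Nat.card (K ⊓ S : Subgroup H) * S.relIndex K) * K.relIndex S := by ring
    _ = Nat.card J := by rw [c4, ← e1, c1]
    _ = _ := by rw [c3, c2]

/-- The situation of a vector `z`: fixed by a Sylow 2-subgroup, `H = N C_H(z)`, not fixed by `N`. -/
structure Sit (A : Set (AddSubgroup M)) (TT : AddSubgroup M → Subgroup H) (YY : AddSubgroup M → AddSubgroup M)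
    (z : M) : Prop extends AxSys A TT YY where
  syl : ∃ S : Sylow 2 H, ∀ s ∈ S, s • z = z
  gen : ∀ h : H, ∃ n ∈ NN A TT, (n⁻¹ * h) • z = z
  ne : ∃ g ∈ A, z ∉ g

namespace Sit

variable {A : Set (AddSubgroup M)} {TT : AddSubgroup M → Subgroup H} {YY : AddSubgroup M → AddSubgroup M}
  {z : M} (D : Sit A TT YY z) {g g' K : AddSubgroup M}
include D

/-- **(F')** -/
theorem F' [Finite H] {n : H} (hn : n ∈ NN A TT) (h : ∀ g ∈ A, n • z + z ∈ g) : n • z = z := by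
  obtain ⟨S, hS⟩ := D.syl
  -- `N₀`
  have hfix : ∀ {a : H}, a ∈ NN A TT → ∀ {u : M}, (∀ g ∈ A, u ∈ g) → a • u = u := fun ha _ hu =>
    D.fixed_iff.1 hu _ ha
  let N₀ : Subgroup H :=
    { carrier := {n | n ∈ NN A TT ∧ ∀ g ∈ A, n • z + z ∈ g}
      one_mem' := ⟨one_mem _, fun g _ => by rw [one_smul, D.char2]; exact zero_mem _⟩
      mul_mem' := fun {a b} ha hb => ⟨mul_mem ha.1 hb.1, fun g hg => by
        have e : (a * b) • z + z = a • (b • z + z) + (a • z + z) := by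
          rw [mul_smul, smul_add, add_assoc, ← add_assoc (a • z), D.char2, zero_add]
        rw [e, hfix ha.1 hb.2]
        exact add_mem (hb.2 g hg) (ha.2 g hg)⟩
      inv_mem' := fun {a} ha => ⟨inv_mem ha.1, fun g hg => by
        have e : a⁻¹ • z + z = a⁻¹ • (a • z + z) := by
          rw [smul_add, inv_smul_smul, add_comm]
        rw [e, hfix (inv_mem ha.1) ha.2]
        exact ha.2 g hg⟩ }
  have hN₀ : ∀ {a : H}, a ∈ N₀ ↔ a ∈ NN A TT ∧ ∀ g ∈ A, a • z + z ∈ g := Iff.rfl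
  let φ : N₀ →* Multiplicative M :=
    { toFun := fun a => Multiplicative.ofAdd ((a : H) • z + z)
      map_one' := by
        change Multiplicative.ofAdd ((1 : H) • z + z) = 1
        rw [one_smul, D.char2]
        rfl
      map_mul' := fun a b => by
        change Multiplicative.ofAdd (((a : H) * b) • z + z) = Multiplicative.ofAdd (((a : H) • z + z) + ((b : H) • z + z))
        have e : ((a : H) * b) • z + z = (a : H) • ((b : H) • z + z) + ((a : H) • z + z) := by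
          rw [mul_smul, smul_add, add_assoc, ← add_assoc ((a : H) • z), D.char2, zero_add]
        rw [e, hfix a.2.1 b.2.2, add_comm] }
  have hφ : ∀ a : N₀, φ a = 1 ↔ (a : H) • z = z := fun a => by
    constructor
    · intro h1
      have h2 : (a : H) • z + z = 0 := congrArg Multiplicative.toAdd h1
      have h3 := D.add_add_self ((a : H) • z) z
      rw [h2, zero_add] at h3
      exact h3.symm
    · intro h1
      change Multiplicative.ofAdd ((a : H) • z + z) = 1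
      rw [h1, D.char2]
      rfl
  -- the index is odd
  have hSn : (S : Subgroup H) ≤ normalizer (N₀ : Set H) := by
    have key : ∀ s ∈ S, ∀ a ∈ N₀, s * a * s⁻¹ ∈ N₀ := by
      intro s hs a ha
      have h1 : s⁻¹ • z = z := hS _ (inv_mem hs)
      refine hN₀.2 ⟨D.NN_normal.conj_mem a ha.1 s, fun g hg => ?_⟩
      have e : (s * a * s⁻¹) • z + z = s • (a • z + z) := by
        rw [mul_smul, mul_smul, h1, smul_add, hS s hs]
      rw [e]
      have h2 := ha.2 (s⁻¹ • g) (D.inv _ g hg)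
      rwa [mem_smul, inv_inv] at h2
    intro s hs
    rw [mem_normalizer_iff]
    refine fun a => ⟨key s hs a, fun h => ?_⟩
    have := key s⁻¹ (inv_mem hs) _ h
    have e : s⁻¹ * (s * a * s⁻¹) * s⁻¹⁻¹ = a := by group
    rwa [e] at this
  have hodd : ¬ 2 ∣ (S : Subgroup H).relIndex N₀ := by
    rw [relIndex_sup_of_normalizes hSn]
    have : Fact (Nat.Prime 2) := ⟨Nat.prime_two⟩
    intro h1
    exact S.not_dvd_index (h1.trans (relIndex_dvd_index_of_le le_sup_left))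
  have hker : φ.ker.index ∣ (S : Subgroup H).relIndex N₀ := by
    rw [relIndex]
    refine index_dvd_of_le fun a ha => ?_
    rw [MonoidHom.mem_ker, hφ]
    exact hS _ (mem_subgroupOf.1 ha)
  have : Fact (Nat.Prime 2) := ⟨Nat.prime_two⟩
  have hp : IsPGroup 2 φ.range := by
    intro x
    refine ⟨1, ?_⟩
    obtain ⟨_, a, rfl⟩ := x
    apply Subtype.ext
    change (φ a) ^ (2 ^ 1) = 1
    rw [pow_one, pow_two]
    exact congrArg Multiplicative.ofAdd (D.char2 ((a : H) • z + z))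
  have hfin : Finite φ.range := Set.finite_range φ |>.to_subtype
  obtain ⟨k, hk⟩ := IsPGroup.iff_card.1 hp
  rw [index_ker, hk] at hker
  have hk0 : k = 0 := by
    by_contra hk0
    exact hodd ((dvd_pow_self 2 hk0).trans hker)
  rw [hk0, pow_zero] at hk
  have h1 : φ ⟨n, hN₀.2 ⟨hn, h⟩⟩ = 1 := by
    have h2 : φ.range = ⊥ := Subgroup.card_eq_one.1 hk
    have h3 : φ ⟨n, hN₀.2 ⟨hn, h⟩⟩ ∈ φ.range := ⟨_, rfl⟩
    rw [h2] at h3
    exact mem_bot.1 h3
  exact (hφ _).1 h1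

/-- `z ∉ I_c` -/
theorem not_mem (hK : K ∈ A) : ∃ g ∈ Cp A YY K, z ∉ g := by
  by_contra hcon
  push Not at hcon
  obtain ⟨g₁, hg₁, hz⟩ := D.ne
  obtain ⟨h, rfl⟩ := D.trans K hK g₁ hg₁
  obtain ⟨n, hn, hz'⟩ := D.gen h
  apply hz
  obtain ⟨s, hs⟩ : ∃ s, s = n⁻¹ * h := ⟨_, rfl⟩
  rw [← hs] at hz'
  have e : h = n * s := by rw [hs, mul_inv_cancel_left]
  have h1 : h • K ∈ Cp A YY (s • K) := by
    rw [e, mul_smul]
    exact D.NN_Cp (D.inv s K hK) hn
  rw [D.smul_Cp s] at h1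
  have h2 := hcon _ h1
  rw [mem_smul, inv_inv, hz'] at h2
  exact h2

theorem mem_of_mem [Finite H] (hK : K ∈ A) {y : M} (hy : y ∈ YY K) (h : ∀ k ∈ Cp A YY K, y ∈ k) : y = 0 := by
  obtain ⟨g₀, hg₀, hz⟩ := D.not_mem hK
  obtain ⟨n, hn, hnz⟩ := D.exists_not_mem hK hg₀ hz
  have hall : ∀ g ∈ A, y ∈ g := fun g hg => by
    by_cases h1 : g ∈ Cp A YY K
    · exact h g h1
    · exact D.le_of_not_mem hK hg h1 hy
  obtain ⟨t, ht, hty⟩ := D.full K hK _ hnz y hy
  have hnN := D.NC_le_NN hn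
  have htN : t ∈ NN A TT := D.NC_le_NN (D.TT_le_NC (AxSys.self_mem hK) ht)
  have h1 : (n⁻¹ * t * n) • z = z + y := by
    rw [mul_smul, mul_smul, hty, smul_add, inv_smul_smul, D.fixed_iff.1 hall n⁻¹ (inv_mem hnN)]
  have h2 : (n⁻¹ * t * n) • z + z = y := by
    rw [h1, add_comm z y, D.add_add_self]
  have h3 := D.F' (mul_mem (mul_mem (inv_mem hnN) htN) hnN) (fun g hg => by rw [h2]; exact hall g hg)
  rw [h3, D.char2] at h2
  exact h2.symm

theorem exists_of_ne [Finite H] (hg : g ∈ Cp A YY K) {y : M} (hy : y ∈ YY g) (hy0 : y ≠ 0) :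
    ∃ k ∈ Cp A YY K, y ∉ k := by
  by_contra hcon
  push Not at hcon
  exact hy0 (D.mem_of_mem (D.mem_A hg) hy (by rw [D.Cp_eq hg]; exact hcon))

/-- the `N_c`-orbit of `z` -/
def Orb (_ : Sit A TT YY z) (K : AddSubgroup M) (m : M) : Prop := ∃ n ∈ NC A TT YY K, m = n • z

theorem orb_self : D.Orb K z := ⟨1, one_mem _, (one_smul _ _).symm⟩

theorem orb_smul {m : M} (h : D.Orb K m) {n : H} (hn : n ∈ NC A TT YY K) : D.Orb K (n • m) := by
  obtain ⟨a, ha, rfl⟩ := h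
  exact ⟨n * a, mul_mem hn ha, (mul_smul _ _ _).symm⟩

theorem orb_eq (hg : g ∈ Cp A YY K) {m : M} : D.Orb g m ↔ D.Orb K m := by
  rw [Orb, Orb, D.NC_eq hg]

theorem orb_full {m y : M} (h : D.Orb K m) (hg : g ∈ Cp A YY K) (hm : m ∉ g) (hy : y ∈ YY g) : D.Orb K (m + y) := by
  obtain ⟨t, ht, hty⟩ := D.full g (D.mem_A hg) m hm y hy
  rw [← hty]
  exact D.orb_smul h (D.TT_le_NC hg ht)

/-- an element of the orbit is not in `I_c` -/
theorem orb_not_mem (hK : K ∈ A) {m : M} (h : D.Orb K m) : ∃ g ∈ Cp A YY K, m ∉ g := by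
  by_contra hcon
  push Not at hcon
  obtain ⟨n, hn, rfl⟩ := h
  have h1 := D.NC_fix hcon (inv_mem hn)
  rw [inv_smul_smul] at h1
  obtain ⟨g, hg, hz⟩ := D.not_mem hK
  apply hz
  rw [h1]
  exact hcon g hg

/-- (P), contraposed -/
theorem exists_adj (hK : K ∈ A) {y : M} (hy : y ∈ K) (h : ∃ g ∈ Cp A YY K, y ∉ g) :
    ∃ g ∈ A, ¬ YY K ≤ g ∧ y ∉ g := by
  by_contra hcon
  push Not at hcon
  obtain ⟨g, hg, hyg⟩ := h
  exact hyg (D.P hK hy (fun g hg hadj => hcon g hg hadj) g hg)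

/-- (E1) -/
theorem E1 (hK : K ∈ A) {m y : M} (h : D.Orb K m) (hmK : m ∈ K) (hy : y ∈ YY K) (hg : g ∈ A) (hadj : ¬ YY K ≤ g)
    (h1 : m ∉ g) (h2 : m + y ∉ g) : D.Orb K (m + y) := by
  have hgc : g ∈ Cp A YY K := AxSys.adj_mem hK hg hadj
  obtain ⟨r, hr, hrK⟩ := SetLike.not_le_iff_exists.1 (D.symm _ hK _ hg hadj)
  have h3 := D.orb_full h hgc h1 hr
  have h4 : m + r ∉ K := fun h4 => hrK (by
    have := K.add_mem h4 hmK
    rwa [add_comm m r, D.add_add_self] at this)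
  have h5 := D.orb_full h3 (AxSys.self_mem hK) h4 hy
  have h6 : m + r + y ∉ g := fun h6 => h2 (by
    have := g.add_mem h6 (D.le g hg hr)
    rwa [add_right_comm m r y, D.add_add_self] at this)
  have h7 := D.orb_full h5 hgc h6 hr
  rwa [add_right_comm m r y, D.add_add_self] at h7

/-- **(M)** -/
theorem M_self [Finite H] (hK : K ∈ A) {m y : M} (h : D.Orb K m) (hy : y ∈ YY K)
    (hne : ∃ g ∈ Cp A YY K, m + y ∉ g) : D.Orb K (m + y) := by
  by_cases hmK : m ∈ K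
  swap
  · exact D.orb_full h (AxSys.self_mem hK) hmK hy
  by_contra hcon
  have hyK : y ∈ K := D.le K hK hy
  have hmyK : m + y ∈ K := K.add_mem hmK hyK
  have i1 : ∀ g ∈ A, ¬ YY K ≤ g → m ∉ g → m + y ∈ g := fun g hg hadj hmg => by
    by_contra h1
    exact hcon (D.E1 hK h hmK hy hg hadj hmg h1)
  have i2 : ∀ g ∈ A, ¬ YY K ≤ g → m + y ∉ g → m ∈ g := fun g hg hadj hmg => by
    by_contra h1
    exact hmg (i1 g hg hadj h1)
  obtain ⟨g, hg, hadj, hmg⟩ := D.exists_adj hK hmK (D.orb_not_mem hK h)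
  obtain ⟨g', hg', hadj', hmg'⟩ := D.exists_adj hK hmyK hne
  -- (iii)
  have i3 : ∀ g ∈ A, ¬ YY K ≤ g → m ∉ g → ∀ g' ∈ A, ¬ YY K ≤ g' → m + y ∉ g' → ∀ r ∈ YY K,
      r + y ∈ g ∨ r ∈ g' := by
    intro g hg hadj hmg g' hg' hadj' hmg' r hr
    by_contra h1
    push Not at h1
    have h2 : m + r ∉ g := fun h2 => h1.1 (by
      have := g.add_mem h2 (i1 g hg hadj hmg)
      have e : m + r + (m + y) = r + y := by
        rw [add_add_add_comm, D.char2, zero_add]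
      rwa [e] at this)
    have h3 := D.E1 hK h hmK hr hg hadj hmg h2
    have h4 : m + r ∉ g' := fun h4 => h1.2 (by
      have := g'.add_mem h4 (i2 g' hg' hadj' hmg')
      rwa [add_comm m r, D.add_add_self] at this)
    have e : m + r + (r + y) = m + y := by rw [← add_assoc, D.add_add_self]
    have h5 := D.E1 hK h3 (K.add_mem hmK (D.le K hK hr)) (add_mem hr hy) hg' hadj' h4 (by rw [e]; exact hmg')
    rw [e] at h5
    exact hcon h5
  have ynot : ∀ g ∈ A, ¬ YY K ≤ g → m ∉ g → y ∉ g := fun g hg hadj hmg h1 => hmg (by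
    have := g.add_mem (i1 g hg hadj hmg) h1
    rwa [D.add_add_self] at this)
  have ynot' : ∀ g ∈ A, ¬ YY K ≤ g → m + y ∉ g → y ∉ g := fun g hg hadj hmg h1 =>
    hmg (g.add_mem (i2 g hg hadj hmg) h1)
  -- `r ∈ g ↔ r ∈ g'`
  have i4 : ∀ g ∈ A, ¬ YY K ≤ g → m ∉ g → ∀ g' ∈ A, ¬ YY K ≤ g' → m + y ∉ g' → ∀ r ∈ YY K, r ∈ g ↔ r ∈ g' := by
    intro g hg hadj hmg g' hg' hadj' hmg' r hr
    constructor
    · intro h1
      rcases i3 g hg hadj hmg g' hg' hadj' hmg' r hr with h2 | h2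
      · exact absurd (by
          have := g.add_mem h2 h1
          rwa [add_comm r y, D.add_add_self] at this) (ynot g hg hadj hmg)
      · exact h2
    · intro h1
      rcases i3 g hg hadj hmg g' hg' hadj' hmg' (r + y) (add_mem hr hy) with h2 | h2
      · rwa [D.add_add_self] at h2
      · exact absurd (by
          have := g'.add_mem h2 h1
          rwa [add_comm r y, D.add_add_self] at this) (ynot' g' hg' hadj' hmg')
  -- `r₀`
  obtain ⟨r₀, hr₀, hr₀0, hr₀g⟩ : ∃ r₀ ∈ YY K, r₀ ≠ 0 ∧ r₀ ∈ g := by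
    obtain ⟨s, hs, hs0, hsy⟩ := D.big K hK y
    rcases i3 g hg hadj hmg g' hg' hadj' hmg' s hs with h1 | h1
    · refine ⟨s + y, add_mem hs hy, fun h2 => hsy ?_, h1⟩
      have h3 := D.add_add_self s y
      rw [h2, zero_add] at h3
      exact h3.symm
    · exact ⟨s, hs, hs0, (i4 g hg hadj hmg g' hg' hadj' hmg' s hs).2 h1⟩
  have hr₀g' := (i4 g hg hadj hmg g' hg' hadj' hmg' r₀ hr₀).1 hr₀g
  have hr₀K : r₀ ∈ K := D.le K hK hr₀
  obtain ⟨g₀, hg₀, hadj₀, hr₀n⟩ := D.exists_adj hK hr₀K (D.exists_of_ne (AxSys.self_mem hK) hr₀ hr₀0)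
  have hm₀ : m ∈ g₀ := by
    by_contra h1
    exact hr₀n ((i4 g₀ hg₀ hadj₀ h1 g' hg' hadj' hmg' r₀ hr₀).2 hr₀g')
  have hmy₀ : m + y ∈ g₀ := by
    by_contra h1
    exact hr₀n ((i4 g hg hadj hmg g₀ hg₀ hadj₀ h1 r₀ hr₀).1 hr₀g)
  -- `m → m + r₀ → m + r₀ + y → m + y`
  have h1 : D.Orb K (m + r₀) := D.E1 hK h hmK hr₀ hg hadj hmg fun h1 => hmg (by
    have := g.add_mem h1 hr₀g
    rwa [D.add_add_self] at this)
  have h2 : D.Orb K (m + r₀ + y) := by
    refine D.E1 hK h1 (K.add_mem hmK hr₀K) hy hg₀ hadj₀ (fun h1 => hr₀n ?_) fun h1 => hr₀n ?_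
    · have := g₀.add_mem h1 hm₀
      rwa [add_comm m r₀, D.add_add_self] at this
    · have := g₀.add_mem h1 hmy₀
      have e : m + r₀ + y + (m + y) = r₀ := by
        rw [add_add_add_comm, D.char2, add_zero, add_comm m r₀, D.add_add_self]
      rwa [e] at this
  have e : m + r₀ + y + r₀ = m + y := by
    rw [add_right_comm m r₀ y, D.add_add_self]
  have h3 : D.Orb K (m + r₀ + y + r₀) := by
    refine D.E1 hK h2 (K.add_mem (K.add_mem hmK hr₀K) hyK) hr₀ hg' hadj' (fun h1 => hmg' ?_) (by rw [e]; exact hmg')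
    have := g'.add_mem h1 hr₀g'
    rwa [e] at this
  rw [e] at h3
  exact hcon h3

theorem M_comp [Finite H] {m y : M} (h : D.Orb K m) (hg : g ∈ Cp A YY K) (hy : y ∈ YY g)
    (hne : ∃ k ∈ Cp A YY K, m + y ∉ k) : D.Orb K (m + y) := by
  rw [← D.orb_eq hg] at h ⊢
  exact D.M_self (D.mem_A hg) h hy (by rw [D.Cp_eq hg]; exact hne)

theorem chain [Finite H] (n : ℕ) : ∀ l : List M, l.length = n → (∀ w ∈ l, ∃ g ∈ Cp A YY K, w ∈ YY g) →
    ∀ m, D.Orb K m → (∃ g ∈ Cp A YY K, m + l.sum ∉ g) → D.Orb K (m + l.sum) := by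
  induction n using Nat.strong_induction_on with
  | _ n ih =>
    intro l hl hlY m hm hne
    match l, hl, hlY, hne with
    | [], _, _, _ =>
      rw [List.sum_nil, add_zero]
      exact hm
    | [y], _, hlY, hne =>
      rw [List.sum_singleton] at hne ⊢
      obtain ⟨g, hg, hy⟩ := hlY y (List.mem_singleton_self y)
      exact D.M_comp hm hg hy hne
    | y₁ :: y₂ :: l', hl, hlY, hne =>
      obtain ⟨g₁, hg₁, hy₁⟩ := hlY y₁ (by simp)
      obtain ⟨g₂, hg₂, hy₂⟩ := hlY y₂ (by simp)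
      have hl' : ∀ w ∈ l', ∃ g ∈ Cp A YY K, w ∈ YY g := fun w hw => hlY w (by simp [hw])
      simp only [List.length_cons] at hl
      simp only [List.sum_cons] at hne ⊢
      by_cases h1 : ∃ g ∈ Cp A YY K, m + y₁ ∉ g
      · have h2 := D.M_comp hm hg₁ hy₁ h1
        have h3 := ih (l'.length + 1) (by omega) (y₂ :: l') rfl (fun w hw => hlY w (by simp at hw ⊢; (clear * - hw; tauto))) _ h2
        simp only [List.sum_cons] at h3
        rw [add_assoc] at h3
        exact h3 hne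
      by_cases h1' : ∃ g ∈ Cp A YY K, m + y₂ ∉ g
      · have h2 := D.M_comp hm hg₂ hy₂ h1'
        have h3 := ih (l'.length + 1) (by omega) (y₁ :: l') rfl (fun w hw => hlY w (by simp at hw ⊢; (clear * - hw; tauto))) _ h2
        simp only [List.sum_cons] at h3
        have e : m + y₂ + (y₁ + l'.sum) = m + (y₁ + (y₂ + l'.sum)) := by abel
        rw [e] at h3
        exact h3 hne
      push Not at h1 h1'
      obtain ⟨s, hs, hs0, hsy⟩ := D.big g₁ (D.mem_A hg₁) y₁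
      have hsy1 : s + y₁ ≠ 0 := fun h2 => hsy (by
        have h3 := D.add_add_self s y₁
        rw [h2, zero_add] at h3
        exact h3.symm)
      obtain ⟨k, hk, hks⟩ := D.exists_of_ne hg₁ (add_mem hs hy₁) hsy1
      have h2 : D.Orb K (m + s) := D.M_comp hm hg₁ hs ⟨k, hk, fun h3 => hks (by
        have h4 := k.add_mem h3 (h1 k hk)
        have e : m + s + (m + y₁) = s + y₁ := by rw [add_add_add_comm, D.char2, zero_add]
        rwa [e] at h4)⟩
      obtain ⟨k', hk', hks'⟩ := D.exists_of_ne hg₁ hs hs0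
      have h3 : D.Orb K (m + s + y₂) := D.M_comp h2 hg₂ hy₂ ⟨k', hk', fun h3 => hks' (by
        have h4 := k'.add_mem h3 (h1' k' hk')
        have e : m + s + y₂ + (m + y₂) = s := by
          rw [add_add_add_comm, D.char2, add_zero, add_comm m s, D.add_add_self]
        rwa [e] at h4)⟩
      have h4 := ih (l'.length + 1) (by omega) ((s + y₁) :: l') rfl (fun w hw => by
        simp only [List.mem_cons] at hw
        rcases hw with rfl | hw
        · exact ⟨g₁, hg₁, add_mem hs hy₁⟩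
        · exact hl' w hw) _ h3
      simp only [List.sum_cons] at h4
      have e : m + s + y₂ + (s + y₁ + l'.sum) = m + (y₁ + (y₂ + l'.sum)) := by
        have e1 : m + s + y₂ + (s + y₁ + l'.sum) = (s + s) + (m + (y₁ + (y₂ + l'.sum))) := by abel
        rw [e1, D.char2, zero_add]
      rw [e] at h4
      exact h4 hne

theorem exists_list {u : M} (hu : u ∈ UC A YY K) : ∃ l : List M, (∀ w ∈ l, ∃ g ∈ Cp A YY K, w ∈ YY g) ∧
    l.sum = u := by
  let X : AddSubgroup M :=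
    { carrier := {u | ∃ l : List M, (∀ w ∈ l, ∃ g ∈ Cp A YY K, w ∈ YY g) ∧ l.sum = u}
      zero_mem' := ⟨[], by simp, List.sum_nil⟩
      add_mem' := by
        rintro a b ⟨l, hl, rfl⟩ ⟨l', hl', rfl⟩
        refine ⟨l ++ l', fun w hw => ?_, List.sum_append⟩
        rcases List.mem_append.1 hw with h | h
        · exact hl w h
        · exact hl' w h
      neg_mem' := by
        rintro a ⟨l, hl, rfl⟩
        exact ⟨l, hl, (D.neg_eq _).symm⟩ }
  exact (iSup₂_le fun g hg y hy => ⟨[y], fun w hw => ⟨g, hg, by rwa [List.mem_singleton.1 hw]⟩, List.sum_singleton⟩ :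
    UC A YY K ≤ X) hu

/-- **the `N_c`-orbit of `z` is `(z + U_c) - I_c`** -/
theorem orbit [Finite H] {u : M} (hu : u ∈ UC A YY K) (h : ∃ g ∈ Cp A YY K, z + u ∉ g) :
    ∃ n ∈ NC A TT YY K, n • z = z + u := by
  obtain ⟨l, hl, rfl⟩ := D.exists_list hu
  obtain ⟨n, hn, h1⟩ := D.chain _ l rfl hl z D.orb_self h
  exact ⟨n, hn, h1.symm⟩

/-- **`U_c ∩ I_c = 0`** -/
theorem inf [Finite H] (hK : K ∈ A) {u : M} (hu : u ∈ UC A YY K) (h : ∀ g ∈ Cp A YY K, u ∈ g) : u = 0 := by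
  obtain ⟨g₀, hg₀, hz⟩ := D.not_mem hK
  obtain ⟨n, hn, h1⟩ := D.orbit hu ⟨g₀, hg₀, fun h1 => hz (by
    have := g₀.add_mem h1 (h g₀ hg₀)
    rwa [D.add_add_self] at this)⟩
  have h2 : n • z + z = u := by rw [h1, add_comm z u, D.add_add_self]
  have h3 := D.F' (D.NC_le_NN hn) (fun g hg => by
    rw [h2]
    by_cases h4 : g ∈ Cp A YY K
    · exact h g h4
    · exact D.UC_le hg h4 hu)
  rw [h3, D.char2] at h2
  exact h2.symm

/-- the `N_c`-orbit has odd length -/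
theorem odd_relIndex [Finite H] : ¬ 2 ∣ (MulAction.stabilizer H z).relIndex (NC A TT YY K) := by
  obtain ⟨S, hS⟩ := D.syl
  have hN := D.NN_normal
  set T : Subgroup H := (S : Subgroup H) ⊓ NN A TT with hT
  have hTX : T ≤ MulAction.stabilizer H z := fun s hs => hS s (mem_inf.1 hs).1
  have h1 : (MulAction.stabilizer H z).relIndex (NC A TT YY K) ∣ T.relIndex (NC A TT YY K) := by
    rw [relIndex, relIndex]
    exact index_dvd_of_le (comap_mono hTX)
  have h2 : T.relIndex (NC A TT YY K) ∣ T.relIndex (NN A TT) := by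
    rw [relIndex_sup_of_normalizes (inf_le_right.trans D.NN_norm_NC)]
    exact Dvd.intro _ (relIndex_mul_relIndex _ _ _ le_sup_left (sup_le inf_le_right D.NC_le_NN))
  have h3 : T.relIndex (NN A TT) = (S : Subgroup H).relIndex (NN A TT) := by
    rw [hT, inf_relIndex_right]
  have h4 : ¬ 2 ∣ (S : Subgroup H).relIndex (NN A TT) := by
    rw [relIndex_sup_of_normalizes (by rw [normalizer_eq_top]; exact le_top)]
    have : Fact (Nat.Prime 2) := ⟨Nat.prime_two⟩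
    intro h1
    exact S.not_dvd_index (h1.trans (relIndex_dvd_index_of_le le_sup_left))
  intro h5
  apply h4
  rw [← h3]
  exact (h5.trans h1).trans h2

/-- **`z ∈ U_c + I_c`** -/
theorem mem [Finite H] [Finite M] (hK : K ∈ A) : ∃ u ∈ UC A YY K, ∀ g ∈ Cp A YY K, z + u ∈ g := by
  by_contra hcon
  push Not at hcon
  -- the orbit is `z + U_c`
  have h1 : (MulAction.stabilizer H z).relIndex (NC A TT YY K) = Nat.card (UC A YY K) := by
    have e1 : (MulAction.stabilizer H z).relIndex (NC A TT YY K) =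
        (MulAction.stabilizer (NC A TT YY K) z).index := by
      rw [relIndex]
      congr 1
    rw [e1, MulAction.index_stabilizer, ← Nat.card_coe_set_eq]
    symm
    refine Nat.card_congr (Equiv.ofBijective
      (fun u : ↥(UC A YY K) => (⟨z + u, ?_⟩ : MulAction.orbit (NC A TT YY K) z)) ⟨?_, ?_⟩)
    · obtain ⟨n, hn, h2⟩ := D.orbit u.2 (hcon _ u.2)
      exact ⟨⟨n, hn⟩, h2⟩
    · intro u v h
      exact Subtype.ext (add_left_cancel (congrArg Subtype.val h))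
    · rintro ⟨_, ⟨n, rfl⟩⟩
      refine ⟨⟨(n : H) • z + z, D.NC_quad n.2 z⟩, Subtype.ext ?_⟩
      change z + ((n : H) • z + z) = (n : H) • z
      rw [add_comm, D.add_add_self]
  have h2 : 2 ∣ Nat.card (UC A YY K) := by
    obtain ⟨s, hs, hs0, -⟩ := D.big K hK 0
    have hsU : s ∈ UC A YY K := AxSys.YY_le_UC (AxSys.self_mem hK) hs
    have h3 : addOrderOf (⟨s, hsU⟩ : ↥(UC A YY K)) = 2 := by
      refine addOrderOf_eq_prime ?_ fun h => hs0 (congrArg Subtype.val h)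
      rw [two_nsmul]
      exact Subtype.ext (D.char2 s)
    rw [← h3]
    exact addOrderOf_dvd_natCard _
  rw [← h1] at h2
  exact D.odd_relIndex h2

/-- **`N_c` is transitive on `U_c - {0}`** -/
theorem transU [Finite H] [Finite M] (hK : K ∈ A) {u v : M} (hu : u ∈ UC A YY K) (hu0 : u ≠ 0)
    (hv : v ∈ UC A YY K) (hv0 : v ≠ 0) : ∃ n ∈ NC A TT YY K, n • u = v := by
  obtain ⟨w, hw, hi⟩ := D.mem hK
  have key : ∀ u ∈ UC A YY K, u ≠ 0 → ∃ n ∈ NC A TT YY K, n • z = z + w + u := by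
    intro u hu hu0
    have h1 : ∃ g ∈ Cp A YY K, z + (w + u) ∉ g := by
      by_contra hcon
      push Not at hcon
      refine hu0 (D.inf hK hu fun g hg => ?_)
      have h2 := g.add_mem (hcon g hg) (hi g hg)
      have e : z + (w + u) + (z + w) = u := by
        rw [← add_assoc z w u, add_comm (z + w) u, D.add_add_self]
      rwa [e] at h2
    obtain ⟨n, hn, h2⟩ := D.orbit (add_mem hw hu) h1
    exact ⟨n, hn, by rw [h2, add_assoc]⟩
  obtain ⟨a, ha, h1⟩ := key u hu hu0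
  obtain ⟨b, hb, h2⟩ := key v hv hv0
  have hn : b * a⁻¹ ∈ NC A TT YY K := mul_mem hb (inv_mem ha)
  refine ⟨b * a⁻¹, hn, ?_⟩
  have h3 : (b * a⁻¹) • (z + w + u) = z + w + v := by
    rw [← h1, mul_smul, inv_smul_smul, h2]
  rw [smul_add, D.NC_fix hi hn] at h3
  exact add_left_cancel h3

/-- **`z ∈ [M, N] + C_M(N)`** -/
theorem mem_all [Finite H] [Finite M] : ∃ w ∈ ⨆ g ∈ A, YY g, ∀ g ∈ A, z + w ∈ g := by
  classical
  have key : ∀ s : Finset (AddSubgroup M), (∀ k ∈ s, k ∈ A) →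
      ∃ w ∈ ⨆ k ∈ s, UC A YY k, ∀ k ∈ s, ∀ g ∈ Cp A YY k, z + w ∈ g := by
    intro s
    induction s using Finset.induction_on with
    | empty => exact fun _ => ⟨0, zero_mem _, by simp⟩
    | insert K s hKs ih =>
      intro hs
      obtain ⟨w, hw, h1⟩ := ih fun k hk => hs k (Finset.mem_insert_of_mem hk)
      have hK : K ∈ A := hs K (Finset.mem_insert_self _ _)
      have hle : (⨆ k ∈ s, UC A YY k) ≤ ⨆ k ∈ insert K s, UC A YY k :=
        iSup₂_le fun k hk => le_iSup₂_of_le k (Finset.mem_insert_of_mem hk) le_rfl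
      by_cases hc : ∃ k ∈ s, K ∈ Cp A YY k
      · obtain ⟨k, hk, hKk⟩ := hc
        refine ⟨w, hle hw, fun k' hk' g hg => ?_⟩
        rcases Finset.mem_insert.1 hk' with rfl | hk'
        · rw [D.Cp_eq hKk] at hg
          exact h1 k hk g hg
        · exact h1 k' hk' g hg
      · push Not at hc
        obtain ⟨u, hu, h2⟩ := D.mem hK
        refine ⟨w + u, add_mem (hle hw) ((le_iSup₂_of_le K (Finset.mem_insert_self _ _) le_rfl :
          UC A YY K ≤ ⨆ k ∈ insert K s, UC A YY k) hu), fun k' hk' g hg => ?_⟩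
        rcases Finset.mem_insert.1 hk' with rfl | hk'
        · have h3 : (⨆ k ∈ s, UC A YY k) ≤ g := iSup₂_le fun k hk => by
            refine D.UC_le (D.mem_A hg) fun h4 => hc k hk ?_
            rw [← D.Cp_eq h4, D.Cp_eq hg]
            exact AxSys.self_mem hK
          have h5 := g.add_mem (h2 g hg) (h3 hw)
          have e : z + u + w = z + (w + u) := by abel
          rwa [e] at h5
        · have h3 : UC A YY K ≤ g := by
            refine D.UC_le (D.mem_A hg) fun h4 => hc k' hk' ?_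
            rw [← D.Cp_eq hg, D.Cp_eq h4]
            exact AxSys.self_mem hK
          have h5 := g.add_mem (h1 k' hk' g hg) (h3 hu)
          have e : z + w + u = z + (w + u) := by abel
          rwa [e] at h5
  have hfin : A.Finite := Set.toFinite A
  obtain ⟨w, hw, h1⟩ := key hfin.toFinset fun k hk => hfin.mem_toFinset.1 hk
  refine ⟨w, ?_, fun g hg => h1 g (hfin.mem_toFinset.2 hg) g (AxSys.self_mem hg)⟩
  have h2 : (⨆ k ∈ hfin.toFinset, UC A YY k) ≤ ⨆ g ∈ A, YY g := iSup₂_le fun k _ => iSup₂_le fun g hg =>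
    le_iSup₂_of_le g (D.mem_A hg) le_rfl
  exact h2 hw

end Sit

end Cfsg.Agent.Omega.NOThreeL.RBig.Trans

end

section


/-!
# NO-3L, box R, `R ∩ (A)`, nonsplit with fields (#21360 (0)): `|T| = 2` is impossible, the pure part

An axis system (`RBig.Trans.Sit`) whose axes all have index `2`, and a subgroup `W ≤ U_c` with at least two nonzero
elements which lies in every axis containing `z`: contradiction.
-/

set_option autoImplicit false
set_option linter.unusedSectionVars false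

namespace Cfsg.Agent.Omega.NOThreeL.RF.TwoT

open Subgroup
open Cfsg.Agent.Omega.NOThreeL.ThmAx (mem_smul smul_eq_of)
open Cfsg.Agent.Omega.NOThreeL.RBig.Trans
open scoped Pointwise

variable {H M : Type*} [Group H] [AddCommGroup M] [DistribMulAction H M]
variable {A : Set (AddSubgroup M)} {TT : AddSubgroup M → Subgroup H} {YY : AddSubgroup M → AddSubgroup M}
  {z : M} {K : AddSubgroup M}

/-- The component `z_c` of `z`: nonzero, and on `c` it lies in the same axes as `z`. -/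
theorem exists_comp [Finite H] [Finite M] (D : Sit A TT YY z) (hK : K ∈ A) :
    ∃ u ∈ UC A YY K, u ≠ 0 ∧ ∀ g ∈ Cp A YY K, u ∈ g ↔ z ∈ g := by
  obtain ⟨u, hu, hg⟩ := D.mem hK
  have hiff : ∀ g ∈ Cp A YY K, u ∈ g ↔ z ∈ g := fun g h => by
    constructor
    · intro h1
      have h2 := g.add_mem (hg g h) h1
      rwa [D.add_add_self] at h2
    · intro h1
      have h2 := g.add_mem (hg g h) h1
      rwa [add_comm z u, D.add_add_self] at h2
  refine ⟨u, hu, ?_, hiff⟩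
  rintro rfl
  obtain ⟨g, h, hz⟩ := D.not_mem hK
  exact hz ((hiff g h).1 (zero_mem _))

/-- If `W ≤ U_c` lies in every axis of `c` that contains `z`, then every axis of `c` containing one nonzero vector of
`W` contains `W` (and `z`). -/
theorem mem_of_mem [Finite H] [Finite M] (D : Sit A TT YY z) (hK : K ∈ A) {W : AddSubgroup M}
    (hWU : W ≤ UC A YY K) (hW : ∀ g ∈ Cp A YY K, z ∈ g → W ≤ g) {r : M} (hr : r ∈ W) (hr0 : r ≠ 0)
    {g : AddSubgroup M} (hg : g ∈ Cp A YY K) (hrg : r ∈ g) : z ∈ g := by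
  obtain ⟨u, hu, hu0, hiff⟩ := exists_comp D hK
  obtain ⟨n, hn, hnu⟩ := D.transU hK hu hu0 (hWU hr) hr0
  -- `X u ⊆ X r`, same number
  set X : M → Set (AddSubgroup M) := fun m => {g | g ∈ Cp A YY K ∧ m ∈ g} with hX
  have hinv : ∀ k ∈ NC A TT YY K, ∀ g ∈ Cp A YY K, k • g ∈ Cp A YY K := fun k hk g hg => by
    have h1 := D.NN_Cp (D.mem_A hg) (D.NC_le_NN hk)
    rwa [D.Cp_eq hg] at h1
  have hsub : X u ⊆ X r := fun k hk => ⟨hk.1, hW k hk.1 ((hiff k hk.1).1 hk.2) hr⟩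
  have hfin : (X r).Finite := Set.toFinite _
  have himg : X r = (fun g : AddSubgroup M => n • g) '' X u := by
    ext k
    constructor
    · rintro ⟨h1, h2⟩
      refine ⟨n⁻¹ • k, ⟨hinv _ (inv_mem hn) _ h1, ?_⟩, smul_inv_smul n k⟩
      rw [mem_smul, inv_inv, hnu]
      exact h2
    · rintro ⟨k, ⟨h1, h2⟩, rfl⟩
      refine ⟨hinv _ hn _ h1, ?_⟩
      change r ∈ n • k
      rw [mem_smul, ← hnu, inv_smul_smul]
      exact h2
  have hcard : (X r).ncard = (X u).ncard := by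
    rw [himg]
    exact Set.ncard_image_of_injective _ (MulAction.injective n)
  have heq : X u = X r := Set.eq_of_subset_of_ncard_le hsub hcard.le hfin
  have h1 : g ∈ X r := ⟨hg, hrg⟩
  rw [← heq] at h1
  exact (hiff g hg).1 h1.2

/-- **`|T| = 2` is impossible** (#21360 (0)): axes of index `2`, `|W| ≥ 4`. -/
theorem two_false [Finite H] [Finite M] (D : Sit A TT YY z) (hK : K ∈ A) {W : AddSubgroup M}
    (hWU : W ≤ UC A YY K) (hW : ∀ g ∈ Cp A YY K, z ∈ g → W ≤ g)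
    (h2 : ∀ g ∈ A, ∀ a b : M, a ∉ g → b ∉ g → a + b ∈ g)
    {r s : M} (hr : r ∈ W) (hs : s ∈ W) (hr0 : r ≠ 0) (hs0 : s ≠ 0) (hrs : r ≠ s) : False := by
  obtain ⟨g, hg, hz⟩ := D.not_mem hK
  have h1 : ∀ w ∈ W, w ≠ 0 → w ∉ g := fun w hw hw0 hwg => hz (mem_of_mem D hK hWU hW hw hw0 hg hwg)
  refine h1 (r + s) (add_mem hr hs) (fun h => hrs ?_) (h2 g (D.mem_A hg) r s (h1 r hr hr0) (h1 s hs hs0))
  have h3 := D.add_add_self r s
  rw [h, zero_add] at h3
  exact h3.symm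

end Cfsg.Agent.Omega.NOThreeL.RF.TwoT

end

section


/-!
# NO-3L, box R, `q > 2`: the abstract part of #19602 (helper797), I: root groups, axes, THEOREM EXACT

`H` acts on the elementary abelian 2-group `M` (`= U_H`); `Ax i = C_U(N_i)`, `R i = [U, N_i]`, `T i` = the image of
`N_i`, with `[u, T i] = R i` for all `u ∉ Ax i` (`V_P` split over `C_Z(P)`).

* `Rt T Ax R` : root groups; the API (`TT_fix`, `TT_quad`, `TT_full`, `adj_symm`, `smul_eq_of_not_adj`) without any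
  hypothesis on `Z`;
* `Ex T Ax R` : moreover `|M : Ax j| ≤ |R i|`, `2 < |R i|`, `noff` (an element fixing a full vector maps the `R l`
  into all `Ax j`) and `nt` (the `R i` are not contained in all axes);
* `Ex.exact`, `Ex.card_eq` : THEOREM EXACT WITH RADICAL, #19602 (4);
* `Ex.ti` : `x • R i ≤ g` or `x • R i ∩ g = 0` for every axis `g`;
* `Ex.not_reach` : different `Ax i` are in different components.
-/

set_option autoImplicit false

namespace Cfsg.Agent.Omega.NOThreeL.RSplit.Root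

open scoped Pointwise
open Cfsg.Agent.Omega.NOThreeL.ThmAx (Full IsAx TT YY Adj mem_smul smul_eq_of YY_smul YY_smul_eq adj_smul IsAx.smul)

variable {H M : Type*} [Group H] [AddCommGroup M] [DistribMulAction H M]

/-- Root groups. -/
structure Rt {ι : Type*} (T : ι → Subgroup H) (Ax R : ι → AddSubgroup M) : Prop where
  char2 : ∀ m : M, m + m = 0
  fix : ∀ i, ∀ t ∈ T i, ∀ u ∈ Ax i, t • u = u
  quad : ∀ i, ∀ t ∈ T i, ∀ u : M, t • u - u ∈ R i
  full : ∀ i, ∀ u : M, u ∉ Ax i → ∀ r ∈ R i, ∃ t ∈ T i, t • u = u + r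
  le : ∀ i j, R i ≤ Ax j
  trans : ∀ i j, ∃ s : H, s • Ax i = Ax j

namespace Rt

variable {ι : Type*} {T : ι → Subgroup H} {Ax R : ι → AddSubgroup M} (D : Rt T Ax R)
include D

omit D in
theorem isAx (Ax : ι → AddSubgroup M) (i : ι) : IsAx (H := H) Ax (Ax i) := ⟨1, i, one_smul _ _⟩

theorem YY_le {g : AddSubgroup M} : YY H Ax R g ≤ g := by
  unfold YY
  rw [AddSubgroup.closure_le]
  rintro m ⟨h, i, rfl, y, hy, rfl⟩
  exact AddSubgroup.smul_mem_pointwise_smul _ _ _ (D.le i i hy)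

omit D in
theorem R_le_YY (i : ι) : R i ≤ YY H Ax R (Ax i) := fun y hy =>
  AddSubgroup.subset_closure ⟨1, i, one_smul _ _, y, hy, (one_smul _ _).symm⟩

theorem TT_fix {g : AddSubgroup M} {t : H} (ht : t ∈ TT T Ax g) {u : M} (hu : u ∈ g) : t • u = u := by
  induction ht using Subgroup.closure_induction with
  | mem t ht =>
    obtain ⟨h, i, hg, s, hs, rfl⟩ := ht
    rw [← hg, mem_smul] at hu
    rw [mul_smul, mul_smul, D.fix i s hs _ hu, smul_inv_smul]
  | one => rw [one_smul]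
  | mul a b _ _ ha hb => rw [mul_smul, hb, ha]
  | inv a _ ha => rw [inv_smul_eq_iff, ha]

theorem TT_quad {g : AddSubgroup M} {t : H} (ht : t ∈ TT T Ax g) (u : M) :
    t • u - u ∈ YY H Ax R g := by
  induction ht using Subgroup.closure_induction generalizing u with
  | mem t ht =>
    obtain ⟨h, i, hg, s, hs, rfl⟩ := ht
    have h1 := D.quad i s hs (h⁻¹ • u)
    have h2 : (h * s * h⁻¹) • u - u = h • (s • (h⁻¹ • u) - h⁻¹ • u) := by
      rw [mul_smul, mul_smul, smul_sub, smul_inv_smul]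
    rw [h2]
    exact AddSubgroup.subset_closure ⟨h, i, hg, _, h1, rfl⟩
  | one => rw [one_smul, sub_self]; exact AddSubgroup.zero_mem _
  | mul a b _ _ ha hb =>
    have h1 : (a * b) • u - u = (a • b • u - b • u) + (b • u - u) := by rw [mul_smul]; abel
    rw [h1]
    exact AddSubgroup.add_mem _ (ha _) (hb _)
  | inv a _ ha =>
    have h1 : a⁻¹ • u - u = -(a • (a⁻¹ • u) - a⁻¹ • u) := by rw [smul_inv_smul]; abel
    rw [h1]
    exact AddSubgroup.neg_mem _ (ha _)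

/-- fullness -/
theorem TT_full {g : AddSubgroup M} {u : M} (hu : u ∉ g) {y : M} (hy : y ∈ YY H Ax R g) :
    ∃ t ∈ TT T Ax g, t • u = u + y := by
  induction hy using AddSubgroup.closure_induction with
  | mem m hm =>
    obtain ⟨h, i, hg, y, hy, rfl⟩ := hm
    have h1 : h⁻¹ • u ∉ Ax i := by rwa [← mem_smul, hg]
    obtain ⟨s, hs, hsu⟩ := D.full i _ h1 y hy
    refine ⟨h * s * h⁻¹, Subgroup.subset_closure ⟨h, i, hg, s, hs, rfl⟩, ?_⟩
    rw [mul_smul, mul_smul, hsu, smul_add, smul_inv_smul]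
  | zero => exact ⟨1, Subgroup.one_mem _, by rw [one_smul, add_zero]⟩
  | add a b _ hb ha' hb' =>
    obtain ⟨t1, ht1, h1⟩ := ha'
    obtain ⟨t2, ht2, h2⟩ := hb'
    refine ⟨t1 * t2, Subgroup.mul_mem _ ht1 ht2, ?_⟩
    rw [mul_smul, h2, smul_add, h1, D.TT_fix ht1 (D.YY_le hb), add_assoc]
  | neg a ha ha' =>
    obtain ⟨t, ht, h1⟩ := ha'
    refine ⟨t⁻¹, Subgroup.inv_mem _ ht, ?_⟩
    rw [inv_smul_eq_iff, smul_add, smul_neg, h1, D.TT_fix ht (D.YY_le ha)]
    abel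

theorem TT_invol {g : AddSubgroup M} {t : H} (ht : t ∈ TT T Ax g) (u : M) : t • t • u = u := by
  have h1 := D.TT_fix ht (D.YY_le (D.TT_quad ht u))
  rw [smul_sub] at h1
  have h2 : t • t • u = (t • u + t • u) - u := by
    rw [sub_eq_iff_eq_add] at h1
    rw [h1]
    abel
  rw [h2, D.char2, zero_sub]
  exact neg_eq_of_add_eq_zero_left (D.char2 u)

theorem neg_eq (u : M) : -u = u := neg_eq_of_add_eq_zero_left (D.char2 u)

/-- axes are conjugate -/
theorem exists_smul {g g' : AddSubgroup M} (hg : IsAx (H := H) Ax g) (hg' : IsAx (H := H) Ax g') :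
    ∃ x : H, x • g = g' := by
  obtain ⟨h, i, rfl⟩ := hg
  obtain ⟨h', j, rfl⟩ := hg'
  obtain ⟨s, hs⟩ := D.trans i j
  exact ⟨h' * s * h⁻¹, by rw [mul_smul, mul_smul, inv_smul_smul, hs]⟩

theorem card_YY {g g' : AddSubgroup M} (hg : IsAx (H := H) Ax g) (hg' : IsAx (H := H) Ax g') :
    Nat.card (YY H Ax R g) = Nat.card (YY H Ax R g') := by
  obtain ⟨x, rfl⟩ := D.exists_smul hg hg'
  rw [YY_smul_eq]
  refine Nat.card_congr ⟨fun e => ⟨x • (e : M), AddSubgroup.smul_mem_pointwise_smul _ _ _ e.2⟩,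
    fun e => ⟨x⁻¹ • (e : M), mem_smul.mp e.2⟩, fun e => ?_, fun e => ?_⟩
  · ext; simp
  · ext; simp

omit D in
theorem eq_of_le' [Finite M] {a b : AddSubgroup M} (h : a ≤ b) (hc : Nat.card b ≤ Nat.card a) : a = b := by
  apply SetLike.coe_injective
  apply Set.eq_of_subset_of_ncard_le h
  exact hc

theorem smul_eq_of_not_adj {g g' : AddSubgroup M} (h : ¬ Adj H Ax R g' g) {t : H} (ht : t ∈ TT T Ax g') :
    t • g = g := by
  have hcon : YY H Ax R g' ≤ g := not_not.mp h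
  refine smul_eq_of (P := TT T Ax g') (fun t ht u hu => ?_) ht
  rw [mem_smul] at hu
  have h1 := hcon (D.TT_quad ht (t⁻¹ • u))
  have h2 := g.add_mem h1 hu
  rwa [sub_add_cancel, smul_inv_smul] at h2

theorem adj_symm [Finite M] {g g' : AddSubgroup M} (hg : IsAx (H := H) Ax g) (hg' : IsAx (H := H) Ax g')
    (h : Adj H Ax R g g') : Adj H Ax R g' g := by
  intro hcon
  -- `T_{g'}` normalises `g`
  have hn : ∀ t ∈ TT T Ax g', t • g = g := fun t ht => D.smul_eq_of_not_adj (not_not.mpr hcon) ht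
  obtain ⟨y, hy, hyg⟩ := Set.not_subset.mp h
  have h1 : YY H Ax R g' ≤ YY H Ax R g := by
    intro e he
    obtain ⟨t, ht, hte⟩ := D.TT_full hyg he
    have h2 : t • y ∈ YY H Ax R g := by
      have := YY_smul (Ax := Ax) (R := R) t g hy
      rwa [hn t ht] at this
    rw [hte] at h2
    have h3 := (YY H Ax R g).sub_mem h2 hy
    rwa [add_sub_cancel_left] at h3
  have h2 := eq_of_le' h1 (D.card_YY hg hg').le
  apply h
  rw [← h2]
  exact D.YY_le

end Rt

/-- Root groups with the hypotheses of THEOREM EXACT. -/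
structure Ex {ι : Type*} [Fintype ι] (T : ι → Subgroup H) (Ax R : ι → AddSubgroup M) : Prop extends
    Rt T Ax R where
  card : ∀ i j, Nat.card (M ⧸ Ax j) ≤ Nat.card (R i)
  big : ∀ i, 2 < Nat.card (R i)
  noff : ∀ r : M, Full R r → ∀ t : H, t • r = r → ∀ l, ∀ r' ∈ R l, ∀ i, t • r' ∈ Ax i
  nt : ∀ i, ∃ g, IsAx (H := H) Ax g ∧ ¬ R i ≤ g

namespace Ex

variable {ι : Type*} [Fintype ι] {T : ι → Subgroup H} {Ax R : ι → AddSubgroup M} (D : Ex T Ax R)
include D

theorem card_quot {g : AddSubgroup M} (hg : IsAx (H := H) Ax g) (i : ι) :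
    Nat.card (M ⧸ g) = Nat.card (M ⧸ Ax i) := by
  obtain ⟨x, rfl⟩ := D.exists_smul (Rt.isAx Ax i) hg
  exact (Nat.card_congr (QuotientAddGroup.congr (Ax i) (x • Ax i) (DistribMulAction.toAddEquiv M x)
    rfl).toEquiv).symm

/-- (6) an axis which contains a full vector contains all `R l` -/
theorem six [Finite M] {g : AddSubgroup M} (hg : IsAx (H := H) Ax g) {r : M} (hr : Full R r) (hrg : r ∈ g) (l : ι) :
    R l ≤ g := by
  by_contra hcon
  obtain ⟨z, hz, hzg⟩ := Set.not_subset.mp hcon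
  have h1 : ∀ i, YY H Ax R g ≤ Ax i := by
    intro i y hy
    obtain ⟨t, ht, hty⟩ := D.TT_full hzg hy
    have h2 := D.noff r hr t (D.TT_fix ht hrg) l z hz i
    rw [hty] at h2
    have h3 := (Ax i).sub_mem h2 (D.le l i hz)
    rwa [add_sub_cancel_left] at h3
  have h3 : Adj H Ax R (Ax l) g := fun h => hzg (h (Rt.R_le_YY l hz))
  exact D.adj_symm (Rt.isAx Ax l) hg h3 (h1 l)

theorem six' [Finite M] {g : AddSubgroup M} (hg : IsAx (H := H) Ax g) (t : H) {r : M}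
    (hr : Full R r) (hrg : t • r ∈ g) (l : ι) : t • R l ≤ g := by
  have h1 := D.six (hg.smul t⁻¹) hr (by rw [mem_smul, inv_inv]; exact hrg) l
  intro z hz
  rw [mem_smul] at hz
  have h3 := h1 hz
  rwa [mem_smul, inv_inv, smul_inv_smul] at h3

theorem ne_zero_of_big (i : ι) (r : M) : ∃ c ∈ R i, c ≠ 0 ∧ c ≠ r := by
  classical
  by_contra hcon
  push Not at hcon
  have h1 : ((R i : AddSubgroup M) : Set M) ⊆ ({0, r} : Set M) := by
    intro c hc
    by_cases h0 : c = 0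
    · exact Or.inl h0
    · exact Or.inr (hcon c hc h0)
  have h2 : Nat.card (R i) ≤ 2 := by
    have h3 := Set.ncard_le_ncard h1 (Set.toFinite _)
    have h4 : ({0, r} : Set M).ncard ≤ 2 := by
      have h5 := Set.ncard_insert_le (0 : M) {r}
      rwa [Set.ncard_singleton] at h5
    exact h3.trans h4
  exact absurd (D.big i) (by omega)

/-- (7), first part -/
theorem seven [Finite M] {g : AddSubgroup M} (hg : IsAx (H := H) Ax g) {l : ι} (hl : ¬ R l ≤ g) :
    ∃ i, ∀ r ∈ R i, r ∈ g → r = 0 := by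
  by_contra hcon
  push Not at hcon
  choose f h1 h2 h3 using hcon
  exact hl (D.six hg ⟨f, fun i => ⟨h1 i, h3 i⟩, rfl⟩ (g.sum_mem fun i _ => h2 i) l)

theorem inj_surj [Finite M] {g : AddSubgroup M} (hg : IsAx (H := H) Ax g) {i : ι}
    (h : ∀ r ∈ R i, r ∈ g → r = 0) :
    Nat.card (M ⧸ g) = Nat.card (R i) ∧ ∀ u : M, ∃ r ∈ R i, r + u ∈ g := by
  let φ : R i → M ⧸ g := fun r => QuotientAddGroup.mk (r : M)
  have hinj : Function.Injective φ := by
    intro a b hab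
    have h1 : -(a : M) + b ∈ g := QuotientAddGroup.eq.mp hab
    have h2 := h _ ((R i).add_mem ((R i).neg_mem a.2) b.2) h1
    exact Subtype.ext (neg_add_eq_zero.mp h2)
  have hbij : Function.Bijective φ := by
    refine hinj.bijective_of_nat_card_le ?_
    rw [D.card_quot hg i]
    exact D.card i i
  refine ⟨(Nat.card_congr (Equiv.ofBijective φ hbij)).symm, fun u => ?_⟩
  obtain ⟨r, hr⟩ := hbij.2 (QuotientAddGroup.mk u)
  have h1 : -(r : M) + u ∈ g := QuotientAddGroup.eq.mp hr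
  rw [D.neg_eq] at h1
  exact ⟨r, r.2, h1⟩

/-- (7), second part -/
theorem others [Finite M] {g : AddSubgroup M} (hg : IsAx (H := H) Ax g) {l₀ : ι} (hZ : ¬ R l₀ ≤ g) {i : ι}
    (h : ∀ r ∈ R i, r ∈ g → r = 0) {l : ι} (hl : l ≠ i) : R l ≤ g := by
  classical
  -- nonzero vectors
  have hx : ∀ m, ∃ x ∈ R m, x ≠ 0 := fun m => by
    obtain ⟨c, hc, hc0, -⟩ := D.ne_zero_of_big m 0
    exact ⟨c, hc, hc0⟩
  choose x hxR hx0 using hx
  obtain ⟨-, hs⟩ := D.inj_surj hg h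
  let ρ : M → M := fun d => d + ∑ m ∈ (Finset.univ.erase l).erase i, x m
  have key : ∀ d ∈ R l, d ≠ 0 → ρ d ∈ g := by
    intro d hd hd0
    obtain ⟨s, hsR, hsg⟩ := hs (ρ d)
    by_cases hs0 : s = 0
    · rwa [hs0, zero_add] at hsg
    · exfalso
      refine hZ (D.six hg (r := s + ρ d)
        ⟨fun m => if m = i then s else if m = l then d else x m, fun m => ?_, ?_⟩ hsg l₀)
      · by_cases h1 : m = i
        · subst h1; simp only [if_true]; exact ⟨hsR, hs0⟩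
        · by_cases h2 : m = l
          · subst h2; simp only [if_neg h1, if_true]; exact ⟨hd, hd0⟩
          · simp only [if_neg h1, if_neg h2]; exact ⟨hxR m, hx0 m⟩
      · have hiu : i ∈ Finset.univ.erase l := Finset.mem_erase.mpr ⟨hl.symm, Finset.mem_univ _⟩
        rw [← Finset.add_sum_erase Finset.univ _ (Finset.mem_univ l), ← Finset.add_sum_erase _ _ hiu]
        simp only [if_true, if_neg hl]
        have h1 : ∑ m ∈ (Finset.univ.erase l).erase i, (if m = i then s else if m = l then d else x m)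
            = ∑ m ∈ (Finset.univ.erase l).erase i, x m := by
          refine Finset.sum_congr rfl fun m hm => ?_
          rw [Finset.mem_erase, Finset.mem_erase] at hm
          rw [if_neg hm.1, if_neg hm.2.1]
        rw [h1]
        change s + (d + _) = d + (s + _)
        abel
  intro r hr
  by_cases hr0 : r = 0
  · rw [hr0]; exact g.zero_mem
  obtain ⟨c, hc, hc0, hcr⟩ := D.ne_zero_of_big l r
  have h1 := key c hc hc0
  have h2 := key (c + r) ((R l).add_mem hc hr) (fun h0 => hcr (by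
    rw [← D.neg_eq r]; exact eq_neg_of_add_eq_zero_left h0))
  have h3 := g.sub_mem h2 h1
  have h4 : ρ (c + r) - ρ c = r := by
    change (c + r + _) - (c + _) = r
    abel
  rwa [h4] at h3

/-- (7): the axes not containing `R i`. -/
theorem spec [Finite M] {g : AddSubgroup M} (hg : IsAx (H := H) Ax g) {i : ι} (hi : ¬ R i ≤ g) :
    (∀ l, l ≠ i → R l ≤ g) ∧ Nat.card (M ⧸ g) = Nat.card (R i) ∧
      (∀ u : M, ∃ r ∈ R i, r + u ∈ g) ∧ ∀ r ∈ R i, r ∈ g → r = 0 := by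
  obtain ⟨j, hj⟩ := D.seven hg hi
  have hji : j = i := by
    by_contra hne
    exact hi (D.others hg hi hj (fun h => hne h.symm))
  subst hji
  exact ⟨fun l hl => D.others hg hi hj hl, (D.inj_surj hg hj).1, (D.inj_surj hg hj).2, hj⟩

/-- (8), no edges between different `NN`. -/
theorem eight [Finite M] {g g' : AddSubgroup M} (hg : IsAx (H := H) Ax g) (hg' : IsAx (H := H) Ax g')
    {i j : ι} (hi : ¬ R i ≤ g) (hj : ¬ R j ≤ g') (hij : i ≠ j) : ¬ Adj H Ax R g g' := by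
  classical
  intro hadj
  obtain ⟨y, hy, hyg⟩ := Set.not_subset.mp hadj
  obtain ⟨h1, -, -, -⟩ := D.spec hg hi
  obtain ⟨h2, -, h3, -⟩ := D.spec hg' hj
  obtain ⟨s, hsR, hsg⟩ := h3 y
  have hs0 : s ≠ 0 := by
    rintro rfl
    rw [zero_add] at hsg
    exact hyg hsg
  obtain ⟨a, haR, hag⟩ := Set.not_subset.mp hi
  have ha0 : a ≠ 0 := fun h => hag (h ▸ g.zero_mem)
  obtain ⟨t, ht, hta⟩ := D.TT_full hag hy
  have hx : ∀ m, ∃ x ∈ R m, x ≠ 0 := fun m => by
    obtain ⟨c, hc, hc0, -⟩ := D.ne_zero_of_big m 0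
    exact ⟨c, hc, hc0⟩
  choose x hxR hx0 using hx
  let f : ι → M := fun m => if m = i then a else if m = j then s else x m
  have hfi : f i = a := if_pos rfl
  have hfj : f j = s := by
    change (if j = i then a else if j = j then s else x j) = s
    rw [if_neg hij.symm, if_pos rfl]
  have hf : ∀ m, f m ∈ R m ∧ f m ≠ 0 := by
    intro m
    by_cases e1 : m = i
    · subst e1; rw [hfi]; exact ⟨haR, ha0⟩
    · by_cases e2 : m = j
      · subst e2; rw [hfj]; exact ⟨hsR, hs0⟩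
      · have : f m = x m := by
          change (if m = i then a else if m = j then s else x m) = x m
          rw [if_neg e1, if_neg e2]
        rw [this]
        exact ⟨hxR m, hx0 m⟩
  have hsum : t • (∑ m, f m) = (∑ m ∈ Finset.univ.erase j, f m) + (s + y) := by
    rw [← Finset.add_sum_erase Finset.univ f (Finset.mem_univ i), smul_add, hfi, hta, Finset.smul_sum]
    have e1 : ∑ m ∈ Finset.univ.erase i, t • f m = ∑ m ∈ Finset.univ.erase i, f m := by
      refine Finset.sum_congr rfl fun m hm => ?_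
      rw [Finset.mem_erase] at hm
      exact D.TT_fix ht (h1 m hm.1 (hf m).1)
    rw [e1]
    have e2 : a + ∑ m ∈ Finset.univ.erase i, f m = s + ∑ m ∈ Finset.univ.erase j, f m := by
      rw [← hfi, Finset.add_sum_erase Finset.univ f (Finset.mem_univ i), ← hfj,
        Finset.add_sum_erase Finset.univ f (Finset.mem_univ j)]
    have e3 : a + y + ∑ m ∈ Finset.univ.erase i, f m = (a + ∑ m ∈ Finset.univ.erase i, f m) + y := by abel
    rw [e3, e2]
    abel
  have hmem : t • (∑ m, f m) ∈ g' := by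
    rw [hsum]
    refine g'.add_mem (g'.sum_mem fun m hm => ?_) hsg
    rw [Finset.mem_erase] at hm
    exact h2 m hm.1 (hf m).1
  have h4 := D.six' hg' t ⟨f, hf, rfl⟩ hmem j
  apply hj
  intro r hr
  have h5 := h4 (AddSubgroup.smul_mem_pointwise_smul _ t _ hr)
  rwa [D.TT_fix ht (h1 j hij.symm hr)] at h5

omit D in
/-- the union of components `CC i` -/
def CC (H : Type*) [Group H] {M : Type*} [AddCommGroup M] [DistribMulAction H M] {ι : Type*}
    (Ax R : ι → AddSubgroup M) (i : ι) (g : AddSubgroup M) : Prop :=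
  IsAx (H := H) Ax g ∧ (¬ R i ≤ g ∨ ((∀ l, R l ≤ g) ∧
    ∃ g2, IsAx (H := H) Ax g2 ∧ ¬ R i ≤ g2 ∧ Adj H Ax R g g2))

/-- `CC i` is closed under adjacency -/
theorem CC_adj [Finite M] {i : ι} {g g' : AddSubgroup M} (h : CC H Ax R i g) (hg' : IsAx (H := H) Ax g')
    (hadj : Adj H Ax R g g') : CC H Ax R i g' := by
  obtain ⟨hg, h⟩ := h
  have hadj' := D.adj_symm hg hg' hadj
  refine ⟨hg', ?_⟩
  rcases h with h | ⟨hZ, g2, hg2, hi2, ha2⟩
  · by_cases hZ' : ∀ l, R l ≤ g'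
    · exact Or.inr ⟨hZ', g, hg, h, hadj'⟩
    · left
      push Not at hZ'
      obtain ⟨j, hj⟩ := hZ'
      by_cases hij : i = j
      · rwa [hij]
      · exact absurd hadj (D.eight hg hg' h hj hij)
  · -- move `g` into `NN i`
    obtain ⟨hl2, -, -, -⟩ := D.spec hg2 hi2
    obtain ⟨z, hz, hz2⟩ := Set.not_subset.mp hi2
    obtain ⟨y, hy, hyg⟩ := Set.not_subset.mp (D.adj_symm hg hg2 ha2)
    obtain ⟨t, ht, htz⟩ := D.TT_full hz2 hy
    have hz1 : ¬ R i ≤ t⁻¹ • g := by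
      intro h1
      have h2 := h1 hz
      rw [mem_smul, inv_inv, htz] at h2
      have h3 := g.sub_mem h2 (hZ i hz)
      rw [add_sub_cancel_left] at h3
      exact hyg h3
    have hg1 : IsAx (H := H) Ax (t⁻¹ • g) := hg.smul _
    -- a neighbour `g'` with `g'` not adjacent to `g2` is fixed by `t`
    have hfix : ¬ Adj H Ax R g2 g' → Adj H Ax R (t⁻¹ • g) g' := by
      intro h1
      have h2 := D.smul_eq_of_not_adj h1 (Subgroup.inv_mem _ ht)
      have h3 := adj_smul t⁻¹ hadj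
      rwa [h2] at h3
    by_cases hZ' : ∀ l, R l ≤ g'
    · right
      refine ⟨hZ', ?_⟩
      by_cases h1 : Adj H Ax R g2 g'
      · exact ⟨g2, hg2, hi2, D.adj_symm hg2 hg' h1⟩
      · exact ⟨t⁻¹ • g, hg1, hz1, D.adj_symm hg1 hg' (hfix h1)⟩
    · left
      push Not at hZ'
      obtain ⟨j, hj⟩ := hZ'
      by_cases hij : i = j
      · rwa [hij]
      · exact absurd (hfix (D.eight hg2 hg' hi2 hj hij)) (D.eight hg1 hg' hz1 hj hij)

theorem CC_disj [Finite M] {i j : ι} {g : AddSubgroup M} (hi : CC H Ax R i g) (hj : CC H Ax R j g) :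
    i = j := by
  by_contra hij
  rcases hj.2 with h2 | ⟨hZ, g3, hg3, hi3, ha3⟩
  · rcases hi.2 with h1 | ⟨hZ, -⟩
    · exact h2 ((D.spec hi.1 h1).1 j (fun h => hij h.symm))
    · exact h2 (hZ j)
  · have h1 := D.CC_adj hi hg3 ha3
    rcases h1.2 with h2 | ⟨hZ3, -⟩
    · exact hi3 ((D.spec hg3 h2).1 j (fun h => hij h.symm))
    · exact hi3 (hZ3 j)

theorem CC_self [Finite M] (i : ι) : CC H Ax R i (Ax i) := by
  refine ⟨Rt.isAx Ax i, Or.inr ⟨fun l => D.le l i, ?_⟩⟩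
  obtain ⟨g, hg, hi⟩ := D.nt i
  exact ⟨g, hg, hi, fun h => hi ((Rt.R_le_YY i).trans h)⟩

theorem card_eq [Finite M] (i j : ι) : Nat.card (M ⧸ Ax j) = Nat.card (R i) := by
  obtain ⟨g, hg, hi⟩ := D.nt i
  rw [← (D.spec hg hi).2.1, D.card_quot hg j]

/-- **THEOREM EXACT WITH RADICAL**, abstract form. -/
theorem exact [Finite M] (i : ι) (u : M) : ∃ v : M, (∀ l, l ≠ i → v ∈ Ax l) ∧ v + u ∈ Ax i := by
  obtain ⟨g, hg, hi⟩ := D.nt i
  have h1 : Adj H Ax R (Ax i) g := fun h => hi ((Rt.R_le_YY i).trans h)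
  have h2 := D.adj_symm (Rt.isAx Ax i) hg h1
  -- a conjugate of some `R j` in `YY g`, not contained in `Ax i`
  have h3 : ∃ (h : H) (j : ι), h • Ax j = g ∧ ¬ h • R j ≤ Ax i := by
    by_contra hcon
    push Not at hcon
    apply h2
    unfold YY
    rw [AddSubgroup.closure_le]
    rintro m ⟨h, j, hg, y, hy, rfl⟩
    exact hcon h j hg (AddSubgroup.smul_mem_pointwise_smul _ _ _ hy)
  obtain ⟨h, j, hgj, hj⟩ := h3
  have h4 : ¬ R j ≤ h⁻¹ • Ax i := by
    intro h5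
    apply hj
    intro m hm
    rw [mem_smul] at hm
    have h6 := h5 hm
    rwa [mem_smul, inv_inv, smul_inv_smul] at h6
  obtain ⟨-, -, h5, -⟩ := D.spec ((Rt.isAx Ax i).smul h⁻¹) h4
  obtain ⟨r, hr, hru⟩ := h5 (h⁻¹ • u)
  refine ⟨h • r, fun l hl => ?_, ?_⟩
  · have h6 : h • r ∈ YY H Ax R g := AddSubgroup.subset_closure ⟨h, j, hgj, r, hr, rfl⟩
    by_contra h7
    have h8 : Adj H Ax R g (Ax l) := fun h => h7 (h h6)
    have h9 := D.CC_adj (i := i) ⟨hg, Or.inl hi⟩ (Rt.isAx Ax l) h8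
    exact hl (D.CC_disj (D.CC_self l) h9)
  · rw [mem_smul, inv_inv, smul_add, smul_inv_smul] at hru
    exact hru

/-- **(TI)** a centre is contained in an axis or is a complement of it. -/
theorem ti [Finite M] {g : AddSubgroup M} (hg : IsAx (H := H) Ax g) (x : H) (i : ι) (hx : ¬ x • R i ≤ g) :
    (∀ m ∈ x • R i, m ∈ g → m = 0) ∧ ∀ u : M, ∃ r ∈ x • R i, r + u ∈ g := by
  have h4 : ¬ R i ≤ x⁻¹ • g := by
    intro h5
    apply hx
    intro m hm
    rw [mem_smul] at hm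
    have h6 := h5 hm
    rwa [mem_smul, inv_inv, smul_inv_smul] at h6
  obtain ⟨-, -, h5, h6⟩ := D.spec (hg.smul x⁻¹) h4
  constructor
  · intro m hm hmg
    rw [mem_smul] at hm
    have h7 := h6 _ hm (by rw [mem_smul, inv_inv, smul_inv_smul]; exact hmg)
    rwa [smul_eq_zero_iff_eq] at h7
  · intro u
    obtain ⟨r, hr, hru⟩ := h5 (x⁻¹ • u)
    rw [mem_smul, inv_inv, smul_add, smul_inv_smul] at hru
    exact ⟨x • r, AddSubgroup.smul_mem_pointwise_smul _ _ _ hr, hru⟩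

/-- different `Ax i` are in different components -/
theorem not_reach [Finite M] {i j : ι}
    (h : Relation.ReflTransGen (fun g g' => IsAx (H := H) Ax g' ∧ Adj H Ax R g g') (Ax i) (Ax j)) : i = j := by
  have h1 : ∀ g, Relation.ReflTransGen (fun g g' => IsAx (H := H) Ax g' ∧ Adj H Ax R g g') (Ax i) g →
      CC H Ax R i g := by
    intro g hg
    induction hg with
    | refl => exact D.CC_self i
    | tail _ hbc ih => exact D.CC_adj ih hbc.1 hbc.2
  exact D.CC_disj (h1 _ h) (D.CC_self j)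

end Ex

end Cfsg.Agent.Omega.NOThreeL.RSplit.Root

end

section


/-!
# NO-3L, box R, `q > 2`: (F'), (P), (M), (2) of #19602 for root groups

`axSys` : root groups `Rt T Ax R` with `2 < |R i|` are an axis system (`RBig.Trans.AxSys`);
`sit` : with a vector `z` fixed by a Sylow 2-subgroup, `H = N C_H(z)`, `N = ⟨T i ^ H⟩`, not fixed by `N`, the situation
`RBig.Trans.Sit`: `Sit.inf`, `Sit.orbit`, `Sit.mem`, `Sit.transU`, `Sit.mem_all`, `Sit.F'`.
-/

set_option autoImplicit false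

namespace Cfsg.Agent.Omega.NOThreeL.RSplit.TransRt

open Cfsg.Agent.Omega.NOThreeL.ThmAx (IsAx TT YY Adj mem_smul YY_smul_eq IsAx.smul)
open Cfsg.Agent.Omega.NOThreeL.RSplit.Root Cfsg.Agent.Omega.NOThreeL.RBig.Trans
open scoped Pointwise

variable {H M : Type*} [Group H] [AddCommGroup M] [DistribMulAction H M]
variable {ι : Type*} {T : ι → Subgroup H} {Ax R : ι → AddSubgroup M}

/-- the set of axes -/
def Axs (H : Type*) [Group H] {M : Type*} [AddCommGroup M] [DistribMulAction H M] {ι : Type*}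
    (Ax : ι → AddSubgroup M) : Set (AddSubgroup M) := {g | IsAx (H := H) Ax g}

theorem exists_big [Finite M] (i : ι) (h : 2 < Nat.card (R i)) (r : M) : ∃ c ∈ R i, c ≠ 0 ∧ c ≠ r := by
  by_contra hcon
  push Not at hcon
  have h1 : ((R i : AddSubgroup M) : Set M) ⊆ {0, r} := fun c hc => by
    by_cases h0 : c = 0
    · exact Or.inl h0
    · exact Or.inr (hcon c hc h0)
  have h2 : Nat.card (R i) ≤ ({0, r} : Set M).ncard := by
    rw [← SetLike.coe_sort_coe, Nat.card_coe_set_eq]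
    exact Set.ncard_le_ncard h1 (Set.toFinite _)
  have h3 : ({0, r} : Set M).ncard ≤ 2 := by
    classical
    exact (Set.ncard_insert_le _ _).trans (by rw [Set.ncard_singleton])
  omega

theorem conj_TT (x : H) {g : AddSubgroup M} {t : H} (ht : t ∈ TT T Ax g) : x * t * x⁻¹ ∈ TT T Ax (x • g) := by
  induction ht using Subgroup.closure_induction with
  | mem t ht =>
    obtain ⟨h, i, hg, s, hs, rfl⟩ := ht
    refine Subgroup.subset_closure ⟨x * h, i, by rw [mul_smul, hg], s, hs, by group⟩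
  | one => rw [mul_one, mul_inv_cancel]; exact one_mem _
  | mul a b _ _ ha hb =>
    have e : x * (a * b) * x⁻¹ = (x * a * x⁻¹) * (x * b * x⁻¹) := by group
    rw [e]
    exact mul_mem ha hb
  | inv a _ ha =>
    have e : x * a⁻¹ * x⁻¹ = (x * a * x⁻¹)⁻¹ := by group
    rw [e]
    exact inv_mem ha

/-- Root groups are an axis system. -/
theorem axSys [Finite M] (D : Rt T Ax R) (big : ∀ i, 2 < Nat.card (R i)) :
    AxSys (Axs H Ax) (TT T Ax) (YY H Ax R) where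
  char2 := D.char2
  inv := fun x _ hg => IsAx.smul hg x
  conjT := fun x _ _ _ ht => conj_TT x ht
  conjY := fun x g _ => YY_smul_eq x g
  le := fun _ _ => D.YY_le
  fix := fun _ _ _ ht _ hu => D.TT_fix ht hu
  quad := fun _ _ t ht u => by
    have h := D.TT_quad ht u
    have e : t • u - u = t • u + u := by
      rw [sub_eq_add_neg, neg_eq_of_add_eq_zero_left (D.char2 u)]
    rwa [e] at h
  full := fun _ _ _ hu _ hy => D.TT_full hu hy
  symm := fun _ hg _ hg' h => D.adj_symm hg hg' h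
  big := by
    rintro _ ⟨h, i, rfl⟩ r
    obtain ⟨c, hc, hc0, hcr⟩ := exists_big i (big i) (h⁻¹ • r)
    refine ⟨h • c, ?_, fun h0 => hc0 ?_, fun h0 => hcr ?_⟩
    · rw [YY_smul_eq]
      exact AddSubgroup.smul_mem_pointwise_smul _ _ _ (Rt.R_le_YY i hc)
    · rw [smul_eq_zero_iff_eq] at h0
      exact h0
    · rw [← h0, inv_smul_smul]
  trans := fun _ hg _ hg' => D.exists_smul hg hg'

/-- `N = ⟨x T_i x⁻¹⟩` -/
theorem conj_mem_NN {x t : H} {i : ι} (ht : t ∈ T i) : x * t * x⁻¹ ∈ NN (Axs H Ax) (TT T Ax) :=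
  (le_iSup₂_of_le (x • Ax i) ⟨x, i, rfl⟩ le_rfl : TT T Ax (x • Ax i) ≤ NN (Axs H Ax) (TT T Ax))
    (Subgroup.subset_closure ⟨x, i, rfl, t, ht, rfl⟩)

/-- The situation of a vector. -/
theorem sit [Finite M] (D : Rt T Ax R) (big : ∀ i, 2 < Nat.card (R i)) {z : M}
    (syl : ∃ S : Sylow 2 H, ∀ s ∈ S, s • z = z) (gen : ∀ h : H, ∃ n ∈ NN (Axs H Ax) (TT T Ax), (n⁻¹ * h) • z = z)
    (ne : ∃ (x : H) (i : ι), z ∉ x • Ax i) : Sit (Axs H Ax) (TT T Ax) (YY H Ax R) z where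
  toAxSys := axSys D big
  syl := syl
  gen := gen
  ne := by
    obtain ⟨x, i, h⟩ := ne
    exact ⟨_, ⟨x, i, rfl⟩, h⟩

end Cfsg.Agent.Omega.NOThreeL.RSplit.TransRt

end

section


/-!
# A normal abelian subgroup as a module

`A : Nrm H U` : `U` is abelian and normalised by `H`; `A.Mod` is `U` written additively, with the action of `H` by
conjugation; `A.val : A.Mod → G`, `A.of x hx : A.Mod`; `A.ad B = U ∩ B` as an additive subgroup.
-/

set_option autoImplicit false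

namespace Cfsg.Agent.Omega.NOThreeL.RSplit

open Subgroup
open Cfsg.Agent.Omega.NoFF.Basic (mem_conj)
open scoped Pointwise

universe u

variable {G : Type u} [Group G]

/-- `H` normalises the abelian group `U`. -/
structure Nrm (H U : Subgroup G) : Prop where
  ab : ∀ u ∈ U, ∀ v ∈ U, u * v = v * u
  nrm : H ≤ normalizer (U : Set G)

/-- `U` as an `H`-module. -/
def Nrm.Mod {H U : Subgroup G} (_ : Nrm H U) : Type u := Additive U

namespace Nrm

variable {H U : Subgroup G} (A : Nrm H U)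

instance : AddCommGroup A.Mod :=
  { (inferInstance : AddGroup (Additive U)) with
    add_comm := fun v w => congrArg Additive.ofMul
      (Subtype.ext (A.ab _ (Additive.toMul v).2 _ (Additive.toMul w).2)) }

instance [Finite G] : Finite A.Mod := inferInstanceAs (Finite U)

include A in
theorem nrm' {x u : G} (hx : x ∈ H) (hu : u ∈ U) : x * u * x⁻¹ ∈ U := (mem_normalizer_iff.1 (A.nrm hx) u).1 hu

instance : DistribMulAction H A.Mod where
  smul x v := Additive.ofMul ⟨x * (Additive.toMul (v : Additive U) : U) * (x : G)⁻¹,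
    A.nrm' x.2 (Additive.toMul (v : Additive U)).2⟩
  one_smul v := congrArg Additive.ofMul (Subtype.ext (by
    change ((1 : H) : G) * (Additive.toMul (v : Additive U) : U) * ((1 : H) : G)⁻¹ =
      (Additive.toMul (v : Additive U) : U)
    rw [OneMemClass.coe_one, one_mul, inv_one, mul_one]))
  mul_smul x y v := congrArg Additive.ofMul (Subtype.ext (by
    change ((x * y : H) : G) * (Additive.toMul (v : Additive U) : U) * ((x * y : H) : G)⁻¹ =
      x * (y * (Additive.toMul (v : Additive U) : U) * (y : G)⁻¹) * (x : G)⁻¹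
    rw [Subgroup.coe_mul]; group))
  smul_zero x := congrArg Additive.ofMul (Subtype.ext (by
    change (x : G) * ((1 : U) : G) * (x : G)⁻¹ = ((1 : U) : G)
    rw [OneMemClass.coe_one, mul_one, mul_inv_cancel]))
  smul_add x v w := congrArg Additive.ofMul (Subtype.ext (by
    change (x : G) * ((Additive.toMul (v : Additive U) * Additive.toMul (w : Additive U) : U) : G) * (x : G)⁻¹ =
      (x * (Additive.toMul (v : Additive U) : U) * (x : G)⁻¹) *
        (x * (Additive.toMul (w : Additive U) : U) * (x : G)⁻¹)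
    rw [Subgroup.coe_mul]; group))

/-- the element of `G` -/
def val (m : A.Mod) : G := ((Additive.toMul (m : Additive U) : U) : G)

/-- the element of the module -/
def of (x : G) (hx : x ∈ U) : A.Mod := (Additive.ofMul (⟨x, hx⟩ : U) : Additive U)

@[simp] theorem val_of (x : G) (hx : x ∈ U) : A.val (A.of x hx) = x := rfl

theorem val_mem (m : A.Mod) : A.val m ∈ U := (Additive.toMul (m : Additive U)).2

@[simp] theorem of_val (m : A.Mod) : A.of (A.val m) (A.val_mem m) = m := rfl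

variable {A}

theorem ext {m m' : A.Mod} (h : A.val m = A.val m') : m = m' :=
  congrArg Additive.ofMul (Subtype.ext h)

theorem ext_iff {m m' : A.Mod} : m = m' ↔ A.val m = A.val m' := ⟨fun h => by rw [h], ext⟩

@[simp] theorem val_zero : A.val 0 = 1 := rfl

@[simp] theorem val_add (m m' : A.Mod) : A.val (m + m') = A.val m * A.val m' := rfl

@[simp] theorem val_neg (m : A.Mod) : A.val (-m) = (A.val m)⁻¹ := rfl

@[simp] theorem val_sub (m m' : A.Mod) : A.val (m - m') = A.val m * (A.val m')⁻¹ := by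
  rw [sub_eq_add_neg, val_add, val_neg]

@[simp] theorem val_smul (h : H) (m : A.Mod) : A.val (h • m) = h * A.val m * (h : G)⁻¹ := rfl

theorem eq_zero_iff {m : A.Mod} : m = 0 ↔ A.val m = 1 := by rw [ext_iff, val_zero]

variable (A) in
/-- `U ∩ B` as an additive subgroup -/
def ad (B : Subgroup G) : AddSubgroup A.Mod where
  carrier := {m | A.val m ∈ B}
  zero_mem' := B.one_mem
  add_mem' ha hb := B.mul_mem ha hb
  neg_mem' ha := B.inv_mem ha

theorem mem_ad {B : Subgroup G} {m : A.Mod} : m ∈ A.ad B ↔ A.val m ∈ B := Iff.rfl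

theorem ad_le_iff {B C : Subgroup G} : A.ad B ≤ A.ad C ↔ U ⊓ B ≤ C :=
  ⟨fun h x hx => h (show A.of x hx.1 ∈ A.ad B from hx.2), fun h m hm => h ⟨A.val_mem m, hm⟩⟩

theorem ad_mono {B C : Subgroup G} (h : B ≤ C) : A.ad B ≤ A.ad C := fun _ hm => h hm

theorem smul_ad (h : H) (B : Subgroup G) : h • A.ad B = A.ad (MulAut.conj (h : G) • B) := by
  ext m
  rw [ThmAx.mem_smul, mem_ad, mem_ad, mem_conj, val_smul]
  rw [InvMemClass.coe_inv, inv_inv]

theorem card_ad {B : Subgroup G} (hB : B ≤ U) : Nat.card (A.ad B) = Nat.card B :=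
  Nat.card_congr ⟨fun m => ⟨A.val m, m.2⟩, fun b => ⟨A.of b (hB b.2), b.2⟩, fun _ => rfl, fun _ => rfl⟩

end Nrm

end Cfsg.Agent.Omega.NOThreeL.RSplit

end

section


/-!
# NO-3L, box R, `q > 2`, split (helper797 #19602 (5)): hulls and points, abstract

`Comp T Ax R A N U` : `A` = the axes of one component, `N` a group fixing `A` and transitive on `U - 0`, `U` contains
all centres `x • R i` with axis in `A`; `ti` = 797's `Ex.ti`.

* `hull A U x` : the elements of `U` in all axes (in `A`) containing `x`;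
* `Comp.mem_iff_of_mem_hull` : `y ∈ hull x`, `y ≠ 0` lies in the same axes as `x`;
* **`Comp.hull_eq`** : `hull x = c • R i` for every centre `c • R i` (axis in `A`) containing `x`;
* `Comp.root_eq` : two centres with a common vector `≠ 0` are equal; `Comp.exists_root` : every vector of `U` is in one;
* `five` : 884's (5); `Comp.mem_root`, **`mem_root_sum`** : the components of `z` are in the `R i`.
-/

set_option autoImplicit false

namespace Cfsg.Agent.Omega.NOThreeL.RSplit.Hull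

open scoped Pointwise
open Cfsg.Agent.Omega.NOThreeL.ThmAx (Full IsAx TT YY Adj mem_smul smul_eq_of YY_smul YY_smul_eq adj_smul IsAx.smul)
open Cfsg.Agent.Omega.NOThreeL.RSplit.Root (Rt)

variable {H M : Type*} [Group H] [AddCommGroup M] [DistribMulAction H M]

/-- One component. -/
structure Comp {ι : Type*} (T : ι → Subgroup H) (Ax R : ι → AddSubgroup M) (A : Set (AddSubgroup M))
    (N : Subgroup H) (U : AddSubgroup M) : Prop extends Rt T Ax R where
  ti : ∀ {g : AddSubgroup M}, IsAx (H := H) Ax g → ∀ (x : H) (i : ι), ¬ x • R i ≤ g →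
    (∀ m ∈ x • R i, m ∈ g → m = 0) ∧ ∀ u : M, ∃ r ∈ x • R i, r + u ∈ g
  isax : ∀ g ∈ A, IsAx (H := H) Ax g
  inv : ∀ n ∈ N, ∀ g ∈ A, n • g ∈ A
  root : ∀ (x : H) (i : ι), x • Ax i ∈ A → x • R i ≤ U
  uinv : ∀ n ∈ N, ∀ u ∈ U, n • u ∈ U
  tr : ∀ x ∈ U, x ≠ 0 → ∀ y ∈ U, y ≠ 0 → ∃ n ∈ N, n • x = y
  sep : ∀ x ∈ U, x ≠ 0 → ∃ g ∈ A, x ∉ g
  rne : ∀ i, R i ≠ ⊥

/-- The elements of `U` which lie in all axes containing `x`. -/
def hull (A : Set (AddSubgroup M)) (U : AddSubgroup M) (x : M) : AddSubgroup M where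
  carrier := {y | y ∈ U ∧ ∀ g ∈ A, x ∈ g → y ∈ g}
  zero_mem' := ⟨U.zero_mem, fun g _ _ => g.zero_mem⟩
  add_mem' := fun {a b} ha hb => ⟨U.add_mem ha.1 hb.1, fun g hg hx => g.add_mem (ha.2 g hg hx) (hb.2 g hg hx)⟩
  neg_mem' := fun {a} ha => ⟨U.neg_mem ha.1, fun g hg hx => g.neg_mem (ha.2 g hg hx)⟩

/-- 884's (5) -/
theorem five {ι : Type*} {T : ι → Subgroup H} {Ax R : ι → AddSubgroup M} (D : Rt T Ax R) [Finite M]
    {g : AddSubgroup M} (hg : IsAx (H := H) Ax g) {z : M}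
    (two : ∀ i, ∀ a ∈ T i, ∀ b : H, b • z = z → (∀ u : M, b • b • u = u) →
      ∃ n : ℕ, ∀ u : M, ((b * a) ^ (2 ^ n)) • u = u) (hzg : z ∈ g) (i : ι) : R i ≤ g := by
  by_contra hcon
  obtain ⟨r, hr, hrg⟩ := Set.not_subset.mp hcon
  have h1 : Adj H Ax R (Ax i) g := fun h => hcon ((Rt.R_le_YY i).trans h)
  obtain ⟨u, hu, hui⟩ := Set.not_subset.mp (D.adj_symm (Rt.isAx Ax i) hg h1)
  obtain ⟨b, hb, hbr⟩ := D.TT_full hrg hu
  obtain ⟨a, ha, hau⟩ := D.full i u hui r hr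
  have hbz : b • z = z := D.TT_fix hb hzg
  obtain ⟨n, hn⟩ := two i a ha b hbz (D.TT_invol hb)
  have hbu : b • u = u := D.TT_fix hb (D.YY_le hu)
  have har : a • r = r := D.fix i a ha r (D.le i i hr)
  set k : H := b * a with hk
  have e1 : k • r = r + u := by rw [hk, mul_smul, har, hbr]
  have e2 : k • u = r := by
    rw [hk, mul_smul, hau, smul_add, hbu, hbr, ← add_assoc, add_comm u r, add_assoc, D.char2, add_zero]
  have e3 : k • (r + u) = u := by
    rw [smul_add, e1, e2, add_comm r u, add_assoc, D.char2, add_zero]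
  have h3 : (k ^ 3) • r = r := by
    rw [pow_succ, pow_succ, pow_one, mul_smul, mul_smul, e1, e3, e2]
  have h4 : MulAction.period k r ∣ 3 := MulAction.pow_smul_eq_iff_period_dvd.mp h3
  have h5 : MulAction.period k r ∣ 2 ^ n := MulAction.pow_smul_eq_iff_period_dvd.mp (hn r)
  have h6 : MulAction.period k r ∣ 1 := by
    have h7 : Nat.Coprime 3 (2 ^ n) := Nat.Coprime.pow_right n (by decide)
    have h8 := Nat.dvd_gcd h4 h5
    rwa [h7] at h8
  have h7 : (k ^ 1) • r = r := MulAction.pow_smul_eq_iff_period_dvd.mpr h6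
  rw [pow_one, e1] at h7
  have h8 : u = 0 := by simpa using h7
  exact hui (h8 ▸ (Ax i).zero_mem)

/-- A vector fixed by `TT g` lies in `g`. -/
theorem mem_of_fix {ι : Type*} {T : ι → Subgroup H} {Ax R : ι → AddSubgroup M} (D : Rt T Ax R)
    (hR : ∀ i, R i ≠ ⊥) {g : AddSubgroup M} (hg : IsAx (H := H) Ax g) {u : M}
    (h : ∀ t ∈ TT T Ax g, t • u = u) : u ∈ g := by
  by_contra hug
  obtain ⟨x, i, rfl⟩ := hg
  obtain ⟨r, hr, hr0⟩ := (AddSubgroup.bot_or_exists_ne_zero (R i)).resolve_left (hR i)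
  have h1 : x • r ∈ YY H Ax R (x • Ax i) := AddSubgroup.subset_closure ⟨x, i, rfl, r, hr, rfl⟩
  obtain ⟨t, ht, htu⟩ := D.TT_full hug h1
  rw [h t ht] at htu
  have h2 : x • r = 0 := left_eq_add.1 htu
  exact hr0 ((smul_eq_zero_iff_eq x).1 h2)

namespace Comp

variable {ι : Type*} {T : ι → Subgroup H} {Ax R : ι → AddSubgroup M} {A : Set (AddSubgroup M)}
  {N : Subgroup H} {U : AddSubgroup M} (C : Comp T Ax R A N U)
include C

theorem card_axes {n : H} (hn : n ∈ N) (x : M) :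
    {g | g ∈ A ∧ n • x ∈ g}.ncard = {g | g ∈ A ∧ x ∈ g}.ncard := by
  have h1 : {g | g ∈ A ∧ n • x ∈ g} = (fun g : AddSubgroup M => n • g) '' {g | g ∈ A ∧ x ∈ g} := by
    ext g
    constructor
    · rintro ⟨hg, hx⟩
      refine ⟨n⁻¹ • g, ⟨C.inv n⁻¹ (inv_mem hn) g hg, ?_⟩, smul_inv_smul n g⟩
      rw [mem_smul, inv_inv]
      exact hx
    · rintro ⟨g', ⟨hg', hx⟩, rfl⟩
      exact ⟨C.inv n hn g' hg', AddSubgroup.smul_mem_pointwise_smul _ _ _ hx⟩
  rw [h1, Set.ncard_image_of_injective _ (MulAction.injective n)]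

variable [Finite M]

/-- A vector `y ≠ 0` of the hull of `x` lies in the same axes as `x`. -/
theorem mem_iff_of_mem_hull {x y : M} (hx : x ∈ U) (hx0 : x ≠ 0) (hy : y ∈ hull A U x) (hy0 : y ≠ 0)
    {g : AddSubgroup M} (hg : g ∈ A) : y ∈ g ↔ x ∈ g := by
  obtain ⟨n, hn, hnx⟩ := C.tr x hx hx0 y hy.1 hy0
  have h1 : {g | g ∈ A ∧ x ∈ g} ⊆ {g | g ∈ A ∧ y ∈ g} := fun g hg => ⟨hg.1, hy.2 g hg.1 hg.2⟩
  have h2 := C.card_axes hn x
  rw [hnx] at h2
  have h3 := Set.eq_of_subset_of_ncard_le h1 h2.le (Set.toFinite _)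
  constructor
  · intro hyg
    have h4 : g ∈ {g | g ∈ A ∧ y ∈ g} := ⟨hg, hyg⟩
    rw [← h3] at h4
    exact h4.2
  · exact fun hxg => hy.2 g hg hxg

omit [Finite M] in
theorem root_le_hull {c : H} {i : ι} (hc : c • Ax i ∈ A) {x : M} (hx : x ∈ c • R i) (hx0 : x ≠ 0) :
    c • R i ≤ hull A U x := by
  intro y hy
  refine ⟨C.root c i hc hy, fun g hg hxg => ?_⟩
  by_contra hyg
  have h1 : ¬ c • R i ≤ g := fun h => hyg (h hy)
  exact hx0 ((C.ti (C.isax g hg) c i h1).1 x hx hxg)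

/-- **The hull of `x` is the centre containing `x`.** -/
theorem hull_eq {c : H} {i : ι} (hc : c • Ax i ∈ A) {x : M} (hx : x ∈ c • R i) (hx0 : x ≠ 0) :
    hull A U x = c • R i := by
  refine le_antisymm ?_ (C.root_le_hull hc hx hx0)
  intro y hy
  have hxU : x ∈ U := C.root c i hc hx
  obtain ⟨g, hg, hxg⟩ := C.sep x hxU hx0
  have h1 : ¬ c • R i ≤ g := fun h => hxg (h hx)
  obtain ⟨r, hr, hry⟩ := (C.ti (C.isax g hg) c i h1).2 y
  have h2 : r + y ∈ hull A U x := add_mem (C.root_le_hull hc hx hx0 hr) hy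
  by_cases h0 : r + y = 0
  · have h3 : y = -r := (neg_eq_of_add_eq_zero_right h0).symm
    rw [h3]
    exact neg_mem hr
  · exact absurd ((C.mem_iff_of_mem_hull hxU hx0 h2 h0 hg).1 hry) hxg

/-- Two centres with a common non-zero vector are equal. -/
theorem root_eq {c d : H} {i j : ι} (hc : c • Ax i ∈ A) (hd : d • Ax j ∈ A) {x : M} (hx : x ∈ c • R i)
    (hx' : x ∈ d • R j) (hx0 : x ≠ 0) : c • R i = d • R j := by
  rw [← C.hull_eq hc hx hx0, C.hull_eq hd hx' hx0]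

omit [Finite M] in
/-- Every vector of `U` lies in a centre. -/
theorem exists_root {c : H} {i : ι} (hc : c • Ax i ∈ A) {x : M} (hx : x ∈ U) :
    ∃ n ∈ N, (n * c) • Ax i ∈ A ∧ x ∈ (n * c) • R i := by
  by_cases hx0 : x = 0
  · exact ⟨1, one_mem _, by rwa [one_mul], by rw [hx0]; exact zero_mem _⟩
  · obtain ⟨r, hr, hr0⟩ := (AddSubgroup.bot_or_exists_ne_zero (R i)).resolve_left (C.rne i)
    have h1 : c • r ∈ c • R i := AddSubgroup.smul_mem_pointwise_smul _ _ _ hr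
    have h2 : c • r ≠ 0 := fun h => hr0 ((smul_eq_zero_iff_eq c).1 h)
    obtain ⟨n, hn, hnx⟩ := C.tr _ (C.root c i hc h1) h2 x hx hx0
    refine ⟨n, hn, ?_, ?_⟩
    · rw [mul_smul]
      exact C.inv n hn _ hc
    · rw [mul_smul, ← hnx]
      exact AddSubgroup.smul_mem_pointwise_smul _ _ _ h1

/-- If all axes containing `u` contain `R i`, then `u ∈ R i`. -/
theorem mem_root {i : ι} (hi : Ax i ∈ A) {u : M} (hu : u ∈ U) (h : ∀ g ∈ A, u ∈ g → R i ≤ g) : u ∈ R i := by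
  by_cases hu0 : u = 0
  · rw [hu0]
    exact zero_mem _
  obtain ⟨r, hr, hr0⟩ := (AddSubgroup.bot_or_exists_ne_zero (R i)).resolve_left (C.rne i)
  have h1 : (1 : H) • Ax i ∈ A := by rwa [one_smul]
  have hr1 : r ∈ (1 : H) • R i := by rwa [one_smul]
  have hrU : r ∈ U := C.root 1 i h1 hr1
  have h2 : r ∈ hull A U u := ⟨hrU, fun g hg hug => h g hg hug hr⟩
  have h3 : u ∈ hull A U r := ⟨hu, fun g hg hrg => (C.mem_iff_of_mem_hull hu hu0 h2 hr0 hg).1 hrg⟩
  rw [C.hull_eq h1 hr1 hr0, one_smul] at h3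
  exact h3

end Comp

/-- **The components of `z` lie in the `R i`.** -/
theorem mem_root_sum {ι : Type*} [Fintype ι] [Finite M] {T : ι → Subgroup H} {Ax R : ι → AddSubgroup M}
    {A : ι → Set (AddSubgroup M)} {N : ι → Subgroup H} {U : ι → AddSubgroup M} {I : AddSubgroup M}
    (C : ∀ i, Comp T Ax R (A i) (N i) (U i)) (hi : ∀ i, Ax i ∈ A i)
    (hfix : ∀ i, ∀ g ∈ A i, ∀ t ∈ TT T Ax g, (∀ j, j ≠ i → ∀ u ∈ U j, t • u = u) ∧ ∀ u ∈ I, t • u = u)
    {f : ι → M} (hf : ∀ i, f i ∈ U i) {w z : M} (hw : w ∈ I) (hz : z = ∑ i, f i + w)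
    (two : ∀ i, ∀ a ∈ T i, ∀ b : H, b • z = z → (∀ u : M, b • b • u = u) →
      ∃ n : ℕ, ∀ u : M, ((b * a) ^ (2 ^ n)) • u = u) (i : ι) : f i ∈ R i := by
  classical
  refine (C i).mem_root (hi i) (hf i) fun g hg hfg => ?_
  have hax := (C i).isax g hg
  refine five (C i).toRt hax two ?_ i
  rw [hz, ← Finset.add_sum_erase Finset.univ f (Finset.mem_univ i)]
  refine add_mem (add_mem hfg (g.sum_mem fun j hj => ?_)) ?_
  · rw [Finset.mem_erase] at hj
    exact mem_of_fix (C i).toRt (C i).rne hax fun t ht => (hfix i g hg t ht).1 j hj.1 _ (hf j)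
  · exact mem_of_fix (C i).toRt (C i).rne hax fun t ht => (hfix i g hg t ht).2 _ hw

end Cfsg.Agent.Omega.NOThreeL.RSplit.Hull

end

section


/-!
# NO-3L, box R, `q > 2`, split (helper797 #19602 (5)): `H` minimal, the decomposition `U = (⊕ U_i) ⊕ I`, abstract

`Fv T Ax R z Z` : root groups with THEOREM EXACT (`Ex`), a full vector `∑ z i` with the situation `Sit` (616's
transitivity), and a set `Z` of vectors generating `M` under `H`, each in all axes or with its own situation and with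
`two` (`V ≤ O₂(C_H(u))`).  With `c_i` = the component of `Ax i`, `U_i = UC (Ax i)`, `N_i = NC (Ax i)`, `I` = the vectors
in all axes:

* `Fv.comp` : 877's `Comp`; `Fv.cover` : every axis is in some `c_i`; `Fv.hfix` : `TT g`, `g ∈ c_i`, centralises the other
  `U_j` and `I`; `Fv.uniq` : the sum `U_1 + .. + U_k + I` is direct; `Fv.span` : it is everything;
* `Fv.zmem` : `Z ⊆ (∑ R_i) + I`; `Fv.zfix` : the two parts of `u ∈ Z` are fixed by every `s` which fixes `u` and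
  normalises `∑ R_i`;
* `Fv.fuse` : the vectors `∑ f i`, `0 ≠ f i ∈ U_i`, are conjugate under `N`.
-/

set_option autoImplicit false
set_option linter.unusedSectionVars false

namespace Cfsg.Agent.Omega.NOThreeL.RSplit.Five

open scoped Pointwise
open Cfsg.Agent.Omega.NOThreeL.ThmAx (Full IsAx TT YY Adj mem_smul smul_eq_of YY_smul YY_smul_eq adj_smul IsAx.smul)
open Cfsg.Agent.Omega.NOThreeL.RSplit.Root (Rt Ex)
open Cfsg.Agent.Omega.NOThreeL.RSplit.Hull (Comp hull mem_of_fix mem_root_sum)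
open Cfsg.Agent.Omega.NOThreeL.RBig.Trans (AxSys Sit Cp NC UC NN Walk)
open Cfsg.Agent.Omega.NOThreeL.RSplit.TransRt (Axs)

variable {H M : Type*} [Group H] [AddCommGroup M] [DistribMulAction H M]
variable {ι : Type*}

section defs

variable (T : ι → Subgroup H) (Ax R : ι → AddSubgroup M)

variable (H) in
/-- the component of `Ax i` -/
def Cpt (i : ι) : Set (AddSubgroup M) := Cp (Axs H Ax) (YY H Ax R) (Ax i)

/-- its group -/
def Nc (i : ι) : Subgroup H := NC (Axs H Ax) (TT T Ax) (YY H Ax R) (Ax i)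

variable (H) in
/-- its commutator -/
def Uc (i : ι) : AddSubgroup M := UC (Axs H Ax) (YY H Ax R) (Ax i)

variable (H) in
/-- the vectors in all axes -/
def Ic : AddSubgroup M where
  carrier := {m | ∀ g, IsAx (H := H) Ax g → m ∈ g}
  zero_mem' := fun g _ => g.zero_mem
  add_mem' := fun ha hb g hg => g.add_mem (ha g hg) (hb g hg)
  neg_mem' := fun ha g hg => g.neg_mem (ha g hg)

end defs

/-- The hypotheses of #19602 (5). -/
structure Fv [Fintype ι] (T : ι → Subgroup H) (Ax R : ι → AddSubgroup M) (z : ι → M) (Z : Set M) : Prop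
    extends Ex T Ax R where
  zR : ∀ i, z i ∈ R i
  z0 : ∀ i, z i ≠ 0
  sit : Sit (Axs H Ax) (TT T Ax) (YY H Ax R) (∑ i, z i)
  one : ∀ u ∈ Z, u ∈ Ic H Ax ∨ Sit (Axs H Ax) (TT T Ax) (YY H Ax R) u
  gen : AddSubgroup.closure {m : M | ∃ (h : H), ∃ u ∈ Z, m = h • u} = ⊤
  two : ∀ u ∈ Z, u ∉ Ic H Ax → ∀ i, ∀ a ∈ T i, ∀ b : H, b • u = u → (∀ m : M, b • b • m = m) →
      ∃ n : ℕ, ∀ m : M, ((b * a) ^ (2 ^ n)) • m = m

/-- a walk is a chain of adjacencies -/
theorem reach_of_walk {Ax R : ι → AddSubgroup M} {n : ℕ} {K g : AddSubgroup M}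
    (h : Walk (Axs H Ax) (YY H Ax R) n K g) :
    Relation.ReflTransGen (fun g g' => IsAx (H := H) Ax g' ∧ Adj H Ax R g g') K g := by
  induction h with
  | zero => exact Relation.ReflTransGen.refl
  | step _ hg' ha ih => exact Relation.ReflTransGen.tail ih ⟨hg', ha⟩

theorem eq_of_mem_Cpt [Fintype ι] [Finite M] {T : ι → Subgroup H} {Ax R : ι → AddSubgroup M} (E : Ex T Ax R)
    {i j : ι} (h : Ax j ∈ Cpt H Ax R i) : i = j := by
  obtain ⟨n, hn⟩ := h
  exact E.not_reach (reach_of_walk hn)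

namespace Fv

variable [Fintype ι] [Finite H] [Finite M] {T : ι → Subgroup H} {Ax R : ι → AddSubgroup M} {z : ι → M} {Z : Set M}
  (D : Fv T Ax R z Z)
include D

omit [Finite H] in
theorem axSys : AxSys (Axs H Ax) (TT T Ax) (YY H Ax R) := TransRt.axSys D.toRt D.big

omit [Finite H] in
theorem Cpt_eq {i : ι} {g : AddSubgroup M} (hg : g ∈ Cpt H Ax R i) : Cp (Axs H Ax) (YY H Ax R) g = Cpt H Ax R i :=
  D.axSys.Cp_eq hg

omit [Finite H] in
/-- different components -/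
theorem not_mem {i j : ι} (hij : i ≠ j) {g : AddSubgroup M} (hg : g ∈ Cpt H Ax R i) : g ∉ Cpt H Ax R j := by
  intro h
  refine hij.symm (eq_of_mem_Cpt D.toEx (i := j) (j := i) ?_)
  rw [← D.Cpt_eq h, D.Cpt_eq hg]
  exact AxSys.self_mem (Rt.isAx Ax i)

omit [Finite H] in
theorem Uc_le {i j : ι} (hij : i ≠ j) {g : AddSubgroup M} (hg : g ∈ Cpt H Ax R i) : Uc H Ax R j ≤ g :=
  D.axSys.UC_le (D.axSys.mem_A hg) (D.not_mem hij hg)

omit [Finite H] in
theorem Uc_inv {i : ι} {n : H} (hn : n ∈ Nc T Ax R i) {u : M} (hu : u ∈ Uc H Ax R i) : n • u ∈ Uc H Ax R i := by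
  have h1 := add_mem (D.axSys.NC_quad hn u) hu
  rwa [D.axSys.add_add_self] at h1

/-- **877's `Comp`.** -/
theorem comp (i : ι) : Comp T Ax R (Cpt H Ax R i) (Nc T Ax R i) (Uc H Ax R i) where
  toRt := D.toRt
  ti := fun hg x i hx => D.toEx.ti hg x i hx
  isax := fun _ hg => D.axSys.mem_A hg
  inv := fun n hn g hg => by
    have h1 := D.axSys.NN_Cp (D.axSys.mem_A hg) (D.axSys.NC_le_NN hn)
    rw [D.Cpt_eq hg] at h1
    exact h1
  root := fun x j hx y hy => by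
    have h1 : y ∈ YY H Ax R (x • Ax j) := by
      rw [YY_smul_eq]
      obtain ⟨r, hr, rfl⟩ := hy
      exact AddSubgroup.smul_mem_pointwise_smul _ _ _ (Rt.R_le_YY j hr)
    exact AxSys.YY_le_UC hx h1
  uinv := fun _ hn _ hu => D.Uc_inv hn hu
  tr := fun x hx hx0 y hy hy0 => D.sit.transU (Rt.isAx Ax i) hx hx0 hy hy0
  sep := fun x hx hx0 => by
    by_contra hcon
    push Not at hcon
    exact hx0 (D.sit.inf (Rt.isAx Ax i) hx hcon)
  rne := fun j h => by
    have h1 := D.big j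
    rw [h, AddSubgroup.card_bot] at h1
    omega

omit [Finite H] [Finite M] in
theorem R_le_Uc (i : ι) : R i ≤ Uc H Ax R i := (Rt.R_le_YY i).trans (AxSys.YY_le_UC (AxSys.self_mem (Rt.isAx Ax i)))

omit [Finite H] [Finite M] D in
theorem self_mem (i : ι) : Ax i ∈ Cpt H Ax R i := AxSys.self_mem (Rt.isAx Ax i)

/-- **Every axis is in some `c_i`.** -/
theorem cover {g : AddSubgroup M} (hg : IsAx (H := H) Ax g) : ∃ i, g ∈ Cpt H Ax R i := by
  classical
  obtain ⟨h, i, rfl⟩ := hg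
  obtain ⟨n, hn, hc⟩ := D.sit.gen h
  obtain ⟨c, hc'⟩ : ∃ c, c = n⁻¹ * h := ⟨_, rfl⟩
  rw [← hc'] at hc
  have e : h = n * c := by rw [hc', mul_inv_cancel_left]
  -- `c` fixes `z₀`
  have key : ∃ j, c • Ax i ∈ Cpt H Ax R j := by
    by_contra hcon
    push Not at hcon
    -- a member of `c c_i` not containing `c z_i`
    obtain ⟨g, hg, hzg⟩ := (D.comp i).sep (z i) (D.R_le_Uc i (D.zR i)) (D.z0 i)
    have h1 : c • g ∈ Cp (Axs H Ax) (YY H Ax R) (c • Ax i) := by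
      rw [D.axSys.smul_Cp]
      rw [Set.mem_ofPred_eq, inv_smul_smul]
      exact hg
    have hgA := D.axSys.mem_A h1
    have h2 : ∀ j, c • g ∉ Cpt H Ax R j := fun j hj => by
      apply hcon j
      rw [← D.Cpt_eq hj, D.axSys.Cp_eq h1]
      exact AxSys.self_mem (IsAx.smul (Rt.isAx Ax i) c)
    have h3 : ∀ j, z j ∈ c • g := fun j =>
      D.axSys.UC_le hgA (h2 j) (D.R_le_Uc j (D.zR j))
    have h4 : ∀ j, j ≠ i → c • z j ∈ c • g := fun j hj =>
      AddSubgroup.smul_mem_pointwise_smul _ _ _ (D.Uc_le hj.symm hg (D.R_le_Uc j (D.zR j)))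
    have h5 : c • z i ∈ c • g := by
      have h6 : c • ∑ j, z j ∈ c • g := by
        rw [hc]
        exact (c • g).sum_mem fun j _ => h3 j
      rw [← Finset.add_sum_erase Finset.univ z (Finset.mem_univ i), smul_add, Finset.smul_sum] at h6
      exact ((c • g).add_mem_cancel_right ((c • g).sum_mem fun j hj => h4 j (Finset.ne_of_mem_erase hj))).1 h6
    rw [mem_smul, inv_smul_smul] at h5
    exact hzg h5
  obtain ⟨j, hj⟩ := key
  refine ⟨j, ?_⟩
  have h1 := D.axSys.NN_Cp (D.axSys.mem_A hj) hn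
  rw [D.Cpt_eq hj] at h1
  rwa [e, mul_smul]

omit [Finite H] in
/-- the root groups of `c_i` centralise the other `U_j` and `I` -/
theorem hfix (i : ι) : ∀ g ∈ Cpt H Ax R i, ∀ t ∈ TT T Ax g,
    (∀ j, j ≠ i → ∀ u ∈ Uc H Ax R j, t • u = u) ∧ ∀ u ∈ Ic H Ax, t • u = u := by
  intro g hg t ht
  have hgA := D.axSys.mem_A hg
  exact ⟨fun j hj u hu => D.axSys.fix g hgA t ht u (D.Uc_le hj.symm hg hu),
    fun u hu => D.axSys.fix g hgA t ht u (hu g hgA)⟩

omit [Finite H] in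
/-- `N_i` centralises the other `U_j` and `I` -/
theorem Nc_fix {i : ι} {n : H} (hn : n ∈ Nc T Ax R i) :
    (∀ j, j ≠ i → ∀ u ∈ Uc H Ax R j, n • u = u) ∧ ∀ u ∈ Ic H Ax, n • u = u := by
  constructor
  · intro j hj u hu
    exact D.axSys.NC_fix (fun g hg => D.Uc_le hj.symm hg hu) hn
  · intro u hu
    exact D.axSys.NC_fix (fun g hg => hu g (D.axSys.mem_A hg)) hn

/-- **The sum `U_1 + .. + U_k + I` is direct.** -/
theorem uniq {f : ι → M} (hf : ∀ i, f i ∈ Uc H Ax R i) {w : M} (hw : w ∈ Ic H Ax) (h : ∑ i, f i + w = 0) :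
    (∀ i, f i = 0) ∧ w = 0 := by
  classical
  have key : ∀ i, f i = 0 := by
    intro i
    by_contra h0
    obtain ⟨g, hg, hfg⟩ := (D.comp i).sep (f i) (hf i) h0
    apply hfg
    have h1 : ∑ i, f i + w ∈ g := by rw [h]; exact g.zero_mem
    rw [← Finset.add_sum_erase Finset.univ f (Finset.mem_univ i), add_assoc] at h1
    refine (g.add_mem_cancel_right (g.add_mem (g.sum_mem fun j hj => ?_) (hw g (D.axSys.mem_A hg)))).1 h1
    exact D.Uc_le (Finset.ne_of_mem_erase hj).symm hg (hf j)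
  refine ⟨key, ?_⟩
  rwa [Finset.sum_eq_zero fun i _ => key i, zero_add] at h

/-- every `y ∈ [M, N]` is a sum of elements of the `U_i` -/
theorem exists_of_mem {y : M} (hy : y ∈ ⨆ g ∈ Axs H Ax, YY H Ax R g) :
    ∃ f : ι → M, (∀ i, f i ∈ Uc H Ax R i) ∧ y = ∑ i, f i := by
  classical
  let X : AddSubgroup M :=
    { carrier := {y | ∃ f : ι → M, (∀ i, f i ∈ Uc H Ax R i) ∧ y = ∑ i, f i}
      zero_mem' := ⟨fun _ => 0, fun _ => zero_mem _, by simp only [_root_.Finset.sum_const_zero]⟩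
      add_mem' := by
        rintro _ _ ⟨f, hf, rfl⟩ ⟨f', hf', rfl⟩
        exact ⟨fun i => f i + f' i, fun i => add_mem (hf i) (hf' i), Finset.sum_add_distrib.symm⟩
      neg_mem' := by
        rintro _ ⟨f, hf, rfl⟩
        exact ⟨fun i => - f i, fun i => neg_mem (hf i), (Finset.sum_neg_distrib _).symm⟩ }
  have hX : (⨆ g ∈ Axs H Ax, YY H Ax R g) ≤ X := by
    refine iSup₂_le fun g hg y hy => ?_
    obtain ⟨i, hi⟩ := D.cover hg
    refine ⟨fun j => if j = i then y else 0, fun j => ?_, ?_⟩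
    · by_cases h : j = i
      · subst h
        simp only [if_true]
        exact AxSys.YY_le_UC hi hy
      · simp only [if_neg h]
        exact zero_mem _
    · rw [Finset.sum_ite_eq' Finset.univ i (fun _ => y), if_pos (Finset.mem_univ i)]
  exact hX hy

/-- `Z ⊆ [M, N] + I` -/
theorem zall {u : M} (hu : u ∈ Z) : ∃ f : ι → M, (∀ i, f i ∈ Uc H Ax R i) ∧ ∃ w ∈ Ic H Ax, u = ∑ i, f i + w := by
  rcases D.one u hu with h | h
  · exact ⟨fun _ => 0, fun _ => zero_mem _, u, h, by simp only [_root_.Finset.sum_const_zero, _root_.zero_add]⟩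
  · obtain ⟨y, hy, h1⟩ := h.mem_all
    obtain ⟨f, hf, rfl⟩ := D.exists_of_mem hy
    refine ⟨f, hf, u + ∑ i, f i, h1, ?_⟩
    rw [add_comm u, ← add_assoc, D.char2, zero_add]

/-- `h • U_i = U_j` for some `j` -/
theorem smul_Uc (h : H) (i : ι) : ∃ j, h • Uc H Ax R i = Uc H Ax R j := by
  obtain ⟨j, hj⟩ := D.cover (IsAx.smul (Rt.isAx Ax i) h)
  refine ⟨j, ?_⟩
  have key : ∀ (h : H) (i j : ι), h • Ax i ∈ Cpt H Ax R j → h • Uc H Ax R i ≤ Uc H Ax R j := by
    intro h i j hj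
    have h1 : Uc H Ax R i ≤ h⁻¹ • Uc H Ax R j := by
      refine iSup₂_le fun g hg y hy => ?_
      rw [mem_smul, inv_inv]
      have h2 : h • g ∈ Cpt H Ax R j := by
        rw [← D.Cpt_eq hj, D.axSys.smul_Cp]
        rw [Set.mem_ofPred_eq, inv_smul_smul]
        exact hg
      refine AxSys.YY_le_UC h2 ?_
      rw [YY_smul_eq]
      exact AddSubgroup.smul_mem_pointwise_smul _ _ _ hy
    intro y hy
    rw [mem_smul] at hy
    have h2 := h1 hy
    rwa [mem_smul, inv_inv, smul_inv_smul] at h2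
  refine le_antisymm (key h i j hj) ?_
  have h3 : h⁻¹ • Ax j ∈ Cpt H Ax R i := by
    have h4 : Ax j ∈ Cp (Axs H Ax) (YY H Ax R) (h • Ax i) := by
      rw [D.Cpt_eq hj]
      exact self_mem j
    rw [D.axSys.smul_Cp] at h4
    exact h4
  have h5 := key h⁻¹ j i h3
  intro y hy
  rw [mem_smul]
  exact h5 (AddSubgroup.smul_mem_pointwise_smul _ _ _ hy)

omit [Fintype ι] [Finite H] [Finite M] D in
theorem Ic_smul {h : H} {w : M} (hw : w ∈ Ic H Ax) : h • w ∈ Ic H Ax := fun g hg => by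
  have h1 := hw (h⁻¹ • g) (IsAx.smul hg h⁻¹)
  rwa [mem_smul, inv_inv] at h1

/-- **`M = U_1 + .. + U_k + I`.** -/
theorem span : (⨆ i, Uc H Ax R i) ⊔ Ic H Ax = ⊤ := by
  rw [eq_top_iff, ← D.gen, AddSubgroup.closure_le]
  rintro _ ⟨h, u, hu, rfl⟩
  obtain ⟨f, hf, w, hw, rfl⟩ := D.zall hu
  rw [smul_add, Finset.smul_sum]
  refine add_mem (sum_mem fun i _ => ?_) (AddSubgroup.mem_sup_right (Ic_smul hw))
  obtain ⟨j, hj⟩ := D.smul_Uc h i
  refine AddSubgroup.mem_sup_left (AddSubgroup.mem_iSup_of_mem j ?_)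
  rw [← hj]
  exact AddSubgroup.smul_mem_pointwise_smul _ _ _ (hf i)

/-- every vector -/
theorem dec (m : M) : ∃ f : ι → M, (∀ i, f i ∈ Uc H Ax R i) ∧ ∃ w ∈ Ic H Ax, m = ∑ i, f i + w := by
  have h1 : m ∈ (⨆ i, Uc H Ax R i) ⊔ Ic H Ax := by rw [D.span]; trivial
  obtain ⟨y, hy, w, hw, rfl⟩ := AddSubgroup.mem_sup.1 h1
  have h2 : (⨆ i, Uc H Ax R i) ≤ ⨆ g ∈ Axs H Ax, YY H Ax R g := iSup_le fun i => iSup₂_le fun g hg =>
    le_iSup₂_of_le g (D.axSys.mem_A hg) le_rfl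
  obtain ⟨f, hf, rfl⟩ := D.exists_of_mem (h2 hy)
  exact ⟨f, hf, w, hw, rfl⟩

/-- **`Z ⊆ (∑ R_i) + I`** -/
theorem zmem {u : M} (hu : u ∈ Z) : ∃ f : ι → M, (∀ i, f i ∈ R i) ∧ ∃ w ∈ Ic H Ax, u = ∑ i, f i + w := by
  by_cases h : u ∈ Ic H Ax
  · exact ⟨fun _ => 0, fun _ => zero_mem _, u, h, by simp only [_root_.Finset.sum_const_zero, _root_.zero_add]⟩
  obtain ⟨f, hf, w, hw, e⟩ := D.zall hu
  exact ⟨f, mem_root_sum D.comp self_mem D.hfix hf hw e (D.two u hu h), w, hw, e⟩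

/-- if `u ∉ I` then some component is not zero -/
theorem exists_ne {u : M} (hu : u ∉ Ic H Ax) {f : ι → M} {w : M} (hw : w ∈ Ic H Ax)
    (e : u = ∑ i, f i + w) : ∃ i, f i ≠ 0 := by
  by_contra hcon
  push Not at hcon
  rw [Finset.sum_eq_zero fun i _ => hcon i, zero_add] at e
  exact hu (e ▸ hw)

/-- **The two parts of `u ∈ Z` are fixed by what fixes `u` and normalises `∑ R_i`.** -/
theorem zfix {f : ι → M} (hf : ∀ i, f i ∈ R i) {w : M} (hw : w ∈ Ic H Ax) {s : H}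
    (hs : s • (∑ i, f i + w) = ∑ i, f i + w) (hR : ∀ i, s • R i ≤ ⨆ j, R j) :
    s • ∑ i, f i = ∑ i, f i ∧ s • w = w := by
  classical
  have h1 : s • ∑ i, f i ∈ ⨆ j, R j := by
    rw [Finset.smul_sum]
    exact sum_mem fun i _ => hR i (AddSubgroup.smul_mem_pointwise_smul _ _ _ (hf i))
  have h2 : ∑ i, f i ∈ ⨆ j, R j := sum_mem fun i _ => AddSubgroup.mem_iSup_of_mem i (hf i)
  have h3 : s • ∑ i, f i - ∑ i, f i ∈ ⨆ g ∈ Axs H Ax, YY H Ax R g := by
    refine (iSup_le fun i => ?_ : (⨆ j, R j) ≤ _) (sub_mem h1 h2)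
    exact (Rt.R_le_YY i).trans (le_iSup₂_of_le (Ax i) (Rt.isAx Ax i) le_rfl)
  obtain ⟨f', hf', e'⟩ := D.exists_of_mem h3
  have h4 : ∑ i, f' i + (s • w - w) = 0 := by
    rw [← e']
    rw [smul_add] at hs
    have : s • ∑ i, f i - ∑ i, f i + (s • w - w) = (s • ∑ i, f i + s • w) - (∑ i, f i + w) := by abel
    rw [this, hs, sub_self]
  obtain ⟨h5, h6⟩ := D.uniq hf' (sub_mem (Ic_smul hw) hw) h4
  refine ⟨?_, sub_eq_zero.1 h6⟩
  rw [← sub_eq_zero, e']
  exact Finset.sum_eq_zero fun i _ => h5 i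

/-- **`N_1 × .. × N_k` fuses the vectors all of whose components are `≠ 0`.** -/
theorem fuse {f f' : ι → M} (hf : ∀ i, f i ∈ Uc H Ax R i) (hf0 : ∀ i, f i ≠ 0) (hf' : ∀ i, f' i ∈ Uc H Ax R i)
    (hf0' : ∀ i, f' i ≠ 0) : ∃ n ∈ NN (Axs H Ax) (TT T Ax), n • ∑ i, f i = ∑ i, f' i := by
  classical
  have key : ∀ s : Finset ι, ∃ n ∈ NN (Axs H Ax) (TT T Ax), n • ∑ i, f i = ∑ i, if i ∈ s then f' i else f i := by
    intro s
    induction s using Finset.induction_on with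
    | empty => exact ⟨1, one_mem _, by simp only [_root_.one_smul, _root_.Finset.notMem_empty, ↓ _root_.reduceIte]⟩
    | insert j s hj ih =>
      obtain ⟨n, hn, e⟩ := ih
      obtain ⟨m, hm, hmj⟩ := (D.comp j).tr (f j) (hf j) (hf0 j) (f' j) (hf' j) (hf0' j)
      refine ⟨m * n, mul_mem (D.axSys.NC_le_NN hm) hn, ?_⟩
      rw [mul_smul, e, Finset.smul_sum]
      refine Finset.sum_congr rfl fun i _ => ?_
      by_cases h1 : i = j
      · subst h1
        rw [if_neg hj, if_pos (Finset.mem_insert_self _ _), hmj]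
      · by_cases h2 : i ∈ s
        · rw [if_pos h2, if_pos (Finset.mem_insert_of_mem h2)]
          exact (D.Nc_fix hm).1 i h1 _ (hf' i)
        · rw [if_neg h2, if_neg (fun h3 => h2 ((Finset.mem_insert.1 h3).resolve_left h1))]
          exact (D.Nc_fix hm).1 i h1 _ (hf i)
  obtain ⟨n, hn, e⟩ := key Finset.univ
  exact ⟨n, hn, by simpa only [_root_.Finset.mem_univ, ↓ _root_.reduceIte] using e⟩

end Fv

end Cfsg.Agent.Omega.NOThreeL.RSplit.Five

end

private theorem dce_8a0a267a8774 : _root_.True := by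
  try have : _root_.True := by simp only [_root_.Cfsg.Agent.Omega.NOThreeL.RBig.Trans.NC.eq_1]
  try have : _root_.True := by simp only [_root_.Cfsg.Agent.Omega.NOThreeL.RBig.Trans.UC.eq_1]
  try have : _root_.True := by simp only [_root_.Cfsg.Agent.Omega.NOThreeL.RBig.Trans.Sit.Orb.congr_simp]
  try have : _root_.True := by simp only [_root_.Cfsg.Agent.Omega.NOThreeL.RBig.Trans.Sit.Orb.eq_1]
  exact _root_.True.intro
end
end
end
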